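import Cfsg.Agent.Lib.Pres.SpData

/-!
The conditions hold in the symplectic group, and the corresponding elements generate it.
-/

set_option autoImplicit false

namespace CfsgLib.Pres.SpR

open Matrix Equiv CfsgLib.Classical CfsgLib.Steinberg CfsgLib.Steinberg.R1Data
open scoped MatrixGroups commutatorElement

variable {l : Type*} [Fintype l] [DecidableEq l] {F : Type*} [Field F]

/-- permutation of the pairs -/
def permSp : Perm l →* Matrix.symplecticGroup l F where
  toFun σ := ⟨(1 : Matrix (l ⊕ l) (l ⊕ l) F).submatrix (Sum.map ⇑σ⁻¹ ⇑σ⁻¹) id,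
    mem_symplecticGroup_iff_sbil.2 fun u v => by
      have h : ∀ w : l ⊕ l → F, (1 : Matrix (l ⊕ l) (l ⊕ l) F).submatrix (Sum.map ⇑σ⁻¹ ⇑σ⁻¹) id *ᵥ w =
          w ∘ Sum.map ⇑σ⁻¹ ⇑σ⁻¹ := fun w => by
        funext m; simp [mulVec, dotProduct, Matrix.one_apply]
      rw [h, h, sbil_apply, sbil_apply, ← Equiv.sum_comp σ]
      simp⟩
  map_one' := Subtype.ext (by ext a b; cases a <;> cases b <;> simp [Matrix.one_apply])
  map_mul' σ τ := by
    refine sp_ext fun w => ?_
    rw [sp_mul_mulVec]
    funext m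
    cases m <;> simp [mulVec, dotProduct, Matrix.one_apply, Perm.mul_apply]

theorem permSp_mulVec (σ : Perm l) (v : l ⊕ l → F) :
    (permSp (F := F) σ).1 *ᵥ v = v ∘ Sum.map ⇑σ⁻¹ ⇑σ⁻¹ := by
  funext m; simp [permSp, mulVec, dotProduct, Matrix.one_apply]

theorem permSp_bv (σ : Perm l) (A : l ⊕ l) :
    (permSp σ).1 *ᵥ (bv A : l ⊕ l → F) = bv (Sum.map σ σ A) := by
  rw [permSp_mulVec]
  funext m
  rcases m with m | m <;> rcases A with a | a <;>
    simp [bv, Pi.single_apply, Equiv.symm_apply_eq]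

/-- action on one pair -/
def embVec (i : l) (g : Matrix (Fin 2) (Fin 2) F) (v : l ⊕ l → F) : l ⊕ l → F :=
  Sum.elim (fun k => if k = i then g 0 0 * v (.inl i) + g 0 1 * v (.inr i) else v (.inl k))
    (fun k => if k = i then g 1 0 * v (.inl i) + g 1 1 * v (.inr i) else v (.inr k))

/-- matrix of the action on one pair -/
def embMat (i : l) (g : Matrix (Fin 2) (Fin 2) F) : Matrix (l ⊕ l) (l ⊕ l) F :=
  Matrix.of fun A B => embVec i g (Pi.single B 1) A

theorem embMat_mulVec (i : l) (g : Matrix (Fin 2) (Fin 2) F) (v : l ⊕ l → F) :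
    embMat i g *ᵥ v = embVec i g v := by
  let L : (l ⊕ l → F) →ₗ[F] (l ⊕ l → F) :=
    { toFun := embVec i g
      map_add' := fun u w => by
        funext m; rcases m with m | m <;> by_cases h : m = i <;> simp [embVec, h] <;> ring
      map_smul' := fun c u => by
        funext m; rcases m with m | m <;> by_cases h : m = i <;> simp [embVec, h] <;> ring }
  have : embMat i g = LinearMap.toMatrix' L := by
    ext A B; simp [embMat, L, LinearMap.toMatrix'_apply]
  rw [this, LinearMap.toMatrix'_mulVec]; rfl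

/-- the rank one subgroup on one pair -/
def embSp (i : l) : SL(2, F) →* Matrix.symplecticGroup l F where
  toFun g := ⟨embMat i g.1, mem_symplecticGroup_iff_sbil.2 fun u v => by
    rw [embMat_mulVec, embMat_mulVec, sbil_apply, sbil_apply]
    refine Finset.sum_congr rfl fun k _ => ?_
    by_cases h : k = i
    · subst h
      simp only [embVec, Sum.elim_inl, Sum.elim_inr, if_true]
      linear_combination (u (Sum.inr k) * v (Sum.inl k) - u (Sum.inl k) * v (Sum.inr k)) * sl_det g
    · simp [embVec, h]⟩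
  map_one' := sp_ext fun v => by
    rw [sp_one_mulVec, embMat_mulVec]
    funext m; rcases m with m | m <;> by_cases h : m = i <;> simp [embVec, h]
  map_mul' g h := sp_ext fun v => by
    rw [sp_mul_mulVec, embMat_mulVec, embMat_mulVec, embMat_mulVec]
    funext m
    rcases m with m | m <;> by_cases hm : m = i <;>
      simp [embVec, hm, Matrix.mul_apply, Fin.sum_univ_two] <;> ring

theorem embSp_mulVec (i : l) (g : SL(2, F)) (v : l ⊕ l → F) :
    (embSp i g).1 *ᵥ v = embVec i g.1 v := embMat_mulVec i g.1 v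

theorem embSp_up (i : l) (t : F) : embSp i (up t) = E (Sum.inl i) (Sum.inl i) (-t) := by
  refine sp_ext fun v => ?_
  rw [embSp_mulVec, E_self, stv_mulVec, sbil_bv_inl]
  funext m; rcases m with m | m <;> by_cases h : m = i <;> simp [embVec, bv, h]

theorem embSp_dn (i : l) (t : F) : embSp i (dn t) = E (Sum.inr i) (Sum.inr i) t := by
  refine sp_ext fun v => ?_
  rw [embSp_mulVec, E_self, stv_mulVec, sbil_bv_inr]
  funext m; rcases m with m | m <;> by_cases h : m = i <;> simp [embVec, bv, h, add_comm]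

theorem embSp_conj (σ : Perm l) (i : l) (g : SL(2, F)) :
    permSp σ * embSp i g * (permSp σ)⁻¹ = embSp (σ i) g := by
  rw [mul_inv_eq_iff_eq_mul]
  refine sp_ext fun v => ?_
  rw [sp_mul_mulVec, sp_mul_mulVec, embSp_mulVec, embSp_mulVec, permSp_mulVec, permSp_mulVec]
  funext m
  rcases m with m | m <;> by_cases h : m = σ i <;>
    simp [embVec, h, Equiv.symm_apply_eq]

theorem embSp_comm {i k : l} (hik : i ≠ k) (g h : SL(2, F)) : Commute (embSp i g) (embSp k h) := by
  refine sp_ext fun v => ?_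
  rw [sp_mul_mulVec, sp_mul_mulVec, embSp_mulVec, embSp_mulVec, embSp_mulVec, embSp_mulVec]
  funext m
  rcases m with m | m <;> by_cases h1 : m = i <;> by_cases h2 : m = k <;>
    simp [embVec, h1, h2, hik, hik.symm]
  all_goals exact absurd (h1.symm.trans h2) hik

theorem embSp_fix {i k : l} (hik : k ≠ i) (g : SL(2, F)) :
    (embSp i g).1 *ᵥ (bv (Sum.inl k) : l ⊕ l → F) = (1 : F) • bv (Sum.inl k) := by
  rw [embSp_mulVec, one_smul]
  funext m
  rcases m with m | m <;> by_cases h1 : m = i <;> simp [embVec, bv, h1, hik, hik.symm]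

theorem embSp_wS (i : l) :
    (embSp i wS).1 *ᵥ (bv (Sum.inl i) : l ⊕ l → F) = (-1 : F) • bv (Sum.inr i) := by
  rw [embSp_mulVec]
  funext m
  rcases m with m | m <;> by_cases h1 : m = i <;> simp [embVec, bv, h1]

theorem embSp_dg (i : l) (c : Fˣ) :
    (embSp i (dg c)).1 *ᵥ (bv (Sum.inl i) : l ⊕ l → F) = (c : F) • bv (Sum.inl i) := by
  rw [embSp_mulVec]
  funext m
  rcases m with m | m <;> by_cases h1 : m = i <;> simp [embVec, bv, h1]

theorem E_inv {a b : l ⊕ l} (hok : b ≠ a.swap) (t : F) : (E a b t)⁻¹ = E a b (-t) := by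
  refine inv_eq_of_mul_eq_one_right ?_
  rw [E_add hok, add_neg_cancel]
  rcases eq_or_ne a b with rfl | hab
  · rw [E_self, stv_zero]
  · exact sp_ext fun v => by rw [E_mulVec_ne hab hok, sp_one_mulVec]; simp

theorem E_comm {a b c d : l ⊕ l} (hok : b ≠ a.swap) (hok' : d ≠ c.swap) (h1 : a ≠ c.swap)
    (h2 : a ≠ d.swap) (h3 : b ≠ c.swap) (h4 : b ≠ d.swap) (t u : F) :
    Commute (E a b t) (E c d u) := by
  have flip : ∀ {x y : l ⊕ l}, x ≠ y.swap → y ≠ x.swap :=
    fun hxy e => hxy (by rw [e, Sum.swap_swap])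
  have hc : (E a b t).1 *ᵥ (bv c : l ⊕ l → F) = bv c :=
    E_apply_of_swap_ne hok t (flip h1) (flip h3)
  have hd : (E a b t).1 *ᵥ (bv d : l ⊕ l → F) = bv d :=
    E_apply_of_swap_ne hok t (flip h2) (flip h4)
  have key : E a b t * E c d u * (E a b t)⁻¹ = E c d u := by
    rcases eq_or_ne c d with rfl | hcd
    · rw [E_self, stv_conj, hc]
    · rw [E_conj (ca := 1) (cb := 1) (a' := c) (b' := d) (by rw [hc, one_smul])
        (by rw [hd, one_smul]) hok' hok' hcd hcd, one_mul, one_mul]
  exact mul_inv_eq_iff_eq_mul.1 key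

variable {X : Type*} [Group X] {o p : l}

theorem W_a (hop : o ≠ p) (t : F) :
    embSp p wS * E (Sum.inl o) (Sum.inl p) t * (embSp p wS)⁻¹ =
      E (Sum.inl o) (Sum.inr p) (-t) := by
  rw [E_conj (embSp_fix hop wS) (embSp_wS p) (by simp) (by simp [hop.symm]) (by simp [hop])
    (by simp)]
  simp

theorem W_a' (hop : o ≠ p) (t : F) :
    embSp o wS * E (Sum.inl o) (Sum.inl p) t * (embSp o wS)⁻¹ =
      E (Sum.inr o) (Sum.inl p) (-t) := by
  rw [E_conj (embSp_wS o) (embSp_fix hop.symm wS) (by simp) (by simp [hop.symm]) (by simp [hop])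
    (by simp)]
  simp

theorem perm_E (σ : Perm l) {A B : l ⊕ l} (hok : B ≠ A.swap) (hne : A ≠ B) (t : F) :
    permSp σ * E A B t * (permSp σ)⁻¹ = E (Sum.map σ σ A) (Sum.map σ σ B) t := by
  rw [E_conj (ca := 1) (cb := 1) (by rw [permSp_bv, one_smul]) (by rw [permSp_bv, one_smul]) hok
    (fun e => hok (by rcases A with a | a <;> rcases B with b | b <;> simp_all)) hne
    (fun e => hne (by rcases A with a | a <;> rcases B with b | b <;> simp_all)), one_mul, one_mul]

/-- The conditions, for elements with the prescribed images under an injective map. -/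
def SpData.ofInjective (ψ : Perm l →* X) (φ : SL(2, F) →* X) (a : F → X)
    (π : X →* Matrix.symplecticGroup l F) (hπ : Function.Injective π) (hop : o ≠ p)
    (hψ : ∀ σ, π (ψ σ) = permSp σ) (hφ : ∀ g, π (φ g) = embSp o g)
    (ha : ∀ t, π (a t) = E (Sum.inl o) (Sum.inl p) t) : SpData l F X o p where
  ψ := ψ
  φ := φ
  a := a
  π := π
  πψ σ A := by rw [hψ, permSp_bv]
  πup t := by rw [hφ, embSp_up]
  πdn t := by rw [hφ, embSp_dn]
  πa := ha
  op := hop
  stab0 σ h0 h := hπ (by
    rw [map_mul, map_mul, hψ, hφ]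
    have := embSp_conj σ o h
    rw [h0, mul_inv_eq_iff_eq_mul] at this
    exact this)
  disj0 h h' := hπ (by
    simp only [map_mul, map_inv, hψ, hφ, embSp_conj, swap_apply_left]
    exact (embSp_comm hop h h').eq)
  sta σ h0 h1 t := hπ (by
    rw [map_mul, map_mul, hψ, ha]
    refine mul_inv_eq_iff_eq_mul.1 ?_
    rw [perm_E σ (by simp) (by simp [hop])]
    simp [h0, h1])
  swa t := hπ (by
    rw [map_mul, map_mul, hψ, ha]
    refine mul_inv_eq_iff_eq_mul.1 ?_
    rw [perm_E _ (by simp) (by simp [hop]), E_symm (a := Sum.inl o) (by simp)]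
    simp)
  a_add t u := hπ (by rw [map_mul, ha, ha, ha, E_add (by simp)])
  tor0 c t := hπ (by
    simp only [map_mul, map_inv, hφ, ha]
    rw [E_conj (embSp_dg o c) (embSp_fix hop.symm (dg c)) (by simp) (by simp) (by simp [hop])
      (by simp [hop])]
    rw [mul_one])
  far σ h1 h2 h t := hπ (by
    simp only [map_mul, map_inv, hψ, hφ, ha, embSp_conj]
    refine mul_inv_eq_iff_eq_mul.1 ?_
    rw [E_conj (embSp_fix h1.symm h) (embSp_fix h2.symm h) (by simp) (by simp) (by simp [hop])
      (by simp [hop]), one_mul, one_mul])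
  wrel := hπ (by
    simp only [map_mul, map_inv, hψ, hφ, ha, embSp_conj, swap_apply_left]
    rw [W_a hop, W_a' hop, neg_neg]
    refine sp_ext fun v => ?_
    simp only [sp_mul_mulVec, embSp_mulVec, permSp_mulVec,
      E_mulVec_ne (show (Sum.inl o : l ⊕ l) ≠ Sum.inr p by simp) (by simp [hop.symm]),
      E_mulVec_ne (show (Sum.inr o : l ⊕ l) ≠ Sum.inl p by simp) (by simp [hop.symm]),
      sbil_bv_inl, sbil_bv_inr]
    funext m
    rcases m with m | m <;> by_cases h1 : m = o <;> by_cases h2 : m = p <;>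
      simp [embVec, bv, h1, h2, hop, hop.symm, swap_apply_of_ne_of_ne]
    all_goals first | exact absurd (h1.symm.trans h2) hop | skip)
  c1 t u := hπ (by
    rw [map_mul, map_mul, hφ, ha, embSp_up]
    exact (E_comm (self_ok' _) (by simp) (by simp) (by simp) (by simp) (by simp) _ _).eq)
  c2 σ h1 h2 h3 h4 t u := hπ (by
    simp only [map_mul, map_inv, hψ, ha]
    rw [perm_E σ (by simp) (by simp [hop])]
    exact (E_comm (by simp) (by simp) (by simp) (by simp) (by simp) (by simp) _ _).eq)
  c3 σ h1 h2 t u := hπ (by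
    simp only [map_mul, map_inv, hψ, ha]
    rw [perm_E σ (by simp) (by simp [hop])]
    exact (E_comm (by simp) (by simp) (by simp) (by simp) (by simp) (by simp) _ _).eq)
  c4 t u := hπ (by
    simp only [map_commutatorElement, map_mul, map_inv, hψ, hφ, ha, embSp_conj, swap_apply_left]
    rw [W_a hop, embSp_up, neg_neg, commutatorElement_def, E_inv (by simp), E_inv (by simp [hop.symm])]
    refine sp_ext fun v => ?_
    simp only [sp_mul_mulVec, E_self, stv_mulVec,
      E_mulVec_ne (show (Sum.inl o : l ⊕ l) ≠ Sum.inl p by simp [hop]) (by simp),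
      E_mulVec_ne (show (Sum.inl o : l ⊕ l) ≠ Sum.inr p by simp) (by simp [hop.symm]),
      sbil_bv_inl, sbil_bv_inr]
    funext m
    rcases m with m | m <;> by_cases h1 : m = o <;> by_cases h2 : m = p <;>
      simp [bv, h1, h2, hop, hop.symm]
    all_goals ring)
  c5 t u := hπ (by
    simp only [map_commutatorElement, map_mul, map_inv, hψ, hφ, ha, embSp_conj, swap_apply_left]
    rw [W_a hop, embSp_up, embSp_dn, neg_neg, commutatorElement_def,
      E_inv (self_ok' _), E_inv (a := Sum.inl o) (b := Sum.inl p) (by simp)]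
    refine sp_ext fun v => ?_
    simp only [sp_mul_mulVec, E_self, stv_mulVec,
      E_mulVec_ne (show (Sum.inl o : l ⊕ l) ≠ Sum.inl p by simp [hop]) (by simp),
      E_mulVec_ne (show (Sum.inl o : l ⊕ l) ≠ Sum.inr p by simp) (by simp [hop.symm]),
      sbil_bv_inl, sbil_bv_inr]
    funext m
    rcases m with m | m <;> by_cases h1 : m = o <;> by_cases h2 : m = p <;>
      simp [bv, h1, h2, hop, hop.symm]
    all_goals ring)
  c6 σ h1 h2 t u := hπ (by
    have hq : σ p ≠ p := fun e => hop (σ.injective (h1.trans e.symm))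
    obtain ⟨q, hq'⟩ : ∃ q, q = σ p := ⟨_, rfl⟩
    simp only [map_commutatorElement, map_mul, map_inv, hψ, hφ, ha, embSp_conj, swap_apply_left]
    rw [perm_E σ (by simp) (by simp [hop]), perm_E _ (by simp) (by simp [hop])]
    simp only [Sum.map_inl, h1, swap_apply_left, ← hq']
    rw [← hq'] at hq h2
    rw [swap_apply_of_ne_of_ne hop h2.symm, E_conj (embSp_wS p) (embSp_fix hq wS) (by simp)
      (b' := Sum.inl q) (by simp [hq]) (by simp [hq.symm]) (by simp),
      commutatorElement_def, E_inv (by simp [hq]), E_inv (a := Sum.inl o) (b := Sum.inl p) (by simp)]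
    refine sp_ext fun v => ?_
    simp only [sp_mul_mulVec,
      E_mulVec_ne (show (Sum.inl o : l ⊕ l) ≠ Sum.inl p by simp [hop]) (by simp),
      E_mulVec_ne (show (Sum.inl o : l ⊕ l) ≠ Sum.inl q by simp [h2.symm]) (by simp),
      E_mulVec_ne (show (Sum.inr p : l ⊕ l) ≠ Sum.inl q by simp) (by simp [hq]),
      sbil_bv_inl, sbil_bv_inr]
    funext m
    rcases m with m | m <;> by_cases k1 : m = o <;> by_cases k2 : m = p <;> by_cases k3 : m = q <;>
      simp [bv, k1, k2, k3, hop, hop.symm, hq, hq.symm, h2, h2.symm]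
    all_goals ring)
where
  self_ok' (a : l ⊕ l) : a ≠ a.swap := Setup.self_ok a

/-- The corresponding elements generate. -/
theorem closure_model (hop : o ≠ p) :
    Subgroup.closure (Set.range (permSp (l := l) (F := F)) ∪ Set.range (embSp (F := F) o) ∪
      Set.range fun t : F => E (Sum.inl o) (Sum.inl p) t) = ⊤ := by
  set S := Subgroup.closure (Set.range (permSp (l := l) (F := F)) ∪ Set.range (embSp (F := F) o) ∪
      Set.range fun t : F => E (Sum.inl o) (Sum.inl p) t)
  let D : SpData l F S o p := SpData.ofInjective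
    ((permSp (l := l) (F := F)).codRestrict S fun σ =>
      Subgroup.subset_closure (Or.inl (Or.inl ⟨σ, rfl⟩)))
    ((embSp (F := F) o).codRestrict S fun g => Subgroup.subset_closure (Or.inl (Or.inr ⟨g, rfl⟩)))
    (fun t => ⟨E (Sum.inl o) (Sum.inl p) t, Subgroup.subset_closure (Or.inr ⟨t, rfl⟩)⟩)
    S.subtype Subtype.val_injective hop (fun _ => rfl) (fun _ => rfl) (fun _ => rfl)
  refine eq_top_iff.2 fun g _ => ?_
  obtain ⟨y, rfl⟩ := D.setup.range_top (Subgroup.mem_top g)
  exact y.2

end CfsgLib.Pres.SpR
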