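import Mathlib

/-!
Groups with a presentation having a bounded number of relations.
-/

set_option autoImplicit false

namespace CfsgLib.Pres

variable {G H : Type*} [Group G] [Group H]

/-- `G` has a finitely generated presentation with at most `r` relations. -/
def HasPres (G : Type*) [Group G] (r : ℕ) : Prop :=
  ∃ (ι : Type) (_ : Finite ι) (R : Finset (FreeGroup ι)), R.card ≤ r ∧
    Nonempty (PresentedGroup (R : Set (FreeGroup ι)) ≃* G)

theorem of_mulEquiv (e : G ≃* H) {r : ℕ} (h : HasPres G r) : HasPres H r :=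
  let ⟨ι, hι, R, hR, ⟨e'⟩⟩ := h
  ⟨ι, hι, R, hR, ⟨e'.trans e⟩⟩

theorem mono {r r' : ℕ} (hle : r ≤ r') (h : HasPres G r) : HasPres G r' :=
  let ⟨ι, hι, R, hR, e⟩ := h
  ⟨ι, hι, R, hR.trans hle, e⟩

/-- The value of a word in a presented group. -/
abbrev val {ι : Type*} (R : Set (FreeGroup ι)) (w : FreeGroup ι) : PresentedGroup R :=
  PresentedGroup.mk R w

theorem val_eq_lift {ι : Type*} (R : Set (FreeGroup ι)) (w : FreeGroup ι) :
    FreeGroup.lift (PresentedGroup.of : ι → PresentedGroup R) w = val R w :=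
  DFunLike.congr_fun (FreeGroup.ext_hom _ (PresentedGroup.mk R) fun i => by
    simp [FreeGroup.lift_apply_of]; rfl) w

/-- Criterion for a presentation. -/
theorem hasPres_of {ι : Type} [Finite ι] (f : ι → G) (L : List (FreeGroup ι)) {r : ℕ}
    (hr : L.length ≤ r) (hhold : ∀ w ∈ L, FreeGroup.lift f w = 1)
    (hgen : Subgroup.closure (Set.range f) = ⊤)
    (huniv : ∀ (X : Type) [Group X] (x : ι → X), (∀ w ∈ L, FreeGroup.lift x w = 1) →
      Subgroup.closure (Set.range x) = ⊤ → ∃ φ : G →* X, ∀ i, φ (f i) = x i) : HasPres G r := by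
  classical
  set R : Set (FreeGroup ι) := (L.toFinset : Set (FreeGroup ι))
  have hmem : ∀ {w}, w ∈ R ↔ w ∈ L := fun {w} => by simp [R]
  obtain ⟨φ, hφ⟩ := huniv (PresentedGroup R) PresentedGroup.of (fun w hw => by
    rw [val_eq_lift]; exact PresentedGroup.one_of_mem (hmem.2 hw))
    (PresentedGroup.closure_range_of R)
  let ψ := PresentedGroup.toGroup (f := f) (rels := R) fun w hw => hhold w (hmem.1 hw)
  refine ⟨ι, inferInstance, L.toFinset, L.toFinset_card_le.trans hr, ⟨MonoidHom.toMulEquiv ψ φ ?_ ?_⟩⟩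
  · exact PresentedGroup.ext fun i => by simp [ψ, hφ]
  · refine MonoidHom.eq_of_eqOn_dense hgen ?_
    rintro _ ⟨i, rfl⟩
    simp [ψ, hφ]

/-- Unfolding of a presentation. -/
theorem exists_data {r : ℕ} (h : HasPres G r) :
    ∃ (ι : Type) (_ : Finite ι) (f : ι → G) (L : List (FreeGroup ι)), L.length ≤ r ∧
      (∀ w ∈ L, FreeGroup.lift f w = 1) ∧ Subgroup.closure (Set.range f) = ⊤ ∧
      ∀ (X : Type) [Group X] (x : ι → X), (∀ w ∈ L, FreeGroup.lift x w = 1) →
        ∃ φ : G →* X, ∀ i, φ (f i) = x i := by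
  obtain ⟨ι, hι, R, hR, ⟨e⟩⟩ := h
  have he : ∀ w, FreeGroup.lift (fun i => e (PresentedGroup.of i)) w = e (val _ w) := fun w =>
    DFunLike.congr_fun (FreeGroup.ext_hom _ (e.toMonoidHom.comp (PresentedGroup.mk _)) fun i => by
      simp [FreeGroup.lift_apply_of]; rfl) w
  refine ⟨ι, hι, fun i => e (PresentedGroup.of i), R.toList, by simpa using hR, fun w hw => ?_, ?_,
    fun X _ x hx => ?_⟩
  · rw [he, val, PresentedGroup.one_of_mem (by simpa using hw), map_one]
  · rw [show (Set.range fun i => e (PresentedGroup.of i)) =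
        e.toMonoidHom '' Set.range (PresentedGroup.of (rels := (R : Set (FreeGroup ι)))) by
      rw [← Set.range_comp]; rfl, ← MonoidHom.map_closure, PresentedGroup.closure_range_of,
      Subgroup.map_top_of_surjective _ e.surjective]
  · refine ⟨(PresentedGroup.toGroup (f := x) fun w hw => hx w (by simpa using hw)).comp
      e.symm.toMonoidHom, fun i => ?_⟩
    simp

/-- A word with a prescribed value. -/
theorem exists_word {ι : Type*} {f : ι → G} (h : Subgroup.closure (Set.range f) = ⊤) (g : G) :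
    ∃ w : FreeGroup ι, FreeGroup.lift f w = g := by
  rw [← FreeGroup.range_lift_eq_closure] at h
  exact (h ▸ Subgroup.mem_top g : g ∈ (FreeGroup.lift f).range)

/-- Killing one element whose powers form a normal subgroup. -/
theorem quotient {r : ℕ} (h : HasPres G r) (z : G) [(Subgroup.zpowers z).Normal] :
    HasPres (G ⧸ Subgroup.zpowers z) (r + 1) := by
  obtain ⟨ι, _, f, L, hL, hhold, hgen, huniv⟩ := exists_data h
  obtain ⟨v, hv⟩ := exists_word hgen z
  have hcomp : ∀ w, FreeGroup.lift (fun i => QuotientGroup.mk' (Subgroup.zpowers z) (f i)) w =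
      QuotientGroup.mk' (Subgroup.zpowers z) (FreeGroup.lift f w) := fun w =>
    DFunLike.congr_fun (FreeGroup.ext_hom _ ((QuotientGroup.mk' _).comp (FreeGroup.lift f))
      fun i => by simp) w
  refine hasPres_of (fun i => QuotientGroup.mk' (Subgroup.zpowers z) (f i)) (v :: L)
    (by simp; omega) ?_ ?_ fun X _ x hx _ => ?_
  · intro w hw
    rw [hcomp]
    rcases List.mem_cons.1 hw with rfl | hw
    · rw [hv]
      exact (QuotientGroup.eq_one_iff z).2 (Subgroup.mem_zpowers z)
    · rw [hhold w hw, map_one]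
  · rw [Set.range_comp', ← MonoidHom.map_closure, hgen,
      Subgroup.map_top_of_surjective _ (QuotientGroup.mk'_surjective _)]
  · obtain ⟨φ, hφ⟩ := huniv X x fun w hw => hx w (List.mem_cons_of_mem _ hw)
    have hφz : φ z = 1 := by
      rw [← hv, ← hx v (List.mem_cons_self ..)]
      exact DFunLike.congr_fun (FreeGroup.ext_hom (φ.comp (FreeGroup.lift f)) (FreeGroup.lift x)
        fun i => by simp [hφ]) v
    refine ⟨QuotientGroup.lift _ φ (by rw [Subgroup.zpowers_le]; exact hφz), fun i => ?_⟩
    simpa using hφ i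

/-- Changing to a given generating family costs one relation for each new generator. -/
theorem presented {r k : ℕ} (h : HasPres G r) (a : Fin k → G)
    (ha : Subgroup.closure (Set.range a) = ⊤) :
    ∃ rels : Finset (FreeGroup (Fin k)), rels.card ≤ r + k ∧
      ∃ e : PresentedGroup (rels : Set (FreeGroup (Fin k))) ≃* G,
        ∀ i, e (PresentedGroup.of i) = a i := by
  classical
  obtain ⟨ι, _, f, L, hL, hhold, hgen, huniv⟩ := exists_data h
  choose w hw using fun i => exists_word ha (f i)
  choose v hv using fun j => exists_word hgen (a j)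
  set σ : FreeGroup ι →* FreeGroup (Fin k) := FreeGroup.lift w
  have hσ : ∀ u, FreeGroup.lift a (σ u) = FreeGroup.lift f u := fun u =>
    DFunLike.congr_fun (FreeGroup.ext_hom ((FreeGroup.lift a).comp σ) (FreeGroup.lift f)
      fun i => by simp [σ, hw]) u
  set M : List (FreeGroup (Fin k)) :=
    L.map σ ++ (List.finRange k).map fun j => (FreeGroup.of j)⁻¹ * σ (v j)
  set R : Set (FreeGroup (Fin k)) := (M.toFinset : Set (FreeGroup (Fin k)))
  have hmem : ∀ {u}, u ∈ R ↔ u ∈ M := fun {u} => by simp [R]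
  have hM : ∀ u ∈ R, FreeGroup.lift a u = 1 := by
    intro u hu
    rcases List.mem_append.1 (hmem.1 hu) with hu | hu <;>
      obtain ⟨y, hy, rfl⟩ := List.mem_map.1 hu
    · rw [hσ, hhold y hy]
    · rw [map_mul, map_inv, hσ, hv, FreeGroup.lift_apply_of, inv_mul_cancel]
  set ψ := PresentedGroup.toGroup (f := a) (rels := R) hM
  have hx : ∀ u, FreeGroup.lift (fun i => val R (w i)) u = val R (σ u) := fun u =>
    DFunLike.congr_fun (FreeGroup.ext_hom _ ((PresentedGroup.mk R).comp σ) fun i => by
      simp [σ]) u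
  obtain ⟨φ, hφ⟩ := huniv (PresentedGroup R) (fun i => val R (w i)) fun u hu => by
    rw [hx]; exact PresentedGroup.one_of_mem (hmem.2 (List.mem_append_left _ (List.mem_map_of_mem hu)))
  have hφa : ∀ j, φ (a j) = PresentedGroup.of j := by
    intro j
    have h1 : φ (FreeGroup.lift f (v j)) = val R (σ (v j)) := by
      rw [← hx]
      exact DFunLike.congr_fun (FreeGroup.ext_hom (φ.comp (FreeGroup.lift f))
        (FreeGroup.lift fun i => val R (w i)) fun i => by simp [hφ]) (v j)
    rw [← hv, h1]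
    have h2 := PresentedGroup.one_of_mem (rels := R) (hmem.2 (List.mem_append_right _
      (List.mem_map.2 ⟨j, List.mem_finRange j, rfl⟩)))
    rw [map_mul, map_inv, inv_mul_eq_one] at h2
    exact h2.symm
  refine ⟨M.toFinset, M.toFinset_card_le.trans (by simp [M]; omega),
    MonoidHom.toMulEquiv ψ φ ?_ ?_, fun i => PresentedGroup.toGroup.of hM⟩
  · exact PresentedGroup.ext fun i => by simp [ψ, hφa]
  · refine MonoidHom.eq_of_eqOn_dense ha ?_
    rintro _ ⟨i, rfl⟩
    simp [ψ, hφa]

end CfsgLib.Pres
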