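import Cfsg.Agent.Lib.StSL.Rel
import Cfsg.Agent.Lib.Pres.Basic

/-!
Alternating groups acting on the coordinates of `SL_n`, and pairs of generators for their
stabilisers.
-/

set_option autoImplicit false

namespace CfsgLib.Pres.AltMono

open Equiv Matrix

section Perms

variable {α : Type*} [DecidableEq α]

/-- Move one more point without disturbing the others. -/
theorem move (τ : Perm α) {p c : α} {l : List (α × α)} (hl : ∀ e ∈ l, τ e.1 = e.2)
    (hp : ∀ e ∈ l, e.1 ≠ p) (hc : ∀ e ∈ l, e.2 ≠ c) :
    ∃ τ' : Perm α, ∀ e ∈ (p, c) :: l, τ' e.1 = e.2 := by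
  refine ⟨swap (τ p) c * τ, fun e he => ?_⟩
  rcases List.mem_cons.1 he with rfl | he
  · simp
  · rw [Perm.mul_apply, swap_apply_of_ne_of_ne (fun h => hp e he (τ.injective h)) (hl e he ▸ hc e he),
      hl e he]

/-- A permutation with prescribed values on four points. -/
theorem exists_perm4 {p q r s a b c d : α} (hp : [p, q, r, s].Nodup) (ha : [a, b, c, d].Nodup) :
    ∃ τ : Perm α, τ p = a ∧ τ q = b ∧ τ r = c ∧ τ s = d := by
  simp only [List.nodup_cons, List.mem_cons, List.not_mem_nil, or_false, not_or] at hp ha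
  obtain ⟨t1, h1⟩ := move (α := α) 1 (p := p) (c := a) (l := []) (by simp) (by simp) (by simp)
  obtain ⟨t2, h2⟩ := move t1 (p := q) (c := b) h1 (by simpa using hp.1.1) (by simpa using ha.1.1)
  obtain ⟨t3, h3⟩ := move t2 (p := r) (c := c) h2 (by simpa using ⟨hp.2.1.1, hp.1.2.1⟩)
    (by simpa using ⟨ha.2.1.1, ha.1.2.1⟩)
  obtain ⟨t4, h4⟩ := move t3 (p := s) (c := d) h3
    (by simpa using ⟨hp.2.2.1, hp.2.1.2, hp.1.2.2⟩) (by simpa using ⟨ha.2.2.1, ha.2.1.2, ha.1.2.2⟩)
  exact ⟨t4, h4 (p, a) (by simp), h4 (q, b) (by simp), h4 (r, c) (by simp), h4 (s, d) (by simp)⟩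

/-- A permutation with prescribed values on three points. -/
theorem exists_perm3 {p q r a b c : α} (hp : [p, q, r].Nodup) (ha : [a, b, c].Nodup) :
    ∃ τ : Perm α, τ p = a ∧ τ q = b ∧ τ r = c := by
  simp only [List.nodup_cons, List.mem_cons, List.not_mem_nil, or_false, not_or] at hp ha
  obtain ⟨t1, h1⟩ := move (α := α) 1 (p := p) (c := a) (l := []) (by simp) (by simp) (by simp)
  obtain ⟨t2, h2⟩ := move t1 (p := q) (c := b) h1 (by simpa using hp.1.1) (by simpa using ha.1.1)
  obtain ⟨t3, h3⟩ := move t2 (p := r) (c := c) h2 (by simpa using ⟨hp.2.1, hp.1.2⟩)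
    (by simpa using ⟨ha.2.1, ha.1.2⟩)
  exact ⟨t3, h3 (p, a) (by simp), h3 (q, b) (by simp), h3 (r, c) (by simp)⟩

/-- A permutation with prescribed values on two points. -/
theorem exists_perm2 {p q a b : α} (hp : p ≠ q) (ha : a ≠ b) :
    ∃ τ : Perm α, τ p = a ∧ τ q = b := by
  obtain ⟨t1, h1⟩ := move (α := α) 1 (p := p) (c := a) (l := []) (by simp) (by simp) (by simp)
  obtain ⟨t2, h2⟩ := move t1 (p := q) (c := b) h1 (by simpa using hp) (by simpa using ha)
  exact ⟨t2, h2 (p, a) (by simp), h2 (q, b) (by simp)⟩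

variable [Fintype α]

/-- Up to one chosen transposition, every permutation is even. -/
theorem even_or (τ : Perm α) {p q : α} (hpq : p ≠ q) :
    τ ∈ alternatingGroup α ∨ τ * swap p q ∈ alternatingGroup α := by
  rcases Int.units_eq_one_or (Perm.sign τ) with h | h
  · exact Or.inl h
  · right
    simp [Perm.mem_alternatingGroup, h, Perm.sign_swap hpq]

/-- The even permutations are generated by two elements. -/
theorem exists_even_two (α : Type*) [DecidableEq α] [Fintype α] (h : 2 ≤ Fintype.card α) :
    ∃ a b : Perm α, Perm.sign a = 1 ∧ Perm.sign b = 1 ∧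
      ∀ σ : Perm α, Perm.sign σ = 1 → σ ∈ Subgroup.closure {a, b} := by
  set e := Fintype.equivFin α
  set n := Fintype.card α
  set E := e.symm.permCongrHom
  set t : Perm (Fin n) := swap ⟨0, by omega⟩ (finRotate n ⟨0, by omega⟩) with ht'
  have hgen : Subgroup.closure {finRotate n, t} = ⊤ :=
    Perm.closure_cycle_adjacent_swap (isCycle_finRotate_of_le h) (support_finRotate_of_le h) _
  have htne : (⟨0, by omega⟩ : Fin n) ≠ finRotate n ⟨0, by omega⟩ := fun e0 =>
    Perm.mem_support.1 (by rw [support_finRotate_of_le h]; exact Finset.mem_univ _) e0.symm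
  have hst : Perm.sign t = -1 := Perm.sign_swap htne
  have htt : t * t = 1 := swap_mul_self _ _
  obtain ⟨c, hc, hgen'⟩ : ∃ c : Perm (Fin n), Perm.sign c = 1 ∧ Subgroup.closure {c, t} = ⊤ := by
    rcases Int.units_eq_one_or (Perm.sign (finRotate n)) with hr | hr
    · exact ⟨_, hr, hgen⟩
    · refine ⟨finRotate n * t, by rw [map_mul, hr, hst]; rfl, eq_top_iff.2 ?_⟩
      rw [← hgen, Subgroup.closure_le]
      rintro x (rfl | rfl)
      · have h1 : finRotate n * t ∈ Subgroup.closure {finRotate n * t, t} :=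
          Subgroup.subset_closure (Set.mem_insert _ _)
        have h2 : t ∈ Subgroup.closure {finRotate n * t, t} :=
          Subgroup.subset_closure (Set.mem_insert_of_mem _ rfl)
        have := mul_mem h1 h2
        rwa [mul_assoc, htt, mul_one] at this
      · exact Subgroup.subset_closure (Set.mem_insert_of_mem _ rfl)
  have hinv : t⁻¹ = t := inv_eq_of_mul_eq_one_left htt
  set N := Subgroup.closure ({c, t * c * t} : Set (Perm (Fin n)))
  have hN : ∀ x ∈ N, t * x * t ∈ N := by
    intro x hx
    induction hx using Subgroup.closure_induction with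
    | mem x hx =>
      rcases hx with rfl | rfl
      · exact Subgroup.subset_closure (Set.mem_insert_of_mem _ rfl)
      · rw [show t * (t * c * t) * t = (t * t) * c * (t * t) by group, htt, one_mul, mul_one]
        exact Subgroup.subset_closure (Set.mem_insert _ _)
    | one => rw [mul_one, htt]; exact one_mem _
    | mul x y _ _ hx hy =>
      rw [show t * (x * y) * t = (t * x * t) * (t * y * t) by
        rw [show (t * x * t) * (t * y * t) = t * x * (t * t) * y * t by group, htt]; group]
      exact mul_mem hx hy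
    | inv x _ hx =>
      rw [show t * x⁻¹ * t = (t * x * t)⁻¹ by
        conv_rhs => rw [_root_.mul_inv_rev, _root_.mul_inv_rev, hinv, ← mul_assoc]]
      exact inv_mem hx
  have hNs : ∀ x ∈ N, Perm.sign x = 1 := by
    intro x hx
    induction hx using Subgroup.closure_induction with
    | mem x hx =>
      rcases hx with rfl | rfl
      · exact hc
      · simp [hst, hc]
    | one => exact map_one _
    | mul x y _ _ hx hy => rw [map_mul, hx, hy, one_mul]
    | inv x _ hx => rw [map_inv, hx, inv_one]
  have all : ∀ x : Perm (Fin n), x ∈ N ∨ x * t ∈ N := by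
    intro x
    have hx : x ∈ Subgroup.closure {c, t} := hgen' ▸ Subgroup.mem_top x
    induction hx using Subgroup.closure_induction with
    | mem x hx =>
      rcases hx with rfl | rfl
      · exact Or.inl (Subgroup.subset_closure (Set.mem_insert _ _))
      · exact Or.inr (by rw [htt]; exact one_mem _)
    | one => exact Or.inl (one_mem _)
    | mul x y _ _ hx hy =>
      rcases hx with hx | hx <;> rcases hy with hy | hy
      · exact Or.inl (mul_mem hx hy)
      · exact Or.inr (by rw [mul_assoc]; exact mul_mem hx hy)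
      · right
        have := mul_mem hx (hN y hy)
        rwa [show x * t * (t * y * t) = x * (t * t) * y * t by group, htt, mul_one] at this
      · left
        have := mul_mem hx (hN _ hy)
        rwa [show x * t * (t * (y * t) * t) = x * (t * t) * y * (t * t) by group, htt, mul_one,
          mul_one] at this
    | inv x _ hx =>
      rcases hx with hx | hx
      · exact Or.inl (inv_mem hx)
      · right
        have := hN _ (inv_mem hx)
        rwa [_root_.mul_inv_rev, hinv, ← mul_assoc, htt, one_mul] at this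
  refine ⟨E c, E (t * c * t), by simp [E, hc], by simp [E, hst, hc], fun σ hσ => ?_⟩
  have : E.symm σ ∈ N := (all _).resolve_right fun h' => by
    have := hNs _ h'
    rw [map_mul, hst] at this
    simp [E, hσ] at this
  have h2 := Subgroup.mem_map_of_mem E.toMonoidHom this
  rw [MonoidHom.map_closure, Set.image_pair] at h2
  simpa using h2

/-- The stabiliser of two points in the alternating group is generated by two elements. -/
theorem exists_stab_two (h : 4 ≤ Fintype.card α) {p q : α} (hpq : p ≠ q) :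
    ∃ a b : alternatingGroup α, (a : Perm α) p = p ∧ (a : Perm α) q = q ∧ (b : Perm α) p = p ∧
      (b : Perm α) q = q ∧ ∀ σ : alternatingGroup α, (σ : Perm α) p = p → (σ : Perm α) q = q →
        σ ∈ Subgroup.closure {a, b} := by
  let P : α → Prop := fun x => x ≠ p ∧ x ≠ q
  have hcard : 2 ≤ Fintype.card {x // P x} := by
    rw [Fintype.card_subtype]
    have : (Finset.univ.filter P) = (Finset.univ.erase p).erase q := by ext x; simp [P, and_comm]
    rw [this, Finset.card_erase_of_mem (by simp [hpq.symm]), Finset.card_erase_of_mem (by simp),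
      Finset.card_univ]
    omega
  obtain ⟨a, b, ha, hb, hab⟩ := exists_even_two {x // P x} hcard
  have hfix : ∀ τ : Perm {x // P x}, Perm.ofSubtype τ p = p ∧ Perm.ofSubtype τ q = q := fun τ =>
    ⟨Perm.ofSubtype_apply_of_not_mem τ (by simp [P]), Perm.ofSubtype_apply_of_not_mem τ (by simp [P])⟩
  refine ⟨⟨Perm.ofSubtype a, by simp [Perm.mem_alternatingGroup, ha]⟩,
    ⟨Perm.ofSubtype b, by simp [Perm.mem_alternatingGroup, hb]⟩, (hfix a).1, (hfix a).2, (hfix b).1,
    (hfix b).2, fun σ hp hq => ?_⟩
  have hP : ∀ x, P ((σ : Perm α) x) ↔ P x := fun x => by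
    have e1 : (σ : Perm α) x = p ↔ x = p := by
      conv_lhs => rw [← hp]
      exact (σ : Perm α).injective.eq_iff
    have e2 : (σ : Perm α) x = q ↔ x = q := by
      conv_lhs => rw [← hq]
      exact (σ : Perm α).injective.eq_iff
    simp only [P, Ne, e1, e2]
  set τ := Perm.subtypePerm (σ : Perm α) hP
  have hτ : Perm.ofSubtype τ = (σ : Perm α) := Perm.ofSubtype_subtypePerm hP fun x hx => by
    by_contra h'
    simp only [P, not_and_or, not_not] at h'
    rcases h' with rfl | rfl
    · exact hx hp
    · exact hx hq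
  have hτs : Perm.sign τ = 1 := by
    rw [← Perm.sign_ofSubtype τ, hτ]
    exact σ.2
  have := Subgroup.mem_map_of_mem Perm.ofSubtype (hab τ hτs)
  rw [MonoidHom.map_closure, Set.image_pair, hτ] at this
  rw [← Subgroup.mem_map_iff_mem (f := (alternatingGroup α).subtype) Subtype.val_injective,
    MonoidHom.map_closure, Set.image_pair]
  exact this

/-- The alternating group is generated by two elements. -/
theorem exists_gen_two (h : 2 ≤ Fintype.card α) :
    ∃ a b : alternatingGroup α, Subgroup.closure {a, b} = ⊤ := by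
  obtain ⟨a, b, ha, hb, hab⟩ := exists_even_two α h
  refine ⟨⟨a, ha⟩, ⟨b, hb⟩, eq_top_iff.2 fun σ _ => ?_⟩
  rw [← Subgroup.mem_map_iff_mem (f := (alternatingGroup α).subtype) Subtype.val_injective,
    MonoidHom.map_closure, Set.image_pair]
  exact hab _ σ.2

end Perms

variable {F : Type*} [Field F] {n : ℕ}

/-- The permutation matrix of an even permutation. -/
def μ : alternatingGroup (Fin n) →* SpecialLinearGroup (Fin n) F where
  toFun σ := ⟨((σ : Perm (Fin n))⁻¹).permMatrix F, by
    rw [det_permutation, map_inv, σ.2, inv_one]; simp⟩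
  map_one' := Subtype.ext (by simp)
  map_mul' σ τ := Subtype.ext (by
    show _ = _ * _
    simp)

theorem μ_mulVec (σ : alternatingGroup (Fin n)) (v : Fin n → F) :
    (μ (F := F) σ).1 *ᵥ v = v ∘ ⇑(((σ : Perm (Fin n))⁻¹ : Perm (Fin n))) := permMatrix_mulVec _

theorem μ_tv (σ : alternatingGroup (Fin n)) {i j : Fin n} (h : i ≠ j) (t : F) :
    μ σ * StSL.tv i j t * (μ σ)⁻¹ = StSL.tv ((σ : Perm (Fin n)) i) ((σ : Perm (Fin n)) j) t := by
  rw [mul_inv_eq_iff_eq_mul]
  refine StSL.sl_ext fun v => funext fun k => ?_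
  rw [StSL.mul_mulVec', StSL.mul_mulVec', StSL.tv_mulVec h,
    StSL.tv_mulVec fun e => h ((σ : Perm (Fin n)).injective e), μ_mulVec, μ_mulVec]
  simp [Function.comp_apply, Pi.single_apply, Equiv.symm_apply_eq]

/-- A diagonal element with `c` and `c⁻¹` in two places. -/
def dg (c : Fˣ) (a b : Fin n) : SpecialLinearGroup (Fin n) F :=
  ⟨diagonal fun i => (if i = a then (c : F) else 1) * (if i = b then (c : F)⁻¹ else 1), by
    rw [det_diagonal, Finset.prod_mul_distrib]
    simp⟩

/-- The entries of `dg`. -/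
def χ (c : Fˣ) (a b i : Fin n) : F :=
  (if i = a then (c : F) else 1) * (if i = b then (c : F)⁻¹ else 1)

theorem dg_mulVec (c : Fˣ) (a b : Fin n) (v : Fin n → F) (i : Fin n) :
    ((dg c a b).1 *ᵥ v) i = χ c a b i * v i := mulVec_diagonal _ _ _

theorem dg_tv (c : Fˣ) (a b : Fin n) {i j : Fin n} (h : i ≠ j) (t : F) :
    dg c a b * StSL.tv i j t * (dg c a b)⁻¹ = StSL.tv i j (χ c a b i / χ c a b j * t) := by
  have hne : χ c a b j ≠ 0 := by
    simp only [χ]
    split_ifs <;> simp
  rw [mul_inv_eq_iff_eq_mul]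
  refine StSL.sl_ext fun v => funext fun k => ?_
  simp only [StSL.mul_mulVec', StSL.tv_mulVec h, dg_mulVec, Pi.add_apply]
  by_cases e : k = i
  · subst e
    simp only [Pi.single_eq_same, dg_mulVec]
    field_simp
  · simp [e, dg_mulVec]

theorem μ_dg (σ : alternatingGroup (Fin n)) (c : Fˣ) (a b : Fin n) :
    μ σ * dg c a b * (μ σ)⁻¹ = dg c ((σ : Perm (Fin n)) a) ((σ : Perm (Fin n)) b) := by
  rw [mul_inv_eq_iff_eq_mul]
  refine StSL.sl_ext fun v => funext fun k => ?_
  simp only [StSL.mul_mulVec', μ_mulVec, dg_mulVec, Function.comp_apply]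
  simp [χ, Equiv.symm_apply_eq]

theorem dg_mul_dg (c : Fˣ) {a b d : Fin n} (hab : a ≠ b) (hbd : b ≠ d) (had : a ≠ d) :
    dg c a b * dg c b d = dg c a d := by
  refine StSL.sl_ext fun v => funext fun k => ?_
  simp only [StSL.mul_mulVec', dg_mulVec, χ]
  rcases eq_or_ne k b with rfl | h
  · simp [hab.symm, hbd]
  · simp [h, mul_assoc, mul_left_comm]

theorem dg_comm (c : Fˣ) (a b a' b' : Fin n) : Commute (dg c a b) (dg c a' b') :=
  StSL.sl_ext fun v => funext fun k => by
    rw [StSL.mul_mulVec', StSL.mul_mulVec']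
    simp [dg_mulVec]; ring

theorem dg_inv (c : Fˣ) {a b : Fin n} (h : a ≠ b) : (dg c a b)⁻¹ = dg c b a := by
  refine inv_eq_of_mul_eq_one_right (StSL.sl_ext fun v => funext fun k => ?_)
  simp only [StSL.mul_mulVec', dg_mulVec, χ, SpecialLinearGroup.coe_one, one_mulVec]
  rcases eq_or_ne k a with rfl | h1
  · simp [h]
  · rcases eq_or_ne k b with rfl | h2 <;> simp [*]

end CfsgLib.Pres.AltMono
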