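import Cfsg.Agent.Lib.Pres.Basic

/-!
Four relations for the additive group of a finite field with a multiplier generating the
multiplicative group.
-/

set_option autoImplicit false

namespace CfsgLib.Pres.FieldAdd

open Polynomial
open scoped commutatorElement

/-- Conjugation by powers. -/
theorem conj_pow {X : Type*} [Group X] (h u : X) (i j : ℕ) :
    h ^ i * (h ^ j * u * (h ^ j)⁻¹) * (h ^ i)⁻¹ = h ^ (i + j) * u * (h ^ (i + j))⁻¹ := by
  rw [pow_add]; group

/-- The commutation lemma of Campbell, Robertson and Williams. -/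
theorem crw {X : Type*} [Group X] {h u : X} {m : ℕ}
    (h1 : Commute u (h * u * h⁻¹)) (hm : h ^ m * u * (h ^ m)⁻¹ = u * (h * u * h⁻¹)) :
    ∀ k : ℕ, Commute u (h ^ k * u * (h ^ k)⁻¹) := by
  set v : ℕ → X := fun i => h ^ i * u * (h ^ i)⁻¹
  have hv : ∀ i j, h ^ i * v j * (h ^ i)⁻¹ = v (i + j) := fun i j => conj_pow h u i j
  have hv0 : v 0 = u := by simp [v]
  have hv1 : v 1 = h * u * h⁻¹ := by simp [v]
  intro k
  induction k using Nat.strong_induction_on with
  | _ k ih =>
    rcases k with _ | _ | k
    · simp
    · simpa using h1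
    show Commute u (v (k + 2))
    have c1 : Commute (v 1) (v (k + 2)) := by
      have := (ih (k + 1) (by omega)).map (MulAut.conj h)
      simp only [MulAut.conj_apply] at this
      rw [hv1, show k + 2 = 1 + (k + 1) by omega, ← hv 1 (k + 1)]
      simpa using this
    have c2 : Commute (v 1) (v (k + 1)) := by
      have := (ih k (by omega)).map (MulAut.conj h)
      simp only [MulAut.conj_apply] at this
      rw [hv1, show k + 1 = 1 + k by omega, ← hv 1 k]
      simpa using this
    have c3 : Commute (u * v 1) (v (k + 1) * v (k + 2)) := by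
      have := (ih (k + 1) (by omega)).map (MulAut.conj (h ^ m))
      simp only [MulAut.conj_apply] at this
      rw [hm] at this
      have e : h ^ m * v (k + 1) * (h ^ m)⁻¹ = v (k + 1) * v (k + 2) := by
        rw [hv, show m + (k + 1) = (k + 1) + m by omega, ← hv]
        show h ^ (k + 1) * (h ^ m * u * (h ^ m)⁻¹) * (h ^ (k + 1))⁻¹ = _
        rw [hm, ← conj_mul, ← hv1, hv]
      rw [← e, hv1]
      exact this
    have c4 : Commute (u * v 1) (v (k + 1)) := Commute.mul_left (ih (k + 1) (by omega)) c2
    have c5 : Commute (u * v 1) (v (k + 2)) := by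
      have := c4.inv_right.mul_right c3
      rwa [inv_mul_cancel_left] at this
    have := c5.mul_left c1.inv_left
    rwa [mul_inv_cancel_right] at this

/-- The generator standing for `1`. -/
def U : FreeGroup Bool := FreeGroup.of true

/-- The generator standing for the multiplier. -/
def Hm : FreeGroup Bool := FreeGroup.of false

/-- The conjugates of the first generator. -/
def uw (i : ℕ) : FreeGroup Bool := Hm ^ i * U * (Hm ^ i)⁻¹

set_option maxHeartbeats 800000 in
/-- Four relations present the additive group of the field with its multiplier. -/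
theorem exists_rels {F : Type*} [Field F] (p : ℕ) [Fact p.Prime] [CharP F p] {ω : F} (hgen : ∀ t : F, t ≠ 0 → ∃ i : ℕ, t = ω ^ i) :
    ∃ L : List (FreeGroup Bool), L.length ≤ 4 ∧
      (∀ (Y : Type*) [Group Y] (a : F → Y) (h : Y), (∀ t u, a t * a u = a (t + u)) →
        (∀ t, h * a t * h⁻¹ = a (ω * t)) → ∀ w ∈ L, FreeGroup.lift (cond · (a 1) h) w = 1) ∧
      ∀ (X : Type) [Group X] (u h : X), (∀ w ∈ L, FreeGroup.lift (cond · u h) w = 1) →
        ∃ a : F → X, (∀ t v, a t * a v = a (t + v)) ∧ a 1 = u ∧
          (∀ i : ℕ, a (ω ^ i) = h ^ i * u * (h ^ i)⁻¹) ∧ ∀ t, h * a t * h⁻¹ = a (ω * t) := by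
  classical
  let _ : Algebra (ZMod p) F := ZMod.algebra F p
  -- a lift of the minimal polynomial
  obtain ⟨M, hM⟩ := Polynomial.map_surjective (Int.castRingHom (ZMod p))
    ZMod.intCast_surjective (minpoly (ZMod p) ω)
  have haeval : ∀ f : ℤ[X], aeval ω f = aeval ω (f.map (Int.castRingHom (ZMod p))) := fun f => by
    rw [← algebraMap_int_eq, aeval_map_algebraMap]
  have hMω : aeval ω M = 0 := by rw [haeval, hM, minpoly.aeval]
  obtain ⟨m, hm⟩ : ∃ m : ℕ, 1 + ω ≠ 0 → 1 + ω = ω ^ m := by
    by_cases h : 1 + ω = 0
    · exact ⟨0, fun h' => absurd h h'⟩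
    · obtain ⟨m, hm⟩ := hgen _ h; exact ⟨m, fun _ => hm⟩
  let R3 : FreeGroup Bool :=
    if 1 + ω = 0 then Hm * U * Hm⁻¹ * U else uw m * (U * (Hm * U * Hm⁻¹))⁻¹
  let R4 : FreeGroup Bool :=
    ((List.range (M.natDegree + 1)).map fun i => uw i ^ M.coeff i).prod
  refine ⟨[U ^ p, ⁅U, Hm * U * Hm⁻¹⁆, R3, R4], by simp, ?_, ?_⟩
  · intro Y _ a h hadd hh
    set g := FreeGroup.lift (cond · (a 1) h) with hg
    have hgU : g U = a 1 := by simp [hg, U]
    have hgH : g Hm = h := by simp [hg, Hm]
    have a0 : a 0 = 1 := by
      have := hadd 0 0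
      rwa [add_zero, mul_eq_left] at this
    let A : Multiplicative F →* Y :=
      { toFun := fun t => a t.toAdd, map_one' := a0, map_mul' := fun t v => (hadd _ _).symm }
    have hpow : ∀ i : ℕ, ∀ t, h ^ i * a t * (h ^ i)⁻¹ = a (ω ^ i * t) := by
      intro i
      induction i with
      | zero => simp
      | succ i ih =>
        intro t
        rw [pow_succ', pow_succ', mul_assoc ω, ← hh, ← ih]
        group
    have hguw : ∀ i, g (uw i) = a (ω ^ i) := fun i => by
      rw [uw, map_mul, map_mul, map_inv, map_pow, hgU, hgH, hpow, mul_one]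
    have hz : ∀ (t : F) (c : ℤ), a t ^ c = a ((c : F) * t) := fun t c => by
      have := map_zpow A (Multiplicative.ofAdd t) c
      rw [← ofAdd_zsmul, zsmul_eq_mul] at this
      exact this.symm
    intro w hw
    fin_cases hw
    · rw [map_pow, hgU, ← zpow_natCast, hz, Int.cast_natCast, CharP.cast_eq_zero, zero_mul, a0]
    · rw [map_commutatorElement, map_mul, map_mul, map_inv, hgU, hgH, hh,
        commutatorElement_eq_one_iff_commute]
      show _ = _
      rw [hadd, hadd, add_comm]
    · show g R3 = 1
      simp only [R3]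
      split_ifs with h1
      · rw [map_mul, map_mul, map_mul, map_inv, hgU, hgH, hh, hadd, mul_one, add_comm, h1, a0]
      · rw [map_mul, map_inv, map_mul g U, map_mul, map_mul, map_inv, hgU, hgH, hh, hadd, hguw,
          mul_one, hm h1, mul_inv_cancel]
    · show g R4 = 1
      simp only [R4, map_list_prod, List.map_map]
      have key : ∀ l : List ℕ, (l.map ((⇑g) ∘ fun i => uw i ^ M.coeff i)).prod =
          a ((l.map fun i => (M.coeff i : F) * ω ^ i).sum) := by
        intro l
        induction l with
        | nil => simp [a0]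
        | cons i l ih =>
          simp only [List.map_cons, List.prod_cons, List.sum_cons, ih, Function.comp_apply,
            map_zpow, hguw, hz, hadd]
      rw [key, show ((List.range (M.natDegree + 1)).map fun i => (M.coeff i : F) * ω ^ i).sum =
          aeval ω M by
        rw [aeval_eq_sum_range]
        simp only [zsmul_eq_mul]
        rfl, hMω, a0]
  · intro X _ u h hw
    set g := FreeGroup.lift (cond · u h) with hg
    have hgU : g U = u := by simp [hg, U]
    have hgH : g Hm = h := by simp [hg, Hm]
    have hguw : ∀ i, g (uw i) = h ^ i * u * (h ^ i)⁻¹ := fun i => by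
      rw [uw, map_mul, map_mul, map_inv, map_pow, hgU, hgH]
    simp only [List.forall_mem_cons, List.not_mem_nil, IsEmpty.forall_iff, implies_true,
      and_true] at hw
    obtain ⟨hp, hc, h3, h4⟩ := hw
    rw [map_pow, hgU] at hp
    rw [map_commutatorElement, map_mul, map_mul, map_inv, hgU, hgH,
      commutatorElement_eq_one_iff_commute] at hc
    -- all conjugates commute
    have hcomm0 : ∀ k : ℕ, Commute u (h ^ k * u * (h ^ k)⁻¹) := by
      simp only [R3] at h3
      split_ifs at h3 with h1
      · rw [map_mul, map_mul, map_mul, map_inv, hgU, hgH, mul_eq_one_iff_eq_inv] at h3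
        have : ∀ k : ℕ, h ^ k * u * (h ^ k)⁻¹ = u ∨ h ^ k * u * (h ^ k)⁻¹ = u⁻¹ := by
          intro k
          induction k with
          | zero => simp
          | succ k ih =>
            have e : h ^ (k + 1) * u * (h ^ (k + 1))⁻¹ =
                h * (h ^ k * u * (h ^ k)⁻¹) * h⁻¹ := by rw [pow_succ']; group
            rw [e]
            rcases ih with ih | ih <;> rw [ih]
            · exact Or.inr h3
            · left
              rw [← conj_inv, h3, inv_inv]
        intro k
        rcases this k with e | e <;> rw [e]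
        exact (Commute.refl u).inv_right
      · rw [map_mul, map_inv, map_mul g U, map_mul, map_mul, map_inv, hgU, hgH, hguw,
          mul_inv_eq_one] at h3
        exact crw hc h3
    set v : ℕ → X := fun i => h ^ i * u * (h ^ i)⁻¹
    have hv : ∀ i j, h ^ i * v j * (h ^ i)⁻¹ = v (i + j) := fun i j => conj_pow h u i j
    have hcomm : ∀ i j, Commute (v i) (v j) := by
      have : ∀ i j, i ≤ j → Commute (v i) (v j) := fun i j hij => by
        have := (hcomm0 (j - i)).map (MulAut.conj (h ^ i))
        simp only [MulAut.conj_apply] at this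
        rw [show v j = h ^ i * v (j - i) * (h ^ i)⁻¹ by rw [hv]; congr 1; omega]
        exact this
      intro i j
      rcases le_total i j with e | e
      exacts [this i j e, (this j i e).symm]
    let S : Subgroup X := Subgroup.closure (Set.range v)
    have hScomm : ∀ a b : S, a * b = b * a := by
      rintro ⟨a, ha⟩ ⟨b, hb⟩
      refine Subtype.ext ?_
      refine Subgroup.closure_induction₂ (p := fun x y _ _ => x * y = y * x) ?_ ?_ ?_ ?_ ?_ ?_ ?_
        ha hb
      · rintro _ _ ⟨i, rfl⟩ ⟨j, rfl⟩; exact hcomm i j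
      · simp
      · simp
      · intro x y z _ _ _ h1 h2; exact (Commute.mul_left h1 h2).eq
      · intro x y z _ _ _ h1 h2; exact (Commute.mul_right h1 h2).eq
      · intro x y _ _ h1; exact (Commute.inv_left h1).eq
      · intro x y _ _ h1; exact (Commute.inv_right h1).eq
    let _ : CommGroup S := { (inferInstance : Group S) with mul_comm := hScomm }
    have hS : ∀ x ∈ S, h * x * h⁻¹ ∈ S := by
      intro x hx
      have : S ≤ S.comap (MulAut.conj h).toMonoidHom := by
        refine (Subgroup.closure_le _).2 ?_
        rintro _ ⟨i, rfl⟩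
        refine Subgroup.subset_closure ⟨1 + i, ?_⟩
        rw [← hv]
        simp [v]
      exact this hx
    let T : AddMonoid.End (Additive S) := MonoidHom.toAdditive
      (MonoidHom.mk' (fun x : S => (⟨h * x * h⁻¹, hS _ x.2⟩ : S)) fun x y =>
        Subtype.ext conj_mul.symm)
    let u' : Additive S := Additive.ofMul ⟨u, Subgroup.subset_closure ⟨0, by simp [v]⟩⟩
    let Φ : ℤ[X] →+ Additive S :=
      { toFun := fun f => (aeval T f) u'
        map_zero' := by rw [map_zero]; rfl
        map_add' := fun f g => by rw [map_add]; rfl }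
    have hTval : ∀ x : Additive S, ((T x).toMul : X) = h * (x.toMul : X) * h⁻¹ := fun _ => rfl
    have hΦmul : ∀ f f', Φ (f' * f) = (aeval T f') (Φ f) := fun f f' => by
      show (aeval T (f' * f)) u' = _
      rw [map_mul]; rfl
    have hΦX : ∀ i, ((Φ (Polynomial.X ^ i)).toMul : X) = v i := by
      intro i
      induction i with
      | zero =>
        show (((aeval T (Polynomial.X ^ 0)) u').toMul : X) = _
        rw [pow_zero, map_one]
        simp [v, u']
      | succ i ih =>
        rw [pow_succ', hΦmul, aeval_X, hTval, ih, Nat.add_comm, ← hv]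
        simp
    have hΦM : Φ M = 0 := by
      have e : Φ M = ((List.range (M.natDegree + 1)).map fun i =>
          M.coeff i • Φ (Polynomial.X ^ i)).sum := by
        conv_lhs => rw [M.as_sum_range_C_mul_X_pow]
        rw [map_sum]
        show _ = ∑ i ∈ Finset.range (M.natDegree + 1), M.coeff i • Φ (Polynomial.X ^ i)
        refine Finset.sum_congr rfl fun i _ => ?_
        rw [C_mul', map_zsmul]
      have key : ∀ l : List ℕ, (((l.map fun i => M.coeff i • Φ (Polynomial.X ^ i)).sum).toMul : X) =
          (l.map ((⇑g) ∘ fun i => uw i ^ M.coeff i)).prod := by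
        intro l
        induction l with
        | nil => rfl
        | cons i l ih =>
          simp only [List.map_cons, List.prod_cons, List.sum_cons, Function.comp_apply, ← ih,
            map_zpow, hguw]
          rw [toMul_add, toMul_zsmul, Subgroup.coe_mul, SubgroupClass.coe_zpow, hΦX]
      refine Additive.toMul.injective (Subtype.ext ?_)
      rw [e, key, ← List.map_map, ← map_list_prod]
      exact h4
    have hptors : ∀ x : S, x ^ p = 1 := by
      rintro ⟨x, hx⟩
      induction hx using Subgroup.closure_induction with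
      | mem x hx =>
        obtain ⟨i, rfl⟩ := hx
        refine Subtype.ext ?_
        show (h ^ i * u * (h ^ i)⁻¹) ^ p = 1
        rw [_root_.conj_pow, hp, mul_one, mul_inv_cancel]
      | one => exact one_pow p
      | mul x y hx hy hx' hy' =>
        rw [show (⟨x * y, _⟩ : S) = ⟨x, hx⟩ * ⟨y, hy⟩ from rfl, mul_pow, hx', hy', one_mul]
      | inv x hx hx' => rw [show (⟨x⁻¹, _⟩ : S) = ⟨x, hx⟩⁻¹ from rfl, inv_pow, hx', inv_one]
    have hker : ∀ f : ℤ[X], aeval ω f = 0 → Φ f = 0 := by
      intro f hf
      rw [haeval] at hf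
      obtain ⟨q, hq⟩ := minpoly.dvd (ZMod p) ω hf
      obtain ⟨Q, hQ⟩ := Polynomial.map_surjective (Int.castRingHom (ZMod p))
        ZMod.intCast_surjective q
      obtain ⟨r, hr⟩ : C (p : ℤ) ∣ f - Q * M := by
        rw [C_dvd_iff_dvd_coeff]
        intro i
        rw [← ZMod.intCast_zmod_eq_zero_iff_dvd]
        have := congrArg (coeff · i) (show (f - Q * M).map (Int.castRingHom (ZMod p)) = 0 by
          rw [Polynomial.map_sub, Polynomial.map_mul, hQ, hM, hq, mul_comm, sub_self])
        simpa [Polynomial.map_mul, coeff_map, ← Polynomial.map_mul] using this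
      rw [sub_eq_iff_eq_add] at hr
      rw [hr, map_add, hΦmul M Q, hΦM, map_zero, add_zero, C_mul', map_zsmul]
      refine Additive.toMul.injective ?_
      rw [toMul_zsmul, zpow_natCast]
      exact hptors _
    have hsurj : ∀ t : F, ∃ f : ℤ[X], aeval ω f = t := fun t => by
      rcases eq_or_ne t 0 with rfl | ht
      · exact ⟨0, map_zero _⟩
      · obtain ⟨i, rfl⟩ := hgen t ht
        exact ⟨Polynomial.X ^ i, by simp⟩
    choose F' hF' using hsurj
    have hwell : ∀ f f' : ℤ[X], aeval ω f = aeval ω f' → Φ f = Φ f' := fun f f' e =>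
      sub_eq_zero.1 (by rw [← map_sub]; exact hker _ (by rw [map_sub, e, sub_self]))
    refine ⟨fun t => ((Φ (F' t)).toMul : X), fun t s => ?_, ?_, fun i => ?_, fun t => ?_⟩
    · rw [← Subgroup.coe_mul, ← toMul_add, ← map_add]
      rw [hwell (F' t + F' s) (F' (t + s)) (by rw [map_add, hF', hF', hF'])]
    · show ((Φ (F' 1)).toMul : X) = u
      rw [hwell (F' 1) (Polynomial.X ^ 0) (by simp [hF']), hΦX]
      simp [v]
    · show ((Φ (F' (ω ^ i))).toMul : X) = _
      rw [hwell (F' (ω ^ i)) (Polynomial.X ^ i) (by simp [hF']), hΦX]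
    · show h * ((Φ (F' t)).toMul : X) * h⁻¹ = ((Φ (F' (ω * t))).toMul : X)
      rw [hwell (F' (ω * t)) (Polynomial.X * F' t) (by simp [hF']), hΦmul, aeval_X, hTval]

end CfsgLib.Pres.FieldAdd
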