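import Cfsg.Agent.Lib.Pres.Basic

/-!
Presentations on a prescribed set of generators.
-/

set_option autoImplicit false

namespace CfsgLib.Pres

variable {G : Type*} [Group G] {ι : Type}

/-- What a presentation of `G` on the generators `f` consists of. -/
def PresData (f : ι → G) (L : List (FreeGroup ι)) : Prop :=
  (∀ w ∈ L, FreeGroup.lift f w = 1) ∧ Subgroup.closure (Set.range f) = ⊤ ∧
    ∀ (X : Type) [Group X] (x : ι → X), (∀ w ∈ L, FreeGroup.lift x w = 1) →
      Subgroup.closure (Set.range x) = ⊤ → ∃ φ : G →* X, ∀ i, φ (f i) = x i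

/-- The isomorphism. -/
theorem PresData.lift {f : ι → G} {L : List (FreeGroup ι)} (h : PresData f L) (X : Type) [Group X]
    (x : ι → X) (hx : ∀ w ∈ L, FreeGroup.lift x w = 1) : ∃ φ : G →* X, ∀ i, φ (f i) = x i := by
  set S := Subgroup.closure (Set.range x)
  obtain ⟨φ, hφ⟩ := h.2.2 S (fun i => ⟨x i, Subgroup.subset_closure ⟨i, rfl⟩⟩) (fun w hw => by
    refine Subtype.ext ?_
    rw [OneMemClass.coe_one, ← hx w hw]
    exact DFunLike.congr_fun (FreeGroup.ext_hom (S.subtype.comp (FreeGroup.lift fun i =>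
      (⟨x i, Subgroup.subset_closure ⟨i, rfl⟩⟩ : S))) (FreeGroup.lift x) fun i => by simp) w) (by
    rw [eq_top_iff, ← Subgroup.closure_closure_coe_preimage (k := Set.range x), Subgroup.closure_le]
    rintro ⟨y, _⟩ ⟨i, rfl⟩
    exact Subgroup.subset_closure ⟨i, rfl⟩)
  exact ⟨S.subtype.comp φ, fun i => by simp [hφ]⟩

/-- A presentation on prescribed generators gives a presentation. -/
theorem PresData.hasPres {ι : Type} [Finite ι] {f : ι → G} {L : List (FreeGroup ι)}
    (h : PresData f L) {r : ℕ} (hr : L.length ≤ r) : HasPres G r :=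
  hasPres_of f L hr h.1 h.2.1 h.2.2

/-- A presentation on prescribed generators, as a presented group. -/
theorem PresData.presented {f : ι → G} {L : List (FreeGroup ι)} (h : PresData f L) {r : ℕ}
    (hr : L.length ≤ r) :
    ∃ rels : Finset (FreeGroup ι), rels.card ≤ r ∧
      Nonempty (PresentedGroup (rels : Set (FreeGroup ι)) ≃* G) := by
  classical
  obtain ⟨hhold, hgen, huniv⟩ := h
  set R : Set (FreeGroup ι) := (L.toFinset : Set (FreeGroup ι))
  have hmem : ∀ {w}, w ∈ R ↔ w ∈ L := fun {w} => by simp [R]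
  obtain ⟨φ, hφ⟩ := huniv (PresentedGroup R) PresentedGroup.of (fun w hw => by
    rw [val_eq_lift]; exact PresentedGroup.one_of_mem (hmem.2 hw))
    (PresentedGroup.closure_range_of R)
  let ψ := PresentedGroup.toGroup (f := f) (rels := R) fun w hw => hhold w (hmem.1 hw)
  refine ⟨L.toFinset, L.toFinset_card_le.trans hr, ⟨MonoidHom.toMulEquiv ψ φ ?_ ?_⟩⟩
  · exact PresentedGroup.ext fun i => by simp [ψ, hφ]
  · refine MonoidHom.eq_of_eqOn_dense hgen ?_
    rintro _ ⟨i, rfl⟩
    simp [ψ, hφ]

/-- One more relation for a quotient by a cyclic normal subgroup. -/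
theorem PresData.quotient {f : ι → G} {L : List (FreeGroup ι)} (h : PresData f L)
    (N : Subgroup G) [N.Normal] (z : G) (hz : Subgroup.zpowers z = N) :
    ∃ v, PresData (fun i => QuotientGroup.mk' N (f i)) (v :: L) := by
  obtain ⟨hhold, hgen, huniv⟩ := h
  obtain ⟨v, hv⟩ := exists_word hgen z
  have hcomp : ∀ w, FreeGroup.lift (fun i => QuotientGroup.mk' N (f i)) w =
      QuotientGroup.mk' N (FreeGroup.lift f w) := fun w =>
    DFunLike.congr_fun (FreeGroup.ext_hom _ ((QuotientGroup.mk' _).comp (FreeGroup.lift f))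
      fun i => by simp) w
  refine ⟨v, ?_, ?_, fun X _ x hx hcl => ?_⟩
  · intro w hw
    rw [hcomp]
    rcases List.mem_cons.1 hw with rfl | hw
    · rw [hv]
      exact (QuotientGroup.eq_one_iff z).2 (hz ▸ Subgroup.mem_zpowers z)
    · rw [hhold w hw, map_one]
  · rw [Set.range_comp', ← MonoidHom.map_closure, hgen,
      Subgroup.map_top_of_surjective _ (QuotientGroup.mk'_surjective _)]
  · obtain ⟨φ, hφ⟩ := huniv X x (fun w hw => hx w (List.mem_cons_of_mem _ hw)) hcl
    have hφz : φ z = 1 := by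
      rw [← hv, ← hx v (List.mem_cons_self ..)]
      exact DFunLike.congr_fun (FreeGroup.ext_hom (φ.comp (FreeGroup.lift f)) (FreeGroup.lift x)
        fun i => by simp [hφ]) v
    refine ⟨QuotientGroup.lift N φ (hz ▸ Subgroup.zpowers_le.2 hφz), fun i => ?_⟩
    simpa using hφ i

/-- Transport of presentation data. -/
theorem PresData.map {H : Type*} [Group H] {f : ι → G} {L : List (FreeGroup ι)} (h : PresData f L)
    (e : G ≃* H) : PresData (fun i => e (f i)) L := by
  obtain ⟨h1, h2, h3⟩ := h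
  refine ⟨fun w hw => ?_, ?_, fun X _ x hx hc => ?_⟩
  · have : FreeGroup.lift (fun i => e (f i)) w = e (FreeGroup.lift f w) :=
      DFunLike.congr_fun (FreeGroup.ext_hom _ (e.toMonoidHom.comp (FreeGroup.lift f))
        fun i => by simp) w
    rw [this, h1 w hw, map_one]
  · rw [Set.range_comp', ← MulEquiv.coe_toMonoidHom, ← MonoidHom.map_closure, h2,
      Subgroup.map_top_of_surjective _ e.surjective]
  · obtain ⟨φ, hφ⟩ := h3 X x hx hc
    exact ⟨φ.comp e.symm.toMonoidHom, fun i => by simp [hφ]⟩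

end CfsgLib.Pres
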