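import Cfsg.Agent.Lib.Pres.FieldSquares
import Cfsg.Agent.Lib.Pres.OnGens
import Cfsg.Agent.Lib.Steinberg.RankOne

/-!
Short presentations of `SL_2` and `PSL_2` on three generators.
-/

set_option autoImplicit false

namespace CfsgLib.Pres.SL2Short

open Matrix CfsgLib.Steinberg CfsgLib.Steinberg.R1Data
open scoped MatrixGroups

/-- Transport of presentation data. -/
theorem PresData.map {G H : Type*} [Group G] [Group H] {ι : Type} {f : ι → G}
    {L : List (FreeGroup ι)} (h : PresData f L) (e : G ≃* H) : PresData (fun i => e (f i)) L := by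
  obtain ⟨h1, h2, h3⟩ := h
  refine ⟨fun w hw => ?_, ?_, fun X _ x hx hc => ?_⟩
  · have : FreeGroup.lift (fun i => e (f i)) w = e (FreeGroup.lift f w) :=
      DFunLike.congr_fun (FreeGroup.ext_hom _ (e.toMonoidHom.comp (FreeGroup.lift f))
        fun i => by simp) w
    rw [this, h1 w hw, map_one]
  · rw [Set.range_comp', ← MulEquiv.coe_toMonoidHom, ← MonoidHom.map_closure, h2,
      Subgroup.map_top_of_surjective _ e.surjective]
  · obtain ⟨φ, hφ⟩ := h3 X x hx hc
    exact ⟨φ.comp e.symm.toMonoidHom, fun i => by simp [hφ]⟩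

variable {F : Type*} [Field F]

/-- A diagonal element. -/
def dia (c : Fˣ) : SL(2, F) :=
  ⟨!![(c : F), 0; 0, ((c⁻¹ : Fˣ) : F)], by simp [Matrix.det_fin_two]⟩

theorem dia_up (c : Fˣ) (t : F) : dia c * up t * (dia c)⁻¹ = up ((c : F) * c * t) := by
  rw [mul_inv_eq_iff_eq_mul]
  refine Subtype.ext ?_
  show (dia c).1 * (up t).1 = (up ((c : F) * c * t)).1 * (dia c).1
  have := c.ne_zero
  ext i j; fin_cases i <;> fin_cases j <;>
    simp [dia, Matrix.mul_apply, Fin.sum_univ_two] <;> field_simp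

theorem dia_one : dia (1 : Fˣ) = 1 := Subtype.ext (by
  ext i j; fin_cases i <;> fin_cases j <;> simp [dia])

theorem dia_mul (b c : Fˣ) : dia b * dia c = dia (b * c) := Subtype.ext (by
  show (dia b).1 * (dia c).1 = _
  ext i j; fin_cases i <;> fin_cases j <;>
    simp [dia, Matrix.mul_apply, Fin.sum_univ_two, mul_comm])

theorem dia_pow (c : Fˣ) (n : ℕ) : dia c ^ n = dia (c ^ n) := by
  induction n with
  | zero => rw [pow_zero, pow_zero, dia_one]
  | succ n ih => rw [pow_succ, pow_succ, ih, dia_mul]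

theorem dia_conj (c : Fˣ) : wS * dia c * (wS : SL(2, F))⁻¹ = (dia c)⁻¹ := by
  rw [mul_inv_eq_iff_eq_mul, eq_inv_mul_iff_mul_eq]
  refine Subtype.ext ?_
  show (dia c).1 * ((wS : SL(2, F)).1 * (dia c).1) = _
  ext i j; fin_cases i <;> fin_cases j <;> simp [dia, Matrix.mul_apply, Fin.sum_univ_two]

theorem dia_eq (c : Fˣ) :
    dia c * wS = up (c : F) * (wS * up (c : F)⁻¹ * (wS : SL(2, F))⁻¹) * up (c : F) := by
  refine Subtype.ext ?_
  show (dia c).1 * (wS : SL(2, F)).1 =
    (up (c : F)).1 * ((wS : SL(2, F)).1 * (up (c : F)⁻¹).1 * (wS⁻¹ : SL(2, F)).1) * (up (c : F)).1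
  rw [show (wS⁻¹ : SL(2, F)).1 = Matrix.adjugate (wS : SL(2, F)).1 from rfl, wS_val,
    Matrix.adjugate_fin_two]
  have := c.ne_zero
  ext i j; fin_cases i <;> fin_cases j <;>
    simp [dia, Matrix.mul_apply, Fin.sum_univ_two, this]

theorem wS_conj_up (t : F) : wS * up t * (wS : SL(2, F))⁻¹ = dn (-t) := Subtype.ext (by
  show (wS : SL(2, F)).1 * (up t).1 * (wS⁻¹ : SL(2, F)).1 = _
  rw [show (wS⁻¹ : SL(2, F)).1 = Matrix.adjugate (wS : SL(2, F)).1 from rfl, wS_val,
    Matrix.adjugate_fin_two]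
  ext i j; fin_cases i <;> fin_cases j <;> simp [Matrix.mul_apply, Fin.sum_univ_two])

theorem up_add (t u : F) : up t * up u = up (t + u) := Subtype.ext (by
  show (up t : SL(2, F)).1 * (up u).1 = _
  ext i j; fin_cases i <;> fin_cases j <;> simp [Matrix.mul_apply, Fin.sum_univ_two, add_comm])

section Abstract

variable {X : Type*} [Group X] {ω : Fˣ} {a : F → X} {h n : X}

/-- Conjugating a Weyl relation by a power of the torus element. -/
theorem conj_weyl (ah : ∀ t, h * a t * h⁻¹ = a ((ω : F) * ω * t)) (hnh : n * h * n⁻¹ = h⁻¹)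
    {i : ℕ} {c : F} (he : h ^ i * n = a c * (n * a c⁻¹ * n⁻¹) * a c) (j : ℕ) :
    h ^ (2 * j + i) * n = a (((ω : F) * ω) ^ j * c) *
      (n * a (((ω : F) * ω) ^ j * c)⁻¹ * n⁻¹) * a (((ω : F) * ω) ^ j * c) := by
  induction j with
  | zero => simpa using he
  | succ j ih =>
    have hω := ω.ne_zero
    set y : F := ((ω : F) * ω) ^ j * c
    have e1 : ((ω : F) * ω) ^ (j + 1) * c = (ω : F) * ω * y := by
      simp only [y]; ring
    have hn1 : h * n = n * h⁻¹ := by
      have h1 : n * h = h⁻¹ * n := mul_inv_eq_iff_eq_mul.1 hnh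
      rw [eq_mul_inv_iff_mul_eq, mul_assoc, h1, mul_inv_cancel_left]
    have hinv : h⁻¹ * a y⁻¹ * h = a ((ω : F) * ω * y)⁻¹ := by
      have := ah ((ω : F) * ω * y)⁻¹
      rw [show (ω : F) * ω * ((ω : F) * ω * y)⁻¹ = y⁻¹ by field_simp] at this
      rw [← this]; group
    rw [e1, ← ah y, ← hinv]
    calc h ^ (2 * (j + 1) + i) * n
        = h * (h ^ (2 * j + i) * (h * n)) := by
          rw [show 2 * (j + 1) + i = 1 + (2 * j + i) + 1 by omega, pow_succ, pow_add, pow_one]
          simp only [mul_assoc]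
      _ = h * ((h ^ (2 * j + i) * n) * h⁻¹) := by rw [hn1]; simp only [mul_assoc]
      _ = h * (a y * (n * a y⁻¹ * n⁻¹) * a y * h⁻¹) := by rw [ih]
      _ = (h * a y * h⁻¹) * ((h * n) * a y⁻¹ * (h * n)⁻¹) * (h * a y * h⁻¹) := by group
      _ = _ := by rw [hn1]; group

/-- The order of the torus element. -/
theorem pow_two_mul_eq_one (ah : ∀ t, h * a t * h⁻¹ = a ((ω : F) * ω * t))
    (hnh : n * h * n⁻¹ = h⁻¹) (e1 : n = a 1 * (n * a 1 * n⁻¹) * a 1) {s : ℕ}
    (hs : ((ω : F) * ω) ^ s = 1) : h ^ (2 * s) = 1 := by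
  have he : h ^ 0 * n = a 1 * (n * a (1 : F)⁻¹ * n⁻¹) * a 1 := by
    rw [pow_zero, one_mul, inv_one]; exact e1
  have := conj_weyl ah hnh he s
  rw [hs, one_mul, inv_one, ← e1, add_zero, mul_eq_right] at this
  exact this

/-- The homomorphism. -/
theorem exists_hom (hω : ∀ c : Fˣ, ∃ i : ℕ, ω ^ i = c)
    (aadd : ∀ t u, a t * a u = a (t + u)) (ah : ∀ t, h * a t * h⁻¹ = a ((ω : F) * ω * t))
    (hnh : n * h * n⁻¹ = h⁻¹) (e1 : n = a 1 * (n * a 1 * n⁻¹) * a 1)
    (eω : h * n = a (ω : F) * (n * a (ω : F)⁻¹ * n⁻¹) * a (ω : F))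
    (hord : h ^ orderOf ω = 1) :
    ∃ φ : SL(2, F) →* X, φ (up 1) = a 1 ∧ φ (dia ω) = h ∧ φ wS = n := by
  obtain ⟨D, hD⟩ : ∃ D : Fˣ →* X, ∀ i : ℕ, D (ω ^ i) = h ^ i := by
    choose lg hlg using hω
    have key : ∀ i j : ℕ, ω ^ i = ω ^ j → h ^ i = h ^ j := fun i j e => by
      rw [pow_eq_pow_iff_modEq] at e ⊢
      exact e.of_dvd (orderOf_dvd_of_pow_eq_one hord)
    refine ⟨MonoidHom.mk' (fun c => h ^ lg c) fun b c => ?_, fun i => ?_⟩
    · rw [← pow_add]
      exact key _ _ (by rw [hlg, pow_add, hlg, hlg])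
    · exact key _ _ (hlg _)
  have hneq : ∀ c : Fˣ, D c * n = a c * (n * a (c : F)⁻¹ * n⁻¹) * a c := by
    intro c
    obtain ⟨i, rfl⟩ := hω c
    rw [hD, Units.val_pow_eq_pow_val]
    rcases Nat.even_or_odd' i with ⟨j, rfl | rfl⟩
    · have := conj_weyl (i := 0) (c := (1 : F)) ah hnh
        (by rw [pow_zero, one_mul, inv_one]; exact e1) j
      rwa [add_zero, mul_one, show ((ω : F) * ω) ^ j = (ω : F) ^ (2 * j) by
        rw [pow_mul, pow_two]] at this
    · have := conj_weyl (i := 1) (c := (ω : F)) ah hnh (by rw [pow_one]; exact eω) j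
      rwa [show ((ω : F) * ω) ^ j * (ω : F) = (ω : F) ^ (2 * j + 1) by
        rw [pow_succ, pow_mul, pow_two]] at this
  let R : R1Data F X :=
    { x := a
      hh := D
      N := n
      x_add := aadd
      hh_x := fun c t => by
        obtain ⟨i, rfl⟩ := hω c
        rw [hD, Units.val_pow_eq_pow_val]
        induction i generalizing t with
        | zero => simp
        | succ i ih =>
          rw [show (ω : F) ^ (i + 1) * (ω : F) ^ (i + 1) * t =
            (ω : F) * ω * ((ω : F) ^ i * (ω : F) ^ i * t) by ring, ← ah, ← ih, pow_succ']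
          group
      N_hh := fun c => by
        obtain ⟨i, rfl⟩ := hω c
        rw [map_inv, hD, ← conj_pow, hnh, inv_pow]
      n_eq := hneq
      N_sq := by
        have h1 := hneq 1
        have h2 := hneq (-1)
        rw [map_one, one_mul, Units.val_one, inv_one] at h1
        rw [Units.val_neg, Units.val_one, inv_neg_one] at h2
        have a0 : a 0 = 1 := by
          have := aadd 0 0
          rwa [add_zero, mul_eq_left] at this
        have hi : a (-1) = (a 1)⁻¹ :=
          eq_inv_of_mul_eq_one_left (by rw [aadd, neg_add_cancel, a0])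
        have h3 : D (-1) * n = n⁻¹ := by
          rw [h2, hi]
          conv_rhs => rw [h1]
          group
        rw [eq_mul_inv_iff_mul_eq.2 h3, _root_.mul_inv_rev, inv_inv] }
  obtain ⟨φ, hφ⟩ := R.exists_hom
  have φup : ∀ t, φ (up t) = a t := fun t => (hφ _ t).1 (up_val t)
  have φd : ∀ c : Fˣ, φ (dia c * wS) = D c * n := fun c => by
    rw [dia_eq, wS_conj_up, map_mul, map_mul, φup, (hφ _ _).2 (dn_val _), R1Data.y, neg_neg, hneq]
  have φw : φ wS = n := by
    have := φd 1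
    rwa [dia_one, one_mul, map_one, one_mul] at this
  refine ⟨φ, φup 1, ?_, φw⟩
  have := φd ω
  rw [map_mul, φw, mul_left_inj] at this
  rw [this, ← pow_one ω, hD, pow_one]

end Abstract

variable [Finite F]

/-- The generators. -/
def gens (ω : Fˣ) : Fin 3 → SL(2, F) := ![up 1, dia ω, wS]

/-- The map from the additive part. -/
def τ : FreeGroup Bool →* FreeGroup (Fin 3) :=
  FreeGroup.lift fun b => FreeGroup.of (cond b 0 1)

theorem lift_τ {Y : Type*} [Group Y] (x : Fin 3 → Y) (w : FreeGroup Bool) :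
    FreeGroup.lift x (τ w) = FreeGroup.lift (fun b => cond b (x 0) (x 1)) w :=
  DFunLike.congr_fun (FreeGroup.ext_hom ((FreeGroup.lift x).comp τ)
    (FreeGroup.lift fun b => cond b (x 0) (x 1)) fun i => by cases i <;> simp [τ]) w

theorem exists_units_gen : ∃ ω : Fˣ, (∀ c : Fˣ, ∃ i : ℕ, ω ^ i = c) ∧
    FieldSquares.Gen (ω : F) := by
  obtain ⟨ω, hω⟩ := IsCyclic.exists_monoid_generator (α := Fˣ)
  refine ⟨ω, fun c => Submonoid.mem_powers_iff _ _ |>.1 (hω c), fun t ht => ?_⟩
  obtain ⟨i, hi⟩ := Submonoid.mem_powers_iff _ _ |>.1 (hω (Units.mk0 t ht))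
  exact ⟨i, by simpa using (congrArg Units.val hi).symm⟩

omit [Finite F] in
theorem closure_top {ω : Fˣ} (hsurj : ∀ t : F, ∃ f : Polynomial ℤ,
    Polynomial.aeval ((ω : F) * ω) f = t) : Subgroup.closure (Set.range (gens ω)) = ⊤ := by
  set S := Subgroup.closure (Set.range (gens ω))
  have hu : up 1 ∈ S := Subgroup.subset_closure ⟨0, rfl⟩
  have hh : dia ω ∈ S := Subgroup.subset_closure ⟨1, rfl⟩
  have hn : wS ∈ S := Subgroup.subset_closure ⟨2, rfl⟩
  rw [eq_top_iff, ← closure_gens, Subgroup.closure_le]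
  rintro _ (⟨t, rfl⟩ | rfl)
  · obtain ⟨f, rfl⟩ := hsurj t
    have e := FieldModule.pw_eq (a := up) up_add (fun t => dia_up ω t) f 1
    rw [mul_one] at e
    show up _ ∈ S
    rw [← e]
    refine Subgroup.list_prod_mem _ fun y hy => ?_
    obtain ⟨i, -, rfl⟩ := List.mem_map.1 hy
    exact zpow_mem (mul_mem (mul_mem (pow_mem hh i) hu) (inv_mem (pow_mem hh i))) _
  · exact hn

set_option maxHeartbeats 800000 in
/-- Eight relations for `SL_2` in odd characteristic. -/
theorem sl_odd (p : ℕ) [Fact p.Prime] [CharP F p] (hp : p ≠ 2) :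
    ∃ (f : Fin 3 → SL(2, F)) (L : List (FreeGroup (Fin 3))), L.length ≤ 8 ∧ PresData f L := by
  classical
  obtain ⟨ω, hω, hgen⟩ := exists_units_gen (F := F)
  obtain ⟨L₀, hL₀, hhold₀, huniv₀⟩ := FieldSquares.exists_rels_odd p hp hgen rfl
  have hsurj := FieldSquares.aeval_squares p hp hgen (η := (ω : F) * ω) rfl
  obtain ⟨G, hG⟩ := hsurj (ω : F)
  obtain ⟨G', hG'⟩ := hsurj (ω : F)⁻¹
  let U : FreeGroup (Fin 3) := FreeGroup.of 0
  let Hw : FreeGroup (Fin 3) := FreeGroup.of 1
  let N : FreeGroup (Fin 3) := FreeGroup.of 2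
  let R1 : List (FreeGroup (Fin 3)) :=
    [N * Hw * N⁻¹ * Hw, N * (U * (N * U * N⁻¹) * U)⁻¹,
      Hw * N * (FieldModule.pw Hw U G * (N * FieldModule.pw Hw U G' * N⁻¹) *
        FieldModule.pw Hw U G)⁻¹]
  refine ⟨gens ω, L₀.map τ ++ R1, by simp [R1]; omega, ?_, closure_top hsurj, fun X _ x hx _ => ?_⟩
  · refine List.forall_mem_append.2 ⟨?_, ?_⟩
    · intro w hw
      obtain ⟨v, hv, rfl⟩ := List.mem_map.1 hw
      rw [lift_τ]
      exact hhold₀ SL(2, F) up (dia ω) up_add (dia_up ω) v hv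
    · simp only [R1, List.forall_mem_cons, List.not_mem_nil, IsEmpty.forall_iff, implies_true,
        and_true, map_mul, map_inv, FieldModule.map_pw, U, Hw, N, FreeGroup.lift_apply_of]
      show (wS * dia ω * (wS : SL(2, F))⁻¹ * dia ω = 1) ∧
        (wS * (up 1 * (wS * up 1 * (wS : SL(2, F))⁻¹) * up (1 : F))⁻¹ = 1) ∧
        (dia ω * wS * (FieldModule.pw (dia ω) (up 1) G *
          (wS * FieldModule.pw (dia ω) (up 1) G' * (wS : SL(2, F))⁻¹) *
          FieldModule.pw (dia ω) (up 1) G)⁻¹ = 1)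
      rw [FieldModule.pw_eq up_add (dia_up ω), FieldModule.pw_eq up_add (dia_up ω), hG, hG',
        mul_one, mul_one, dia_conj, inv_mul_cancel, dia_eq]
      refine ⟨rfl, ?_, mul_inv_cancel _⟩
      have := dia_eq (1 : Fˣ)
      rw [dia_one, one_mul, Units.val_one, inv_one] at this
      rw [← this, mul_inv_cancel]
  · set g := FreeGroup.lift x with hg
    obtain ⟨a, aadd, a1, ah⟩ := huniv₀ X (x 0) (x 1) fun w hw => by
      rw [← hx (τ w) (List.mem_append_left _ (List.mem_map_of_mem hw)), lift_τ]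
    have hR : ∀ w ∈ R1, g w = 1 := fun w hw => hx w (List.mem_append_right _ hw)
    have hpw : ∀ f, FieldModule.pw (x 1) (a 1) f = a (Polynomial.aeval ((ω : F) * ω) f) := fun f => by
      rw [FieldModule.pw_eq aadd ah, mul_one]
    have hU : g U = a 1 := by simp [g, U, a1]
    have hH : g Hw = x 1 := by simp [g, Hw]
    have hN : g N = x 2 := by simp [g, N]
    simp only [R1, List.forall_mem_cons, List.not_mem_nil, IsEmpty.forall_iff, implies_true,
      and_true, map_mul, map_inv, FieldModule.map_pw, hU, hH, hN, hpw, hG, hG'] at hR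
    obtain ⟨r1, r2, r3⟩ := hR
    have hnh := eq_inv_of_mul_eq_one_left r1
    rw [mul_inv_eq_one] at r2 r3
    have hord : x 1 ^ orderOf ω = 1 := by
      obtain ⟨k, hk⟩ := hω (-1)
      have h2k : ω ^ (2 * k) = 1 := by rw [Nat.mul_comm, pow_mul, hk, neg_one_sq]
      obtain ⟨s, hs⟩ : 2 ∣ orderOf ω := by
        by_contra h2
        have hco : (orderOf ω).Coprime 2 :=
          (Nat.prime_two.coprime_iff_not_dvd.2 h2).symm
        have : ω ^ k = 1 := orderOf_dvd_iff_pow_eq_one.1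
          (hco.dvd_of_dvd_mul_left (orderOf_dvd_of_pow_eq_one h2k))
        rw [hk] at this
        exact Ring.neg_one_ne_one_of_char_ne_two (by rw [ringChar.eq F p]; exact hp)
          (by simpa using congrArg Units.val this)
      rw [hs]
      refine pow_two_mul_eq_one ah hnh r2 ?_
      rw [← pow_two, ← pow_mul, ← hs, ← Units.val_pow_eq_pow_val, pow_orderOf_eq_one,
        Units.val_one]
    obtain ⟨φ, φu, φh, φn⟩ := exists_hom hω aadd ah hnh r2 r3 hord
    refine ⟨φ, fun i => ?_⟩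
    fin_cases i
    · exact φu.trans a1
    · exact φh
    · exact φn

set_option maxHeartbeats 800000 in
/-- Five relations for `SL_2` in characteristic two. -/
theorem sl_two [CharP F 2] :
    ∃ (f : Fin 3 → SL(2, F)) (L : List (FreeGroup (Fin 3))), L.length ≤ 5 ∧ PresData f L := by
  classical
  obtain ⟨ω, hω, hgen⟩ := exists_units_gen (F := F)
  set s := orderOf ω
  have hs0 : 0 < s := orderOf_pos ω
  obtain ⟨j, hj⟩ : ∃ j, s + 1 = 2 * j := by
    have : ¬ 2 ∣ s := fun ⟨k, hk⟩ => by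
      have h1 : (ω ^ k) ^ 2 = 1 := by rw [← pow_mul, mul_comm, ← hk, pow_orderOf_eq_one]
      have h2 : ((ω ^ k : Fˣ) : F) = 1 := by
        have := congrArg Units.val h1
        rw [Units.val_pow_eq_pow_val, Units.val_one] at this
        exact CharTwo.sq_injective (this.trans (one_pow 2).symm)
      have h3 := orderOf_dvd_of_pow_eq_one (show ω ^ k = 1 from Units.ext h2)
      have := Nat.le_of_dvd (by omega) h3
      omega
    obtain ⟨j, hj⟩ : 2 ∣ s + 1 := by omega
    exact ⟨j, hj⟩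
  have hωj : ((ω : F) * ω) ^ j = ω := by
    rw [← pow_two, ← pow_mul, ← hj, ← Units.val_pow_eq_pow_val, pow_succ, pow_orderOf_eq_one,
      one_mul]
  have hgen' : FieldSquares.Gen ((ω : F) * ω) := fun t ht => by
    obtain ⟨i, rfl⟩ := hgen t ht
    exact ⟨j * i, by rw [pow_mul, hωj]⟩
  obtain ⟨L₀, hL₀, hhold₀, huniv₀⟩ := FieldSquares.exists_rels_two hgen' hs0
    (show ((ω : F) * ω) ^ s = 1 by
      rw [mul_pow, ← Units.val_pow_eq_pow_val, pow_orderOf_eq_one, Units.val_one, one_mul])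
  have hsurj : ∀ t : F, ∃ f : Polynomial ℤ, Polynomial.aeval ((ω : F) * ω) f = t := fun t => by
    rcases eq_or_ne t 0 with rfl | ht
    · exact ⟨0, by simp⟩
    · obtain ⟨i, rfl⟩ := hgen' t ht
      exact ⟨Polynomial.X ^ i, by simp⟩
  let U : FreeGroup (Fin 3) := FreeGroup.of 0
  let Hw : FreeGroup (Fin 3) := FreeGroup.of 1
  let N : FreeGroup (Fin 3) := FreeGroup.of 2
  let R1 : List (FreeGroup (Fin 3)) := [N * Hw * N⁻¹ * Hw, N * (U * (N * U * N⁻¹) * U)⁻¹]
  refine ⟨gens ω, L₀.map τ ++ R1, by simp [R1]; omega, ?_, closure_top hsurj, fun X _ x hx _ => ?_⟩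
  · refine List.forall_mem_append.2 ⟨?_, ?_⟩
    · intro w hw
      obtain ⟨v, hv, rfl⟩ := List.mem_map.1 hw
      rw [lift_τ]
      refine hhold₀ SL(2, F) up (dia ω) up_add (dia_up ω) ?_ ?_ v hv
      · rw [dia_pow, pow_orderOf_eq_one, dia_one]
      · intro h1
        have : ω = 1 := Units.ext (by rw [← hωj, h1, one_pow, Units.val_one])
        rw [this, dia_one]
    · simp only [R1, List.forall_mem_cons, List.not_mem_nil, IsEmpty.forall_iff, implies_true,
        and_true, map_mul, map_inv, U, Hw, N, FreeGroup.lift_apply_of]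
      show (wS * dia ω * (wS : SL(2, F))⁻¹ * dia ω = 1) ∧
        (wS * (up 1 * (wS * up 1 * (wS : SL(2, F))⁻¹) * up (1 : F))⁻¹ = 1)
      rw [dia_conj, inv_mul_cancel]
      refine ⟨rfl, ?_⟩
      have := dia_eq (1 : Fˣ)
      rw [dia_one, one_mul, Units.val_one, inv_one] at this
      rw [← this, mul_inv_cancel]
  · set g := FreeGroup.lift x with hg
    obtain ⟨a, aadd, a1, ah, hhs⟩ := huniv₀ X (x 0) (x 1) fun w hw => by
      rw [← hx (τ w) (List.mem_append_left _ (List.mem_map_of_mem hw)), lift_τ]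
    have hR : ∀ w ∈ R1, g w = 1 := fun w hw => hx w (List.mem_append_right _ hw)
    have hU : g U = a 1 := by simp [g, U, a1]
    have hH : g Hw = x 1 := by simp [g, Hw]
    have hN : g N = x 2 := by simp [g, N]
    simp only [R1, List.forall_mem_cons, List.not_mem_nil, IsEmpty.forall_iff, implies_true,
      and_true, map_mul, map_inv, hU, hH, hN] at hR
    obtain ⟨r1, r2⟩ := hR
    have hnh := eq_inv_of_mul_eq_one_left r1
    rw [mul_inv_eq_one] at r2
    have r3 : x 1 * x 2 = a (ω : F) * (x 2 * a (ω : F)⁻¹ * (x 2)⁻¹) * a (ω : F) := by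
      have := conj_weyl (i := 0) (c := (1 : F)) ah hnh
        (by rw [pow_zero, one_mul, inv_one]; exact r2) j
      rwa [add_zero, ← hj, pow_succ, hhs, one_mul, mul_one, hωj] at this
    obtain ⟨φ, φu, φh, φn⟩ := exists_hom hω aadd ah hnh r2 r3 hhs
    refine ⟨φ, fun i => ?_⟩
    fin_cases i
    · exact φu.trans a1
    · exact φh
    · exact φn

omit [Finite F] in
theorem center_eq : Subgroup.zpowers (wS * wS) = Subgroup.center SL(2, F) := by
  have hz : ((wS * wS : SL(2, F)) : Matrix (Fin 2) (Fin 2) F) = scalar (Fin 2) (-1 : F) := by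
    show (wS : SL(2, F)).1 * (wS : SL(2, F)).1 = _
    rw [wS_val]
    ext i j; fin_cases i <;> fin_cases j <;> simp [Matrix.mul_apply, Fin.sum_univ_two]
  refine le_antisymm (Subgroup.zpowers_le.2
    (Matrix.SpecialLinearGroup.mem_center_iff.2 ⟨-1, by simp, hz.symm⟩)) fun c hc => ?_
  obtain ⟨r, hr, hrc⟩ := Matrix.SpecialLinearGroup.mem_center_iff.1 hc
  rw [Fintype.card_fin, sq_eq_one_iff] at hr
  rcases hr with rfl | rfl
  · rw [show c = 1 from Subtype.ext (by rw [← hrc, map_one]; rfl)]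
    exact one_mem _
  · rw [show c = wS * wS from Subtype.ext (by rw [← hrc, hz])]
    exact Subgroup.mem_zpowers _

/-- Nine relations for `PSL_2`. -/
theorem psl_nine (p : ℕ) [Fact p.Prime] [CharP F p] (hp : p ≠ 2) :
    ∃ (f : Fin 3 → ProjectiveSpecialLinearGroup (Fin 2) F) (L : List (FreeGroup (Fin 3))),
      L.length ≤ 9 ∧ PresData f L := by
  obtain ⟨f, L, hL, hP⟩ := sl_odd (F := F) p hp
  obtain ⟨v, hv⟩ := hP.quotient (Subgroup.center SL(2, F)) _ center_eq
  exact ⟨_, v :: L, by simp; omega, hv⟩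

/-- Five relations for `PSL_2` in characteristic two. -/
theorem psl_five [CharP F 2] :
    ∃ (f : Fin 3 → ProjectiveSpecialLinearGroup (Fin 2) F) (L : List (FreeGroup (Fin 3))),
      L.length ≤ 5 ∧ PresData f L := by
  obtain ⟨f, L, hL, hP⟩ := sl_two (F := F)
  have hbot : Subgroup.center SL(2, F) = ⊥ := by
    rw [← center_eq, Subgroup.zpowers_eq_bot]
    refine Subtype.ext ?_
    show (wS : SL(2, F)).1 * (wS : SL(2, F)).1 = (1 : Matrix (Fin 2) (Fin 2) F)
    rw [wS_val]
    ext i j; fin_cases i <;> fin_cases j <;>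
      simp [Matrix.mul_apply, Fin.sum_univ_two, CharTwo.neg_eq]
  exact ⟨_, L, hL, PresData.map hP ((QuotientGroup.quotientMulEquivOfEq hbot).trans
    QuotientGroup.quotientBot).symm⟩

end CfsgLib.Pres.SL2Short
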