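import Cfsg.Agent.Lib.Pres.SymStar
import Mathlib.GroupTheory.Perm.ViaEmbedding

/-!
A presentation with twenty-two relations of every symmetric group on at least five letters: two
overlapping copies of a symmetric group on `p + 2` letters, the second obtained by conjugation.
-/

set_option autoImplicit false

namespace CfsgLib.Pres.SymAll

open Equiv
open scoped commutatorElement

theorem closure_adj (k : ℕ) :
    Subgroup.closure (Set.range fun i : Fin k => swap i.castSucc i.succ) =
      (⊤ : Subgroup (Perm (Fin (k + 1)))) := by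
  refine eq_top_iff.2 fun g _ => ?_
  have hle : Submonoid.closure (Set.range fun i : Fin k => swap i.castSucc i.succ) ≤
      (Subgroup.closure (Set.range fun i : Fin k => swap i.castSucc i.succ)).toSubmonoid :=
    Submonoid.closure_le.2 Subgroup.subset_closure
  rw [Perm.mclosure_swap_castSucc_succ] at hle
  exact hle (Submonoid.mem_top g)

theorem hom_ext {k : ℕ} {X : Type*} [Group X] {φ ψ : Perm (Fin k) →* X}
    (h : ∀ a b : Fin k, (a : ℕ) + 1 = b → φ (swap a b) = ψ (swap a b)) : φ = ψ := by
  rcases k with _ | k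
  · exact MonoidHom.ext fun x => by rw [Subsingleton.elim x 1, map_one, map_one]
  · refine MonoidHom.eq_of_eqOn_dense (closure_adj k) ?_
    rintro _ ⟨i, rfl⟩
    exact h _ _ (by simp)

theorem exists_two_gen (k : ℕ) : ∃ a b : Perm (Fin k), Subgroup.closure {a, b} = ⊤ := by
  rcases Nat.lt_or_ge k 2 with h | h
  · refine ⟨1, 1, eq_top_iff.2 fun x _ => ?_⟩
    have : Subsingleton (Fin k) := Fin.subsingleton_iff_le_one.2 (by omega)
    rw [Subsingleton.elim x 1]
    exact one_mem _
  · exact ⟨_, _, Perm.closure_cycle_adjacent_swap (isCycle_finRotate_of_le h)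
      (support_finRotate_of_le h) ⟨0, by omega⟩⟩

theorem via_swap {α β : Type*} [DecidableEq α] [DecidableEq β] (ι : α ↪ β) (a b : α) :
    Perm.viaEmbeddingHom ι (swap a b) = swap (ι a) (ι b) := by
  refine Equiv.ext fun y => ?_
  rw [Perm.viaEmbeddingHom_apply]
  by_cases hy : y ∈ Set.range ι
  · obtain ⟨x, rfl⟩ := hy
    rw [Perm.viaEmbedding_apply, ι.injective.map_swap]
  · rw [Perm.viaEmbedding_apply_of_notMem _ _ _ hy, swap_apply_of_ne_of_ne]
    · exact fun e => hy ⟨a, e.symm⟩
    · exact fun e => hy ⟨b, e.symm⟩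

theorem adjFin {n : ℕ} (i : Fin n) : (i.castSucc : ℕ) + 1 = i.succ := by simp

variable (n m : ℕ)

/-- The relabelling of the second block. -/
def γ (hmn : m ≤ n) (h2 : n + 2 ≤ 2 * m) (i : Fin n) : Fin m :=
  if h : (i : ℕ) < m then ⟨i, h⟩ else ⟨i - m, by have := i.isLt; omega⟩

/-- The exchange of the two ends as a map. -/
def exch (i : ℕ) : ℕ := if i < n - m then i + m else if m ≤ i then i - m else i

/-- The exchange of the two ends. -/
def gEl (hmn : m ≤ n) (h2 : n + 2 ≤ 2 * m) : Perm (Fin n) :=
  Function.Involutive.toPerm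
    (fun i => ⟨exch n m i, by have := i.isLt; unfold exch; split_ifs <;> omega⟩)
    fun i => Fin.ext (by
      have := i.isLt
      show exch n m (exch n m i) = i
      unfold exch
      split_ifs <;> omega)

theorem gEl_val (hmn : m ≤ n) (h2 : n + 2 ≤ 2 * m) (i : Fin n) :
    ((gEl n m hmn h2 i : Fin n) : ℕ) = exch n m i := rfl

variable {n m}

set_option maxHeartbeats 1000000 in
/-- Gluing. -/
theorem glueData {r : ℕ} (hmn : m ≤ n) (h2 : n + 2 ≤ 2 * m) {ι : Type} [Finite ι]
    {f : ι → Perm (Fin m)} {L : List (FreeGroup ι)} (hL : L.length ≤ r) (hf : PresData f L) :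
    ∃ (f' : ι ⊕ Unit → Perm (Fin n)) (L' : List (FreeGroup (ι ⊕ Unit))),
      L'.length ≤ r + 7 ∧ PresData f' L' := by
  obtain ⟨k, rfl⟩ : ∃ k, n = k + 1 := ⟨n - 1, by omega⟩
  have huniv := hf.lift
  obtain ⟨hhold, hgen, -⟩ := hf
  set lo := k + 1 - m
  set g := gEl (k + 1) m hmn h2
  set c := γ (k + 1) m hmn h2
  let E : Perm (Fin m) →* Perm (Fin (k + 1)) := Perm.viaEmbeddingHom (Fin.castLEEmb hmn)
  have hE : ∀ a b, E (swap a b) = swap (Fin.castLE hmn a) (Fin.castLE hmn b) := fun a b =>
    via_swap (Fin.castLEEmb hmn) a b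
  have hEout : ∀ (σ : Perm (Fin m)) (y : Fin (k + 1)), m ≤ (y : ℕ) → E σ y = y := fun σ y hy =>
    Perm.viaEmbedding_apply_of_notMem _ _ _ fun ⟨a, ha⟩ => by
      have : (a : ℕ) = y := congrArg Fin.val ha
      have := a.isLt
      omega
  have hgi : ∀ x, g (g x) = x := g.left_inv
  have hginv : g⁻¹ = g := inv_eq_of_mul_eq_one_left (Equiv.ext hgi)
  have hgB : ∀ i : Fin (k + 1), lo ≤ (i : ℕ) → g (Fin.castLE hmn (c i)) = i := fun i hi => by
    have := i.isLt
    refine Fin.ext ?_
    rw [gEl_val]
    simp only [c, γ, exch]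
    split_ifs <;> simp only [Fin.val_castLE] at * <;> omega
  -- the overlap and the two ends
  let eO : Fin (m - lo) ↪ Fin m :=
    ⟨fun i => ⟨i + lo, by omega⟩, fun a b e => Fin.ext (by simpa using e)⟩
  let e1 : Fin (lo + 1) ↪ Fin m :=
    ⟨fun i => ⟨i, by omega⟩, fun a b e => Fin.ext (by simpa using e)⟩
  let e2 : Fin (lo + 1) ↪ Fin m :=
    ⟨fun i => ⟨if (i : ℕ) < lo then i else m - 1, by split_ifs <;> omega⟩, fun a b e => Fin.ext (by
      have := a.isLt; have := b.isLt
      simp only [Fin.mk.injEq] at e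
      split_ifs at e <;> omega)⟩
  let J := Perm.viaEmbeddingHom eO
  let J1 := Perm.viaEmbeddingHom e1
  let J2 := Perm.viaEmbeddingHom e2
  obtain ⟨o₁, o₂, ho⟩ := exists_two_gen (m - lo)
  obtain ⟨a₁, a₂, ha⟩ := exists_two_gen (lo + 1)
  -- generators
  let F : ι ⊕ Unit → Perm (Fin (k + 1)) := Sum.elim (fun i => E (f i)) (fun _ => g)
  let F2 : ι ⊕ ι → Perm (Fin (k + 1)) :=
    Sum.elim (fun i => E (f i)) (fun i => g * E (f i) * g⁻¹)
  let σ : FreeGroup ι →* FreeGroup (ι ⊕ Unit) :=
    FreeGroup.lift fun i => FreeGroup.of (Sum.inl i)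
  let G' : FreeGroup (ι ⊕ Unit) := FreeGroup.of (Sum.inr ())
  let τ : FreeGroup (ι ⊕ ι) →* FreeGroup (ι ⊕ Unit) :=
    FreeGroup.lift (Sum.elim (fun i => FreeGroup.of (Sum.inl i))
      fun i => G' * FreeGroup.of (Sum.inl i) * G'⁻¹)
  choose wd hwd using exists_word hgen
  -- the two copies generate
  have hgen2 : Subgroup.closure (Set.range F2) = ⊤ := by
    rw [eq_top_iff, ← closure_adj k, Subgroup.closure_le]
    have hm1 : ∀ π, E π ∈ Subgroup.closure (Set.range F2) := fun π => by
      have h : (⊤ : Subgroup (Perm (Fin m))) ≤ (Subgroup.closure (Set.range F2)).comap E := by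
        rw [← hgen, Subgroup.closure_le]
        rintro _ ⟨i, rfl⟩
        exact Subgroup.subset_closure ⟨Sum.inl i, rfl⟩
      exact h (Subgroup.mem_top π)
    have hm2 : ∀ π, g * E π * g⁻¹ ∈ Subgroup.closure (Set.range F2) := fun π => by
      have h : (⊤ : Subgroup (Perm (Fin m))) ≤ (Subgroup.closure (Set.range F2)).comap
          ((MulAut.conj g).toMonoidHom.comp E) := by
        rw [← hgen, Subgroup.closure_le]
        rintro _ ⟨i, rfl⟩
        exact Subgroup.subset_closure ⟨Sum.inr i, rfl⟩
      exact h (Subgroup.mem_top π)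
    rintro _ ⟨i, rfl⟩
    by_cases hi : (i : ℕ) + 1 < m
    · have := hm1 (swap ⟨i, by omega⟩ ⟨i + 1, hi⟩)
      rw [hE] at this
      rwa [show Fin.castLE hmn ⟨i, by omega⟩ = i.castSucc from Fin.ext rfl,
        show Fin.castLE hmn ⟨i + 1, hi⟩ = i.succ from Fin.ext (by simp)] at this
    · have := hm2 (swap (c i.castSucc) (c i.succ))
      rw [hE, ← swap_apply_apply, hgB _ (by simp; omega), hgB _ (by simp; omega)] at this
      exact this
  obtain ⟨wg, hwg⟩ := exists_word hgen2 g
  let L' : List (FreeGroup (ι ⊕ Unit)) := L.map σ ++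
    [G' * σ (wd (J o₁)) * G'⁻¹ * (σ (wd (J o₁)))⁻¹, G' * σ (wd (J o₂)) * G'⁻¹ * (σ (wd (J o₂)))⁻¹,
      ⁅σ (wd (J1 a₁)), G' * σ (wd (J2 a₁)) * G'⁻¹⁆, ⁅σ (wd (J1 a₁)), G' * σ (wd (J2 a₂)) * G'⁻¹⁆,
      ⁅σ (wd (J1 a₂)), G' * σ (wd (J2 a₁)) * G'⁻¹⁆, ⁅σ (wd (J1 a₂)), G' * σ (wd (J2 a₂)) * G'⁻¹⁆,
      G' * (τ wg)⁻¹]
  have hFσ : ∀ w, FreeGroup.lift F (σ w) = E (FreeGroup.lift f w) := fun w =>
    DFunLike.congr_fun (FreeGroup.ext_hom ((FreeGroup.lift F).comp σ) (E.comp (FreeGroup.lift f))
      fun i => by simp [σ, F]) w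
  have hFτ : ∀ w, FreeGroup.lift F (τ w) = FreeGroup.lift F2 w := fun w =>
    DFunLike.congr_fun (FreeGroup.ext_hom ((FreeGroup.lift F).comp τ) (FreeGroup.lift F2)
      fun i => by rcases i with i | i <;> simp [τ, F, F2, G']) w
  refine ⟨F, L', by simp [L']; omega, ?_, ?_, fun X _ x hx _ => ?_⟩
  · have hG : FreeGroup.lift F G' = g := by simp [G', F]
    have hfix : ∀ o, g * E (J o) * g⁻¹ = E (J o) := fun o => by
      refine DFunLike.congr_fun (hom_ext (φ := ((MulAut.conj g).toMonoidHom.comp E).comp J)
        (ψ := E.comp J) fun a b _ => ?_) o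
      show g * E (J (swap a b)) * g⁻¹ = E (J (swap a b))
      rw [via_swap, hE, ← swap_apply_apply]
      congr 1 <;>
      · refine Fin.ext ?_
        rw [gEl_val]
        have ea : ∀ z, (eO z : ℕ) = z + lo := fun _ => rfl
        simp only [exch, ea, Fin.val_castLE]
        have := a.isLt; have := b.isLt
        split_ifs <;> omega
    have hcom : ∀ a b, ⁅E (J1 a), g * E (J2 b) * g⁻¹⁆ = 1 := fun a b => by
      rw [commutatorElement_eq_one_iff_commute]
      refine Perm.Disjoint.commute fun y => ?_
      by_cases hy : (y : ℕ) ≤ lo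
      · right
        rw [Perm.mul_apply, Perm.mul_apply, hginv]
        suffices E (J2 b) (g y) = g y by rw [this, hgi]
        by_cases hy' : (y : ℕ) < lo
        · refine hEout _ _ ?_
          rw [gEl_val]; simp only [exch]; split_ifs <;> omega
        · have hgy : g y = Fin.castLEEmb hmn ⟨lo, by omega⟩ := Fin.ext (by
            rw [gEl_val]; simp only [exch, Fin.castLEEmb_apply, Fin.val_castLE]; split_ifs <;> omega)
          rw [hgy]
          refine (Perm.viaEmbedding_apply _ _ _).trans ?_
          congr 1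
          refine Perm.viaEmbedding_apply_of_notMem _ _ _ fun ⟨i, hi⟩ => ?_
          have ei : (e2 i : ℕ) = if (i : ℕ) < lo then (i : ℕ) else m - 1 := rfl
          have hv : (e2 i : ℕ) = lo := congrArg Fin.val hi
          split_ifs at ei <;> omega
      · left
        by_cases hy' : m ≤ (y : ℕ)
        · exact hEout _ _ hy'
        · have hyy : y = Fin.castLEEmb hmn ⟨y, by omega⟩ := Fin.ext rfl
          rw [hyy]
          refine (Perm.viaEmbedding_apply _ _ _).trans ?_
          congr 1
          refine Perm.viaEmbedding_apply_of_notMem _ _ _ fun ⟨i, hi⟩ => ?_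
          have ei : (e1 i : ℕ) = i := rfl
          have hv : (e1 i : ℕ) = y := congrArg Fin.val hi
          have := i.isLt
          omega
    refine List.forall_mem_append.2 ⟨fun w hw => ?_, ?_⟩
    · obtain ⟨u, hu, rfl⟩ := List.mem_map.1 hw
      rw [hFσ, hhold u hu, map_one]
    · simp only [List.forall_mem_cons, List.not_mem_nil, IsEmpty.forall_iff, implies_true, and_true,
        map_mul, map_inv, map_commutatorElement, hFσ, hFτ, hG, hwd, hwg, mul_inv_cancel, hfix, hcom]
  · rw [eq_top_iff, ← hgen2, Subgroup.closure_le]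
    rintro _ ⟨i, rfl⟩
    have h1 : ∀ i, E (f i) ∈ Subgroup.closure (Set.range F) := fun i =>
      Subgroup.subset_closure ⟨Sum.inl i, rfl⟩
    have hg' : g ∈ Subgroup.closure (Set.range F) := Subgroup.subset_closure ⟨Sum.inr (), rfl⟩
    rcases i with i | i
    · exact h1 i
    · exact mul_mem (mul_mem hg' (h1 i)) (inv_mem hg')
  · set G := x (Sum.inr ())
    obtain ⟨ψ, hψ⟩ := huniv X (fun i => x (Sum.inl i)) fun w hw => by
      rw [← hx (σ w) (List.mem_append_left _ (List.mem_map_of_mem hw))]
      exact DFunLike.congr_fun (FreeGroup.ext_hom (FreeGroup.lift fun i => x (Sum.inl i))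
        ((FreeGroup.lift x).comp σ) fun i => by simp [σ]) w
    have hσ : ∀ π, FreeGroup.lift x (σ (wd π)) = ψ π := fun π => by
      conv_rhs => rw [← hwd π]
      exact DFunLike.congr_fun (FreeGroup.ext_hom ((FreeGroup.lift x).comp σ)
        (ψ.comp (FreeGroup.lift f)) fun i => by simp [σ, hψ]) (wd π)
    have hrels : ∀ w ∈ L', FreeGroup.lift x w = 1 := hx
    simp only [L', List.forall_mem_append, List.forall_mem_cons, List.not_mem_nil, IsEmpty.forall_iff,
      implies_true, and_true, map_mul, map_inv, map_commutatorElement, hσ] at hrels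
    obtain ⟨-, ho1, ho2, h11, h12, h21, h22, hg1⟩ := hrels
    have hGx : FreeGroup.lift x G' = G := by simp [G', G]
    rw [hGx] at ho1 ho2 h11 h12 h21 h22 hg1
    rw [mul_inv_eq_one] at ho1 ho2 hg1
    rw [commutatorElement_eq_one_iff_commute] at h11 h12 h21 h22
    let Ψ : Perm (Fin m) →* X := (MulAut.conj G).toMonoidHom.comp ψ
    have hfix : ∀ o, G * ψ (J o) * G⁻¹ = ψ (J o) := DFunLike.congr_fun
      (show Ψ.comp J = ψ.comp J from MonoidHom.eq_of_eqOn_dense ho (by
        rintro _ (rfl | rfl)
        exacts [ho1, ho2]))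
    have hcomm : ∀ a b, Commute (ψ (J1 a)) (G * ψ (J2 b) * G⁻¹) := by
      intro a b
      have key : ∀ a ∈ ({a₁, a₂} : Set _), ∀ b, Commute (ψ (J1 a)) (Ψ (J2 b)) := by
        intro a ha' b
        have hb : b ∈ Subgroup.closure {a₁, a₂} := ha ▸ Subgroup.mem_top b
        induction hb using Subgroup.closure_induction with
        | mem b hb => rcases ha' with rfl | rfl <;> rcases hb with rfl | rfl <;> assumption
        | one => simp
        | mul u v _ _ hu hv => rw [map_mul, map_mul]; exact hu.mul_right hv
        | inv u _ hu => rw [map_inv, map_inv]; exact hu.inv_right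
      have ha' : a ∈ Subgroup.closure {a₁, a₂} := ha ▸ Subgroup.mem_top a
      induction ha' using Subgroup.closure_induction with
      | mem a ha' => exact key a ha' b
      | one => simp
      | mul u v _ _ hu hv => rw [map_mul, map_mul]; exact hu.mul_left hv
      | inv u _ hu => rw [map_inv, map_inv]; exact hu.inv_left
    -- adjacent transpositions
    let s : Fin k → X := fun i =>
      if h : (i : ℕ) + 1 < m then ψ (swap ⟨i, by omega⟩ ⟨i + 1, h⟩)
      else Ψ (swap (c i.castSucc) (c i.succ))
    have hsB : ∀ i : Fin k, lo ≤ (i : ℕ) → s i = Ψ (swap (c i.castSucc) (c i.succ)) := by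
      intro i hi
      simp only [s]
      split_ifs with h
      · have e1' : c i.castSucc = ⟨i, by omega⟩ := dif_pos (by simp; omega)
        have e2' : c i.succ = ⟨i + 1, h⟩ := dif_pos (by simp; omega)
        rw [e1', e2']
        have := hfix (swap ⟨i - lo, by omega⟩ ⟨i + 1 - lo, by omega⟩)
        rw [via_swap] at this
        have ea : eO ⟨i - lo, by omega⟩ = ⟨i, by omega⟩ := Fin.ext (Nat.sub_add_cancel hi)
        have eb : eO ⟨i + 1 - lo, by omega⟩ = ⟨i + 1, h⟩ := Fin.ext (Nat.sub_add_cancel (by omega))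
        rw [ea, eb] at this
        exact this.symm
      · rfl
    have sdisj : ∀ {i j : Fin k}, (i : ℕ) < lo → m ≤ (j : ℕ) + 1 → Commute (s i) (s j) := by
      intro i j hi hj
      have := hcomm (swap ⟨i, by omega⟩ ⟨i + 1, by omega⟩)
        (swap (if h : (j : ℕ) < m then ⟨lo, by omega⟩ else ⟨j - m, by omega⟩)
          ⟨(j : ℕ) + 1 - m, by omega⟩)
      simp only [J1, J2, via_swap] at this
      rw [hsB j (by omega)]
      have si : s i = ψ (swap ⟨i, by omega⟩ ⟨i + 1, by omega⟩) := dif_pos (by omega)
      rw [si]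
      have v2 : ∀ z, (e2 z : ℕ) = if (z : ℕ) < lo then (z : ℕ) else m - 1 := fun _ => rfl
      have b1 : e2 (if h : (j : ℕ) < m then ⟨lo, by omega⟩ else ⟨j - m, by omega⟩) =
          c j.castSucc := by
        refine Fin.ext ?_
        rw [v2]
        by_cases h : (j : ℕ) < m
        · rw [dif_pos h, show c j.castSucc = ⟨j, h⟩ from dif_pos h]
          simp only
          split_ifs <;> omega
        · rw [dif_neg h, show c j.castSucc = ⟨j - m, by omega⟩ from dif_neg h]
          simp only
          split_ifs <;> omega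
      have b2 : e2 ⟨(j : ℕ) + 1 - m, by omega⟩ = c j.succ := by
        refine Fin.ext ?_
        rw [v2, show c j.succ = ⟨j + 1 - m, by omega⟩ from dif_neg (by simp; omega)]
        simp only
        split_ifs <;> omega
      rw [← b1, ← b2]
      exact this
    obtain ⟨cs, hcs⟩ := Cfsg.Agent.S2530.result k
    have hlift : CoxeterMatrix.IsLiftable (CoxeterMatrix.A k) s := by
      have viaHom : ∀ (Φ : Perm (Fin m) →* X) (i j : Fin k) (P : Fin (k + 1) → Fin m),
          (∀ a b : Fin (k + 1), (a = i.castSucc ∨ a = i.succ ∨ a = j.castSucc ∨ a = j.succ) →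
            (b = i.castSucc ∨ b = i.succ ∨ b = j.castSucc ∨ b = j.succ) → P a = P b → a = b) →
          (Φ (swap (P i.castSucc) (P i.succ)) * Φ (swap (P j.castSucc) (P j.succ))) ^
            CoxeterMatrix.A k i j = 1 := by
        intro Φ i j P hP
        rw [← map_mul, ← map_pow]
        suffices (swap (P i.castSucc) (P i.succ) * swap (P j.castSucc) (P j.succ)) ^
            CoxeterMatrix.A k i j = 1 by rw [this, map_one]
        have hne : ∀ l : Fin k, l = i ∨ l = j → P l.castSucc ≠ P l.succ := by
          rintro l (rfl | rfl) e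
          · exact Fin.castSucc_lt_succ.ne (hP _ _ (by simp) (by simp) e)
          · exact Fin.castSucc_lt_succ.ne (hP _ _ (by simp) (by simp) e)
        change _ ^ (if i = j then 1 else if (j : ℕ) + 1 = i ∨ (i : ℕ) + 1 = j then 3 else 2) = 1
        split_ifs with e e'
        · subst e; rw [pow_one, swap_mul_self]
        · rcases e' with e' | e'
          · rw [show j.succ = i.castSucc from Fin.ext (by simpa using e'),
              swap_comm (P i.castSucc), swap_comm (P j.castSucc)]
            refine SymStar.pow_three_swap (hne i (Or.inl rfl)).symm (fun e1 => ?_) fun e1 => ?_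
            · exact hne j (Or.inr rfl) (by rw [← e1, show j.succ = i.castSucc from
                Fin.ext (by simpa using e')])
            · have := congrArg Fin.val (hP _ _ (by simp) (by simp) e1)
              simp at this; omega
          · rw [show i.succ = j.castSucc from Fin.ext (by simpa using e')]
            refine SymStar.pow_three_swap (fun e1 => ?_) (hne j (Or.inr rfl)) fun e1 => ?_
            · exact hne i (Or.inl rfl) (by rw [e1, show i.succ = j.castSucc from
                Fin.ext (by simpa using e')])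
            · have := congrArg Fin.val (hP _ _ (by simp) (by simp) e1)
              simp at this; omega
        · have hd : Perm.Disjoint (swap (P i.castSucc) (P i.succ))
              (swap (P j.castSucc) (P j.succ)) := by
            rw [Perm.disjoint_iff_disjoint_support, Perm.support_swap (hne i (Or.inl rfl)),
              Perm.support_swap (hne j (Or.inr rfl))]
            simp only [Finset.disjoint_insert_left, Finset.disjoint_singleton_left, Finset.mem_insert,
              Finset.mem_singleton, not_or]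
            refine ⟨⟨?_, ?_⟩, ?_, ?_⟩ <;> intro e1 <;>
              have := congrArg Fin.val (hP _ _ (by simp) (by simp) e1) <;>
              simp [Fin.ext_iff] at this e <;> omega
          exact Star.sq_of_commute (swap_mul_self _ _) (swap_mul_self _ _) hd.commute
      have inA : ∀ i j : Fin k, (i : ℕ) + 1 < m → (j : ℕ) + 1 < m →
          (s i * s j) ^ CoxeterMatrix.A k i j = 1 := by
        intro i j hi hj
        let P : Fin (k + 1) → Fin m := fun a => if h : (a : ℕ) < m then ⟨a, h⟩ else ⟨0, by omega⟩
        have e : ∀ l : Fin k, (l : ℕ) + 1 < m → s l = ψ (swap (P l.castSucc) (P l.succ)) :=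
          fun l hl => by
            have h0 : (l : ℕ) < m := by omega
            simp [s, P, hl, h0]
        rw [e i hi, e j hj]
        refine viaHom ψ i j P fun a b ha hb hab => ?_
        have : (a : ℕ) < m ∧ (b : ℕ) < m := by
          rcases ha with rfl | rfl | rfl | rfl <;> rcases hb with rfl | rfl | rfl | rfl <;>
            simp <;> omega
        exact Fin.ext (by simpa [P, this.1, this.2] using hab)
      have inB : ∀ i j : Fin k, lo ≤ (i : ℕ) → lo ≤ (j : ℕ) →
          (s i * s j) ^ CoxeterMatrix.A k i j = 1 := by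
        intro i j hi hj
        rw [hsB i hi, hsB j hj]
        refine viaHom Ψ i j c fun a b ha hb hab => ?_
        have : lo ≤ (a : ℕ) ∧ lo ≤ (b : ℕ) := by
          rcases ha with rfl | rfl | rfl | rfl <;> rcases hb with rfl | rfl | rfl | rfl <;>
            simp <;> omega
        rw [← hgB a this.1, ← hgB b this.2, hab]
      have sq : ∀ i, s i * s i = 1 := fun i => by
        simp only [s]
        split_ifs <;> rw [← map_mul, swap_mul_self, map_one]
      intro i j
      by_cases hA : (i : ℕ) + 1 < m ∧ (j : ℕ) + 1 < m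
      · exact inA i j hA.1 hA.2
      by_cases hB : lo ≤ (i : ℕ) ∧ lo ≤ (j : ℕ)
      · exact inB i j hB.1 hB.2
      have hM : CoxeterMatrix.A k i j = 2 := by
        change (if i = j then 1 else if (j : ℕ) + 1 = i ∨ (i : ℕ) + 1 = j then 3 else 2) = 2
        rw [if_neg (fun e => by subst e; omega), if_neg (by omega)]
      rw [hM]
      refine Star.sq_of_commute (sq i) (sq j) ?_
      rcases Nat.lt_or_ge (i : ℕ) lo with h | h
      · exact sdisj h (by omega)
      · exact (sdisj (by omega) (by omega)).symm
    set φ := cs.lift ⟨s, hlift⟩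
    have hφ : ∀ i : Fin k, φ (swap i.castSucc i.succ) = s i := fun i => by
      rw [← hcs]; exact cs.lift_apply_simple _ i
    have hA' : φ.comp E = ψ := hom_ext fun a b hab => by
      show φ (E (swap a b)) = _
      have hb := b.isLt
      rw [hE, show Fin.castLE hmn a = (⟨a, by omega⟩ : Fin k).castSucc from Fin.ext rfl,
        show Fin.castLE hmn b = (⟨a, by omega⟩ : Fin k).succ from Fin.ext (by simp; omega), hφ]
      simp only [s]
      rw [dif_pos (by omega)]
      congr 2
      exact Fin.ext hab
    have hB' : (φ.comp (MulAut.conj g).toMonoidHom).comp E = Ψ := by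
      let β : Perm (Fin m) := Equiv.ofBijective (fun a => c ⟨lo + a, by omega⟩)
        (Finite.injective_iff_bijective.1 fun a b e => by
          have := congrArg g (congrArg (Fin.castLE hmn) e)
          rw [hgB _ (by simp), hgB _ (by simp)] at this
          simpa [Fin.ext_iff] using this)
      refine MonoidHom.ext fun π => ?_
      have key : ((φ.comp (MulAut.conj g).toMonoidHom).comp E).comp (MulAut.conj β).toMonoidHom =
          Ψ.comp (MulAut.conj β).toMonoidHom := hom_ext fun a b hab => by
        have e1' : MulAut.conj β (swap a b) = swap (β a) (β b) := (swap_apply_apply β a b).symm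
        show φ (g * E (MulAut.conj β (swap a b)) * g⁻¹) = Ψ (MulAut.conj β (swap a b))
        have hb := b.isLt
        set l : Fin k := ⟨lo + a, by omega⟩
        have ea : β a = c l.castSucc := rfl
        have eb : β b = c l.succ := by
          show c _ = c _
          congr 1
          exact Fin.ext (by simp [l]; omega)
        rw [e1', ea, eb, hE, ← swap_apply_apply, hgB _ (by simp [l]), hgB _ (by simp [l]; omega),
          hφ, hsB l (by simp [l])]
      have := DFunLike.congr_fun key ((MulAut.conj β).symm π)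
      simpa only [MonoidHom.comp_apply, MulEquiv.coe_toMonoidHom, MulEquiv.apply_symm_apply] using
        this
    refine ⟨φ, fun i => ?_⟩
    rcases i with i | i
    · show φ (E (f i)) = _
      rw [← hψ i]
      exact DFunLike.congr_fun hA' (f i)
    · show φ g = G
      rw [hg1, ← hwg]
      exact DFunLike.congr_fun (FreeGroup.ext_hom (φ.comp (FreeGroup.lift F2))
        ((FreeGroup.lift x).comp τ) fun i => by
          rcases i with i | i
          · have := DFunLike.congr_fun hA' (f i)
            simpa [F2, τ, hψ] using this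
          · have := DFunLike.congr_fun hB' (f i)
            simpa [F2, τ, hψ, Ψ, G', G] using this) wg

/-- Twenty-two relations on five generators. -/
theorem presData_perm {n : ℕ} (hn : 5 ≤ n) : ∃ (f : Fin 4 ⊕ Unit → Perm (Fin n))
    (L : List (FreeGroup (Fin 4 ⊕ Unit))), L.length ≤ 22 ∧ PresData f L := by
  obtain ⟨p, hp, hp2, h1, h2⟩ : ∃ p, p.Prime ∧ p ≠ 2 ∧ p + 2 ≤ n ∧ n + 2 ≤ 2 * (p + 2) := by
    rcases eq_or_ne n 5 with rfl | h5
    · exact ⟨3, Nat.prime_three, by decide, by decide, by decide⟩
    obtain ⟨p, hp, h1, h2⟩ := Nat.exists_prime_lt_and_le_two_mul ((n - 2) / 2) (by omega)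
    exact ⟨p, hp, by omega, by omega, by omega⟩
  have : Fact p.Prime := ⟨hp⟩
  have e : Option (SymStar.Pt p) ≃ Fin (p + 2) :=
    Fintype.equivFinOfCardEq (by simp [Fintype.card_option, ZMod.card])
  obtain ⟨f, L, hL, h⟩ := SymStar.presData_perm (p := p) hp2
  exact glueData h1 h2 hL (h.map e.permCongrHom)

/-- Every symmetric group on at least five letters. -/
theorem hasPres_perm {n : ℕ} (hn : 5 ≤ n) : HasPres (Perm (Fin n)) 22 :=
  let ⟨_, _, hL, h⟩ := presData_perm hn
  h.hasPres hL

end CfsgLib.Pres.SymAll
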