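import Cfsg.Agent.Lib.Steinberg.RankOne

/-!
`SL_2` over a finite field with at least four elements is generated by two elements.
-/

set_option autoImplicit false

namespace CfsgLib.Pres.TwoGenSL2

open Matrix CfsgLib.Steinberg CfsgLib.Steinberg.R1Data
open scoped MatrixGroups

theorem exists_pair' {F : Type*} [Field F] [Fintype F] (h4 : 4 ≤ Fintype.card F) (ω : Fˣ)
    (hω : ∀ x, x ∈ Submonoid.powers ω) :
    ∃ h : SL(2, F), (h : Matrix (Fin 2) (Fin 2) F) = !![(ω : F), 0; 0, ((ω⁻¹ : Fˣ) : F)] ∧
      Subgroup.closure {h, up 1 * wS} = ⊤ := by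
  classical
  have hord : orderOf ω = Fintype.card F - 1 := by
    rw [orderOf_eq_card_of_forall_mem_zpowers fun c => by
      obtain ⟨i, rfl⟩ := Submonoid.mem_powers_iff _ _ |>.1 (hω c)
      exact Subgroup.npow_mem_zpowers ω i, Nat.card_units, Nat.card_eq_fintype_card]
  obtain ⟨h, hh⟩ : ∃ h : SL(2, F),
      (h : Matrix (Fin 2) (Fin 2) F) = !![(ω : F), 0; 0, ((ω⁻¹ : Fˣ) : F)] :=
    ⟨⟨!![(ω : F), 0; 0, ((ω⁻¹ : Fˣ) : F)], by simp [Matrix.det_fin_two]⟩, rfl⟩
  refine ⟨h, hh, ?_⟩
  set S := Subgroup.closure ({h, up 1 * wS} : Set SL(2, F))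
  have hS : h ∈ S := Subgroup.subset_closure (Set.mem_insert _ _)
  have bS : up 1 * wS ∈ S := Subgroup.subset_closure (Set.mem_insert_of_mem _ rfl)
  have hω0 := ω.ne_zero
  have conjh : ∀ t, h * up t * h⁻¹ = up ((ω : F) * ω * t) := fun t => by
    rw [mul_inv_eq_iff_eq_mul]
    refine Subtype.ext ?_
    show h.1 * (up t).1 = (up ((ω : F) * ω * t)).1 * h.1
    rw [hh, up_val, up_val]
    ext i j; fin_cases i <;> fin_cases j <;> simp [Matrix.mul_apply, Fin.sum_univ_two] <;> field_simp
  set c : F := 1 - (ω : F) * ω with hc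
  have hc0 : c ≠ 0 := fun e => by
    have : ω ^ 2 = 1 := Units.ext (by
      rw [Units.val_pow_eq_pow_val, pow_two, Units.val_one]; linear_combination -e)
    have := Nat.le_of_dvd (by norm_num) (orderOf_dvd_of_pow_eq_one this)
    omega
  have hcS : up c ∈ S := by
    have key : h * ((up 1 * wS) * h * (up 1 * wS)⁻¹) = up (-c) := by
      rw [← mul_assoc, mul_inv_eq_iff_eq_mul]
      refine Subtype.ext ?_
      show h.1 * ((up 1).1 * (wS : SL(2, F)).1 * h.1) =
        (up (-c)).1 * ((up 1).1 * (wS : SL(2, F)).1)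
      rw [hh, up_val, up_val, wS_val, hc]
      ext i j; fin_cases i <;> fin_cases j <;> simp [Matrix.mul_apply, Fin.sum_univ_two] <;>
        field_simp <;> ring
    have e : up c = (up (-c))⁻¹ := eq_inv_of_mul_eq_one_left (Subtype.ext (by
      show (up c).1 * (up (-c)).1 = 1
      ext i j; fin_cases i <;> fin_cases j <;> simp [Matrix.mul_apply, Fin.sum_univ_two]))
    rw [e, ← key]
    exact inv_mem (mul_mem hS (mul_mem (mul_mem bS hS) (inv_mem bS)))
  let T : AddSubgroup F :=
    { carrier := {t | up t ∈ S}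
      zero_mem' := by
        show up 0 ∈ S
        rw [show up (0 : F) = 1 from Subtype.ext (by
          rw [up_val]; ext i j; fin_cases i <;> fin_cases j <;> simp)]
        exact one_mem _
      add_mem' := fun {t u} ht hu => by
        show up (t + u) ∈ S
        rw [show up (t + u) = up t * up u from Subtype.ext (by
          show _ = (up t).1 * (up u).1
          ext i j; fin_cases i <;> fin_cases j <;>
            simp [Matrix.mul_apply, Fin.sum_univ_two, add_comm])]
        exact mul_mem ht hu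
      neg_mem' := fun {t} ht => by
        show up (-t) ∈ S
        rw [show up (-t) = (up t)⁻¹ from eq_inv_of_mul_eq_one_left (Subtype.ext (by
          show (up (-t)).1 * (up t).1 = 1
          ext i j; fin_cases i <;> fin_cases j <;> simp [Matrix.mul_apply, Fin.sum_univ_two]))]
        exact inv_mem ht }
  have hsq : ∀ t : F, t * t * c ∈ T := fun t => by
    rcases eq_or_ne t 0 with rfl | ht
    · simp
    obtain ⟨i, hi⟩ := Submonoid.mem_powers_iff _ _ |>.1 (hω (Units.mk0 t ht))
    rw [show t = (ω : F) ^ i by simpa using (congrArg Units.val hi).symm]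
    clear hi
    induction i with
    | zero => simpa [T] using hcS
    | succ i ih =>
      show up _ ∈ S
      rw [show (ω : F) ^ (i + 1) * (ω : F) ^ (i + 1) * c =
        (ω : F) * ω * ((ω : F) ^ i * (ω : F) ^ i * c) by ring, ← conjh]
      exact mul_mem (mul_mem hS ih) (inv_mem hS)
  have hall : ∀ t : F, t ∈ T := fun t => by
    by_cases h2 : ringChar F = 2
    · obtain ⟨r, hr⟩ := FiniteField.isSquare_of_char_two h2 (t / c)
      have := hsq r
      rwa [← hr, div_mul_cancel₀ t hc0] at this
    · have h4' : (4 : F) ≠ 0 := by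
        rw [show (4 : F) = 2 * 2 by norm_num]
        exact mul_ne_zero (Ring.two_ne_zero h2) (Ring.two_ne_zero h2)
      have := sub_mem (hsq (t / (4 * c) + 1)) (hsq (t / (4 * c) - 1))
      rwa [show (t / (4 * c) + 1) * (t / (4 * c) + 1) * c - (t / (4 * c) - 1) * (t / (4 * c) - 1) * c
        = t by field_simp; ring] at this
  rw [eq_top_iff, ← closure_gens, Subgroup.closure_le]
  rintro _ (⟨t, rfl⟩ | rfl)
  · exact hall t
  · have h1 : up (1 : F) ∈ S := hall 1
    have := mul_mem (inv_mem h1) bS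
    rwa [inv_mul_cancel_left] at this

theorem exists_pair {F : Type*} [Field F] [Fintype F] (h4 : 4 ≤ Fintype.card F) :
    ∃ a b : SL(2, F), Subgroup.closure {a, b} = ⊤ := by
  classical
  obtain ⟨ω, hω⟩ := IsCyclic.exists_monoid_generator (α := Fˣ)
  obtain ⟨h, -, hgen⟩ := exists_pair' h4 ω hω
  exact ⟨h, _, hgen⟩

end CfsgLib.Pres.TwoGenSL2
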