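import Cfsg.Agent.Lib.Pres.SpModel
import Cfsg.Agent.Lib.Pres.SL2Short
import Cfsg.Agent.Lib.Pres.TwoGenSL2
import Cfsg.Agent.Lib.Pres.AltMonomial
import Cfsg.Agent.Lib.Pres.FieldAdd
import Cfsg.Agent.Lib.Pres.SymAll

/-!
Symplectic groups have presentations with thirty-two relations more than the symmetric group of
their rank.
-/

set_option autoImplicit false

namespace CfsgLib.Pres.SpW

open Matrix Equiv CfsgLib.Pres.SpR CfsgLib.Classical CfsgLib.Steinberg CfsgLib.Steinberg.R1Data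
open scoped MatrixGroups commutatorElement

variable {F : Type*} [Field F]

theorem comm_mul_left {X : Type*} [Group X] {a b c : X} :
    ⁅a * b, c⁆ = a * ⁅b, c⁆ * a⁻¹ * ⁅a, c⁆ := by
  simp only [commutatorElement_def]; group

theorem comm_mul_right {X : Type*} [Group X] {a b c : X} :
    ⁅a, b * c⁆ = ⁅a, b⁆ * (b * ⁅a, c⁆ * b⁻¹) := by
  simp only [commutatorElement_def]; group

/-- Every element is a sum of two squares. -/
theorem two_squares [Finite F] (x : F) : ∃ y z : F, x = y * y + z * z := by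
  classical
  have := Fintype.ofFinite F
  by_cases h2 : ringChar F = 2
  · obtain ⟨r, hr⟩ := FiniteField.isSquare_of_char_two h2 x
    exact ⟨r, 0, by simp [hr]⟩
  · obtain ⟨a, b, h⟩ := FiniteField.exists_root_sum_quadratic (R := F) (f := Polynomial.X ^ 2)
      (g := Polynomial.X ^ 2 - Polynomial.C x) (Polynomial.degree_X_pow 2)
      (Polynomial.degree_X_pow_sub_C (by norm_num) x) (FiniteField.odd_card_of_char_ne_two h2)
    simp only [Polynomial.eval_pow, Polynomial.eval_X, Polynomial.eval_sub, Polynomial.eval_C] at h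
    exact ⟨a, b, by linear_combination -h⟩

/-- `SL₂` has two generators. -/
theorem exists_two [Finite F] : ∃ A B : SL(2, F), Subgroup.closure {A, B} = ⊤ := by
  classical
  have := Fintype.ofFinite F
  by_cases h4 : 4 ≤ Fintype.card F
  · exact TwoGenSL2.exists_pair h4
  refine ⟨up 1, wS, eq_top_iff.2 ?_⟩
  rw [← closure_gens, Subgroup.closure_le]
  rintro _ (⟨t, rfl⟩ | rfl)
  · obtain ⟨n, rfl⟩ : ∃ n : ℕ, (n : F) = t := by
      obtain ⟨p, hp⟩ := CharP.exists F
      obtain ⟨k, hpp, hk⟩ := FiniteField.card F p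
      have hcard : Fintype.card F = p := by
        have h2 := hpp.two_le
        rcases Nat.lt_or_ge (k : ℕ) 2 with hk1 | hk1
        · rw [hk, show (k : ℕ) = 1 by have := k.pos; omega, pow_one]
        · exact absurd (hk ▸ le_trans (by norm_num : 4 ≤ 2 ^ 2)
            (le_trans (Nat.pow_le_pow_left h2 2) (Nat.pow_le_pow_right (by omega) hk1))) h4
      have : Fact p.Prime := ⟨hpp⟩
      have hb : Function.Bijective (ZMod.castHom (dvd_refl p) F) := by
        rw [Fintype.bijective_iff_injective_and_card]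
        exact ⟨(ZMod.castHom (dvd_refl p) F).injective, by rw [ZMod.card, hcard]⟩
      obtain ⟨z, rfl⟩ := hb.2 t
      exact ⟨z.val, by rw [← map_natCast (ZMod.castHom (dvd_refl p) F), ZMod.natCast_zmod_val]⟩
    have : ∀ n : ℕ, up (n : F) = up 1 ^ n := fun n => by
      induction n with
      | zero => rw [Nat.cast_zero, pow_zero, up_zero]
      | succ n ih =>
        rw [pow_succ, ← ih]
        refine Subtype.ext ?_
        rw [sl_coe_mul]
        ext i j; fin_cases i <;> fin_cases j <;> simp [Matrix.mul_apply, Fin.sum_univ_two, add_comm]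
    rw [this]
    exact pow_mem (Subgroup.subset_closure (by simp)) n
  · exact Subgroup.subset_closure (by simp)

/-- Eight relations for `SL₂`. -/
theorem exists_sl2 [Finite F] :
    ∃ (f : Fin 3 → SL(2, F)) (L : List (FreeGroup (Fin 3))), L.length ≤ 8 ∧ PresData f L := by
  obtain ⟨p, hp⟩ := CharP.exists F
  have : Fact p.Prime := ⟨CharP.char_is_prime F p⟩
  rcases eq_or_ne p 2 with rfl | h
  · obtain ⟨f, L, hL, h⟩ := SL2Short.sl_two (F := F)
    exact ⟨f, L, by omega, h⟩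
  · exact SL2Short.sl_odd p h

variable {l : Type*} [Fintype l] [DecidableEq l]

/-- A pair of generators of the stabiliser of some letters. -/
theorem exists_stab (S : Finset l) : ∃ a b : Perm l, (∀ i ∈ S, a i = i) ∧ (∀ i ∈ S, b i = i) ∧
    ∀ σ : Perm l, (∀ i ∈ S, σ i = i) → σ ∈ Subgroup.closure {a, b} := by
  obtain ⟨a, b, hab⟩ := SymAll.exists_two_gen (Fintype.card {i // i ∉ S})
  let e := (Fintype.equivFin {i // i ∉ S}).symm.permCongrHom
  let J : Perm (Fin (Fintype.card {i // i ∉ S})) →* Perm l :=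
    (Perm.ofSubtype (p := fun i => i ∉ S)).comp e.toMonoidHom
  have hfix : ∀ g, ∀ i ∈ S, J g i = i := fun g i hi =>
    Perm.ofSubtype_apply_of_not_mem _ (not_not.2 hi)
  refine ⟨J a, J b, hfix a, hfix b, fun σ hσ => ?_⟩
  have hin : ∀ i, i ∉ S → σ i ∉ S := fun i hi h => hi (by
    have := σ.injective (hσ _ h); rwa [this] at h)
  obtain ⟨g, hg⟩ : ∃ g, J g = σ := by
    refine ⟨e.symm (σ.subtypePerm fun i => ⟨fun h hs => h (by rw [hσ i hs]; exact hs), hin i⟩), ?_⟩
    show Perm.ofSubtype (e (e.symm _)) = σ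
    rw [MulEquiv.apply_symm_apply]
    exact Perm.ofSubtype_subtypePerm _ fun i hi hs => hi (hσ i hs)
  rw [← hg]
  have hle : (⊤ : Subgroup (Perm (Fin (Fintype.card {i // i ∉ S})))) ≤
      (Subgroup.closure {J a, J b}).comap J := by
    rw [← hab, Subgroup.closure_le]
    rintro _ (rfl | rfl) <;> exact Subgroup.subset_closure (by simp)
  exact hle (Subgroup.mem_top g)

omit [Fintype l] [DecidableEq l] in
/-- commutation of two generated subgroups -/
theorem commute_closure {X : Type*} [Group X] {S T : Set X} (h : ∀ s ∈ S, ∀ t ∈ T, Commute s t)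
    {x y : X} (hx : x ∈ Subgroup.closure S) (hy : y ∈ Subgroup.closure T) : Commute x y := by
  have h1 : Subgroup.closure T ≤ Subgroup.centralizer (Subgroup.closure S : Set X) := by
    rw [Subgroup.closure_le]
    intro t ht
    rw [SetLike.mem_coe, Subgroup.mem_centralizer_iff]
    intro z hz
    induction hz using Subgroup.closure_induction with
    | mem z hz => exact (h z hz t ht).eq
    | one => rw [one_mul, mul_one]
    | mul a b _ _ ha hb => exact (Commute.mul_left (show Commute a t from ha) hb).eq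
    | inv a _ ha => exact (Commute.inv_left (show Commute a t from ha)).eq
  exact Subgroup.mem_centralizer_iff.1 (h1 hy) x hx

omit [Fintype l] [DecidableEq l] in
/-- the images of two generators -/
theorem hom_commute {G X : Type*} [Group G] [Group X] (φ : G →* X) {A B : G}
    (h : Subgroup.closure {A, B} = ⊤) {y : X} (hA : Commute (φ A) y) (hB : Commute (φ B) y)
    (g : G) : Commute (φ g) y := by
  refine commute_closure (S := {φ A, φ B}) (T := {y}) ?_ ?_ (Subgroup.subset_closure rfl)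
  · rintro s (rfl | rfl) t rfl <;> assumption
  · rw [← Set.image_pair, ← MonoidHom.map_closure, h]
    exact ⟨g, trivial, rfl⟩

/-- the parameters of the relations -/
structure Par (l : Type*) [Fintype l] [DecidableEq l] (F : Type*) [Field F] (o p : l) where
  A : SL(2, F)
  B : SL(2, F)
  hAB : Subgroup.closure {A, B} = ⊤
  s1 : Perm l
  s2 : Perm l
  hs1 : s1 o = o
  hs2 : s2 o = o
  hs : ∀ σ : Perm l, σ o = o → σ ∈ Subgroup.closure {s1, s2}
  t1 : Perm l
  t2 : Perm l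
  ht1 : t1 o = o ∧ t1 p = p
  ht2 : t2 o = o ∧ t2 p = p
  ht : ∀ σ : Perm l, σ o = o → σ p = p → σ ∈ Subgroup.closure {t1, t2}
  ω : Fˣ
  hω : ∀ c : Fˣ, ∃ i : ℕ, ω ^ i = c

theorem exists_par [Finite F] (o p : l) : Nonempty (Par l F o p) := by
  obtain ⟨A, B, hAB⟩ := exists_two (F := F)
  obtain ⟨s1, s2, hs1, hs2, hs⟩ := exists_stab ({o} : Finset l)
  obtain ⟨t1, t2, ht1, ht2, ht⟩ := exists_stab ({o, p} : Finset l)
  obtain ⟨ω, hω⟩ := IsCyclic.exists_monoid_generator (α := Fˣ)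
  exact ⟨⟨A, B, hAB, s1, s2, hs1 o (by simp), hs2 o (by simp),
    fun σ h => hs σ fun i hi => by rw [Finset.mem_singleton] at hi; rw [hi, h],
    t1, t2, ⟨ht1 o (by simp), ht1 p (by simp)⟩, ⟨ht2 o (by simp), ht2 p (by simp)⟩,
    fun σ h h' => ht σ fun i hi => by
      simp only [Finset.mem_insert, Finset.mem_singleton] at hi
      rcases hi with rfl | rfl <;> assumption,
    ω, fun c => Submonoid.mem_powers_iff _ _ |>.1 (hω c)⟩⟩

open _root_.Classical in
/-- The twenty further relations, evaluated. -/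
noncomputable def rels {Y : Type*} [Group Y] {o p : l} (P : Par l F o p) (ψ : Perm l → Y)
    (φ : SL(2, F) → Y) (a : F → Y) : List Y :=
  let T := ψ (swap o p)
  let H := φ (dg P.ω)
  let W := T * φ wS * T⁻¹
  [⁅ψ P.s1, φ P.A⁆, ⁅ψ P.s1, φ P.B⁆, ⁅ψ P.s2, φ P.A⁆, ⁅ψ P.s2, φ P.B⁆,
    ⁅φ P.A, T * φ P.A * T⁻¹⁆, ⁅φ P.A, T * φ P.B * T⁻¹⁆, ⁅φ P.B, T * φ P.B * T⁻¹⁆,
    ⁅ψ P.t1, a 1⁆, ⁅ψ P.t2, a 1⁆, ⁅T, a 1⁆,
    (T * H * T⁻¹) * a 1 * (T * H * T⁻¹)⁻¹ * (H * a 1 * H⁻¹)⁻¹,
    if h : ∃ σ : Perm l, σ o ≠ o ∧ σ o ≠ p then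
      ⁅ψ h.choose * φ P.A * (ψ h.choose)⁻¹, a 1⁆ else 1,
    if h : ∃ σ : Perm l, σ o ≠ o ∧ σ o ≠ p then
      ⁅ψ h.choose * φ P.B * (ψ h.choose)⁻¹, a 1⁆ else 1,
    T * φ (dg (-1)) * (W * a (-1) * W⁻¹ * (φ wS * a 1 * (φ wS)⁻¹) * (W * a (-1) * W⁻¹))⁻¹,
    ⁅φ (up 1), a 1⁆,
    if h : ∃ σ : Perm l, σ o ≠ o ∧ σ o ≠ p ∧ σ p ≠ o ∧ σ p ≠ p then
      ⁅a 1, ψ h.choose * a 1 * (ψ h.choose)⁻¹⁆ else 1,
    if h : ∃ σ : Perm l, σ o = o ∧ σ p ≠ p then
      ⁅a 1, ψ h.choose * a 1 * (ψ h.choose)⁻¹⁆ else 1,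
    ⁅a 1, W * a 1 * W⁻¹⁆ * (φ (up (-(2 * 1 * 1))))⁻¹,
    ⁅T * φ (dn 1) * T⁻¹, a 1⁆ * (W * a (-(1 * 1)) * W⁻¹ * φ (up (1 * 1 * 1)))⁻¹,
    if h : ∃ σ : Perm l, σ o = p ∧ σ p ≠ o then
      ⁅W * (ψ h.choose * a 1 * (ψ h.choose)⁻¹) * W⁻¹, a 1⁆ *
        (ψ (swap p (h.choose p)) * a (-(1 * 1)) * (ψ (swap p (h.choose p)))⁻¹)⁻¹ else 1]

theorem length_rels {Y : Type*} [Group Y] {o p : l} (P : Par l F o p) (ψ : Perm l → Y)
    (φ : SL(2, F) → Y) (a : F → Y) : (rels P ψ φ a).length = 20 := by simp [rels]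

theorem map_rels {Y Z : Type*} [Group Y] [Group Z] (g : Y →* Z) {o p : l} (P : Par l F o p)
    (ψ : Perm l → Y) (φ : SL(2, F) → Y) (a : F → Y) :
    (rels P ψ φ a).map g = rels P (fun σ => g (ψ σ)) (fun h => g (φ h)) (fun t => g (a t)) := by
  simp [rels, apply_dite g, map_commutatorElement]

/-- The relations hold for data. -/
theorem rels_data {X : Type*} [Group X] {o p : l} (P : Par l F o p) (M : SpData l F X o p) :
    ∀ y ∈ rels P M.ψ M.φ M.a, y = 1 := by
  simp only [rels, List.forall_mem_cons, List.not_mem_nil, IsEmpty.forall_iff, implies_true,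
    and_true]
  have hH : ∀ t, M.φ (dg P.ω) * M.a t * (M.φ (dg P.ω))⁻¹ = M.a ((P.ω : F) * t) := M.tor0 P.ω
  refine ⟨?_, ?_, ?_, ?_, ?_, ?_, ?_, ?_, ?_, ?_, ?_, ?_, ?_, ?_, ?_, ?_, ?_, ?_, ?_, ?_⟩
  · exact commutatorElement_eq_one_iff_commute.2 (M.stab0 _ P.hs1 _)
  · exact commutatorElement_eq_one_iff_commute.2 (M.stab0 _ P.hs1 _)
  · exact commutatorElement_eq_one_iff_commute.2 (M.stab0 _ P.hs2 _)
  · exact commutatorElement_eq_one_iff_commute.2 (M.stab0 _ P.hs2 _)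
  · exact commutatorElement_eq_one_iff_commute.2 (M.disj0 _ _)
  · exact commutatorElement_eq_one_iff_commute.2 (M.disj0 _ _)
  · exact commutatorElement_eq_one_iff_commute.2 (M.disj0 _ _)
  · exact commutatorElement_eq_one_iff_commute.2 (M.sta _ P.ht1.1 P.ht1.2 _)
  · exact commutatorElement_eq_one_iff_commute.2 (M.sta _ P.ht2.1 P.ht2.2 _)
  · exact commutatorElement_eq_one_iff_commute.2 (M.swa _)
  · rw [mul_inv_eq_one, hH]
    exact M.torP P.ω 1
  · split_ifs with h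
    · exact commutatorElement_eq_one_iff_commute.2 (M.far _ h.choose_spec.1 h.choose_spec.2 _ _)
    · rfl
  · split_ifs with h
    · exact commutatorElement_eq_one_iff_commute.2 (M.far _ h.choose_spec.1 h.choose_spec.2 _ _)
    · rfl
  · rw [mul_inv_eq_one]; exact M.wrel
  · exact commutatorElement_eq_one_iff_commute.2 (M.c1 _ _)
  · split_ifs with h
    · obtain ⟨h1, h2, h3, h4⟩ := h.choose_spec
      exact commutatorElement_eq_one_iff_commute.2 (M.c2 _ h1 h2 h3 h4 _ _)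
    · rfl
  · split_ifs with h
    · exact commutatorElement_eq_one_iff_commute.2 (M.c3 _ h.choose_spec.1 h.choose_spec.2 _ _)
    · rfl
  · rw [mul_inv_eq_one]; exact M.c4 1 1
  · rw [mul_inv_eq_one]; exact M.c5 1 1
  · split_ifs with h
    · rw [mul_inv_eq_one]; exact M.c6 _ h.choose_spec.1 h.choose_spec.2 1 1
    · rfl

variable [Finite F]

omit [Fintype l] [DecidableEq l] in
/-- from the squares to everything -/
theorem of_squares {Q : F → Prop} (h0 : Q 0) (hadd : ∀ u v, Q u → Q v → Q (u + v))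
    (hsq : ∀ y, y ≠ 0 → Q (y * y)) (t : F) : Q t := by
  obtain ⟨y, z, rfl⟩ := two_squares t
  refine hadd _ _ ?_ ?_
  · rcases eq_or_ne y 0 with rfl | hy
    · rwa [mul_zero]
    · exact hsq y hy
  · rcases eq_or_ne z 0 with rfl | hz
    · rwa [mul_zero]
    · exact hsq z hz

omit [Fintype l] [DecidableEq l] [Finite F] in
theorem dg_up_conj (c : Fˣ) (t : F) : dg c * up t * (dg c)⁻¹ = up ((c : F) * c * t) := by
  rw [mul_inv_eq_iff_eq_mul]
  refine Subtype.ext ?_
  rw [sl_coe_mul, sl_coe_mul]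
  have := c.ne_zero
  ext x y; fin_cases x <;> fin_cases y <;> simp [Matrix.mul_apply, Fin.sum_univ_two]
  field_simp

omit [Fintype l] [DecidableEq l] [Finite F] in
theorem dg_dn_conj (c : Fˣ) (t : F) :
    dg c * dn t * (dg c)⁻¹ = dn (((c⁻¹ : Fˣ) : F) * (c⁻¹ : Fˣ) * t) := by
  rw [mul_inv_eq_iff_eq_mul]
  refine Subtype.ext ?_
  rw [sl_coe_mul, sl_coe_mul]
  have := c.ne_zero
  ext x y; fin_cases x <;> fin_cases y <;> simp [Matrix.mul_apply, Fin.sum_univ_two]
  field_simp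

set_option maxHeartbeats 1000000 in
/-- The conditions follow from the relations. -/
theorem data_of_rels {X : Type*} [Group X] {o p : l} (hop : o ≠ p) (P : Par l F o p)
    (ψ : Perm l →* X) (φ : SL(2, F) →* X) (a : F → X) (π : X →* Matrix.symplecticGroup l F)
    (hπψ : ∀ σ, π (ψ σ) = permSp σ) (hπφ : ∀ g, π (φ g) = embSp o g)
    (hπa : ∀ t, π (a t) = E (Sum.inl o) (Sum.inl p) t)
    (hadd : ∀ t u, a t * a u = a (t + u))
    (hpow : ∀ i : ℕ, a ((P.ω : F) ^ i) = φ (dg P.ω) ^ i * a 1 * (φ (dg P.ω) ^ i)⁻¹)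
    (hh : ∀ t, φ (dg P.ω) * a t * (φ (dg P.ω))⁻¹ = a ((P.ω : F) * t))
    (hR : ∀ y ∈ rels P ψ φ a, y = 1) :
    ∃ M : SpData l F X o p, M.ψ = ψ ∧ M.φ = φ ∧ M.a = a ∧ M.π = π := by
  simp only [rels, List.forall_mem_cons, List.not_mem_nil, IsEmpty.forall_iff, implies_true,
    and_true, commutatorElement_eq_one_iff_commute, mul_inv_eq_one] at hR
  obtain ⟨hsA1, hsB1, hsA2, hsB2, hdAA, hdAB, hdBB, ht1, ht2, hT, hH1, hfA, hfB, hw, hc1, hc2,
    hc3, hc4, hc5, hc6⟩ := hR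
  set T := ψ (swap o p) with hTdef
  have hTT : T * T = 1 := by rw [hTdef, ← map_mul, Equiv.swap_mul_self, map_one]
  have hTi : T⁻¹ = T := inv_eq_of_mul_eq_one_left hTT
  have hgen : ∀ t : F, t ≠ 0 → ∃ i : ℕ, t = (P.ω : F) ^ i := fun t ht => by
    obtain ⟨i, hi⟩ := P.hω (Units.mk0 t ht)
    exact ⟨i, by simpa using (congrArg Units.val hi).symm⟩
  have a0 : a 0 = 1 := by
    have := hadd 0 0
    rwa [add_zero, mul_eq_left] at this
  have stab0 : ∀ σ : Perm l, σ o = o → ∀ h, Commute (ψ σ) (φ h) := fun σ hσ h => by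
    refine commute_closure (S := {ψ P.s1, ψ P.s2}) (T := {φ P.A, φ P.B}) ?_ ?_ ?_
    · rintro _ (rfl | rfl) _ (rfl | rfl) <;> assumption
    · rw [← Set.image_pair, ← MonoidHom.map_closure]; exact ⟨σ, P.hs σ hσ, rfl⟩
    · rw [← Set.image_pair, ← MonoidHom.map_closure, P.hAB]; exact ⟨h, trivial, rfl⟩
  have hdBA : Commute (φ P.B) (T * φ P.A * T⁻¹) := by
    have := (hdAB.map (MulAut.conj T).toMonoidHom).symm
    simp only [MulEquiv.coe_toMonoidHom, MulAut.conj_apply] at this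
    rwa [show T * (T * φ P.B * T⁻¹) * T⁻¹ = (T * T) * φ P.B * (T * T)⁻¹ by group, hTT, one_mul,
      inv_one, mul_one] at this
  let φ1 : SL(2, F) →* X := (MulAut.conj T).toMonoidHom.comp φ
  have hφ1 : ∀ h, φ1 h = T * φ h * T⁻¹ := fun _ => rfl
  have disj0 : ∀ h h', Commute (φ h) (φ1 h') := fun h h' =>
    hom_commute φ P.hAB (hom_commute φ1 P.hAB hdAA.symm hdAB.symm h').symm
      (hom_commute φ1 P.hAB hdBA.symm hdBB.symm h').symm h
  have a_all : ∀ {g : X}, Commute g (φ (dg P.ω)) → Commute g (a 1) → ∀ t, Commute g (a t) := by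
    intro g hg h1 t
    rcases eq_or_ne t 0 with rfl | ht
    · rw [a0]; exact Commute.one_right g
    obtain ⟨i, rfl⟩ := hgen t ht
    rw [hpow]
    exact ((hg.pow_right i).mul_right h1).mul_right (hg.pow_right i).inv_right
  have sta : ∀ σ : Perm l, σ o = o → σ p = p → ∀ t, Commute (ψ σ) (a t) := fun σ h0 h1 =>
    a_all (stab0 σ h0 _) (commute_closure (S := {ψ P.t1, ψ P.t2}) (T := {a 1})
      (by rintro _ (rfl | rfl) _ rfl <;> assumption)
      (by rw [← Set.image_pair, ← MonoidHom.map_closure]; exact ⟨σ, P.ht σ h0 h1, rfl⟩)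
      (Subgroup.subset_closure rfl))
  have tor0 : ∀ (c : Fˣ) t, φ (dg c) * a t * (φ (dg c))⁻¹ = a ((c : F) * t) := fun c t => by
    obtain ⟨i, rfl⟩ := P.hω c
    induction i generalizing t with
    | zero => simp [dg_one]
    | succ i ih =>
      rw [pow_succ', ← dg_mul, map_mul, Units.val_mul, mul_assoc (P.ω : F), ← hh, ← ih]
      group
  have h1a : ∀ i : ℕ, φ1 (dg P.ω) ^ i * a 1 * (φ1 (dg P.ω) ^ i)⁻¹ = a ((P.ω : F) ^ i) := by
    intro i
    induction i with
    | zero => simp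
    | succ i ih =>
      have hc : φ1 (dg P.ω) * φ (dg P.ω) ^ i = φ (dg P.ω) ^ i * φ1 (dg P.ω) :=
        ((disj0 (dg P.ω) (dg P.ω)).symm.pow_right i).eq
      have e1 : φ1 (dg P.ω) * a 1 * (φ1 (dg P.ω))⁻¹ = φ (dg P.ω) * a 1 * (φ (dg P.ω))⁻¹ := hH1
      rw [pow_succ', pow_succ' (P.ω : F), ← hh, hpow]
      calc _ = φ1 (dg P.ω) * (φ1 (dg P.ω) ^ i * a 1 * (φ1 (dg P.ω) ^ i)⁻¹) * (φ1 (dg P.ω))⁻¹ := by
            group
        _ = (φ1 (dg P.ω) * φ (dg P.ω) ^ i) * a 1 * (φ1 (dg P.ω) * φ (dg P.ω) ^ i)⁻¹ := by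
            rw [ih, hpow]; group
        _ = φ (dg P.ω) ^ i * (φ1 (dg P.ω) * a 1 * (φ1 (dg P.ω))⁻¹) * (φ (dg P.ω) ^ i)⁻¹ := by
            rw [hc]; group
        _ = _ := by rw [e1]; group
  have swa : ∀ t, Commute T (a t) := fun t => by
    rcases eq_or_ne t 0 with rfl | ht
    · rw [a0]; exact Commute.one_right T
    obtain ⟨i, rfl⟩ := hgen t ht
    refine mul_inv_eq_iff_eq_mul.1 ?_
    rw [← h1a i]
    conv_lhs => rw [h1a i, hpow]
    rw [hφ1, conj_pow]
    calc _ = (T * φ (dg P.ω) ^ i * T⁻¹) * (T * a 1 * T⁻¹) * (T * φ (dg P.ω) ^ i * T⁻¹)⁻¹ := by group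
      _ = _ := by rw [hT.eq, mul_inv_cancel_right]
  have torP : ∀ (c : Fˣ) t, φ1 (dg c) * a t * (φ1 (dg c))⁻¹ = a ((c : F) * t) := fun c t => by
    have := congrArg (MulAut.conj T) (tor0 c t)
    simp only [MulAut.conj_apply] at this
    rw [(swa _).eq, mul_inv_cancel_right] at this
    rw [← this, hφ1]
    calc _ = T * φ (dg c) * (T⁻¹ * a t * T) * (φ (dg c))⁻¹ * T⁻¹ := by group
      _ = _ := by rw [hTi, (swa t).eq, mul_assoc (a t), hTT, mul_one]; group
  have φσ : ∀ σ ρ : Perm l, σ o = ρ o → ∀ h, ψ σ * φ h * (ψ σ)⁻¹ = ψ ρ * φ h * (ψ ρ)⁻¹ := by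
    intro σ ρ e h
    have hc := stab0 (ρ⁻¹ * σ) (by rw [Perm.mul_apply, e]; exact ρ.symm_apply_apply o) h
    rw [map_mul, map_inv] at hc
    calc _ = ψ ρ * (((ψ ρ)⁻¹ * ψ σ) * φ h) * (ψ σ)⁻¹ := by group
      _ = _ := by rw [hc.eq]; group
  have φ_comm : ∀ σ : Perm l, σ o ≠ o → ∀ h h', Commute (φ h) (ψ σ * φ h' * (ψ σ)⁻¹) := by
    intro σ hσ h h'
    obtain ⟨μ, m1, m2⟩ := AltMono.exists_perm2 hop (Ne.symm hσ)
    have := (disj0 h h').map (MulAut.conj (ψ μ)).toMonoidHom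
    simp only [MulEquiv.coe_toMonoidHom, MulAut.conj_apply, hφ1] at this
    rw [(stab0 μ m1 h).eq, mul_inv_cancel_right, show ψ μ * (T * φ h' * T⁻¹) * (ψ μ)⁻¹ =
      ψ (μ * swap o p) * φ h' * (ψ (μ * swap o p))⁻¹ by rw [map_mul, ← hTdef]; group,
      φσ (μ * swap o p) σ (by rw [Perm.mul_apply, swap_apply_left, m2])] at this
    exact this
  have far : ∀ σ : Perm l, σ o ≠ o → σ o ≠ p → ∀ h t, Commute (ψ σ * φ h * (ψ σ)⁻¹) (a t) := by
    intro σ h1 h2 h
    refine a_all (φ_comm σ h1 _ h).symm ?_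
    have hex : ∃ σ : Perm l, σ o ≠ o ∧ σ o ≠ p := ⟨σ, h1, h2⟩
    rw [dif_pos hex, commutatorElement_eq_one_iff_commute] at hfA hfB
    obtain ⟨ρ, hρ⟩ : ∃ ρ, ρ = hex.choose := ⟨_, rfl⟩
    rw [← hρ] at hfA hfB
    have hρ' : ρ o ≠ o ∧ ρ o ≠ p := hρ ▸ hex.choose_spec
    have hall := hom_commute ((MulAut.conj (ψ ρ)).toMonoidHom.comp φ) P.hAB hfA hfB h
    obtain ⟨μ, m1, m2, m3⟩ := AltMono.exists_perm3 (p := o) (q := p) (r := ρ o) (a := o) (b := p)
      (c := σ o) (by simp [hop, hρ'.1.symm, hρ'.2.symm]) (by simp [hop, h1.symm, h2.symm])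
    have := hall.map (MulAut.conj (ψ μ)).toMonoidHom
    simp only [MulEquiv.coe_toMonoidHom, MulAut.conj_apply, MonoidHom.comp_apply] at this
    rw [(sta μ m1 m2 1).eq, mul_inv_cancel_right,
      show ψ μ * (ψ ρ * φ h * (ψ ρ)⁻¹) * (ψ μ)⁻¹ = ψ (μ * ρ) * φ h * (ψ (μ * ρ))⁻¹ by
        rw [map_mul]; group, φσ (μ * ρ) σ (by rw [Perm.mul_apply, m3])] at this
    exact this
  let W := T * φ wS * T⁻¹
  have hW1 : W = φ1 wS := rfl
  have W_dgp : ∀ d, φ1 (dg d) * W = W * φ1 (dg d⁻¹) := fun d => by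
    rw [hW1, ← map_mul, ← map_mul, wS_dg]
  have W_dgo : ∀ c, φ (dg c) * W = W * φ (dg c) := fun c => (disj0 (dg c) wS).eq
  -- the torus on the roots
  have upC : ∀ (c d : Fˣ) t, (φ (dg c) * φ1 (dg d)) * φ (up t) * (φ (dg c) * φ1 (dg d))⁻¹ =
      φ (up ((c : F) * c * t)) := fun c d t => by
    rw [← dg_up_conj, map_mul, map_mul, map_inv]
    calc _ = φ (dg c) * (φ1 (dg d) * φ (up t) * (φ1 (dg d))⁻¹) * (φ (dg c))⁻¹ := by group
      _ = _ := by rw [(disj0 (up t) (dg d)).eq.symm, mul_inv_cancel_right]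
  have aC : ∀ (c d : Fˣ) t, (φ (dg c) * φ1 (dg d)) * a t * (φ (dg c) * φ1 (dg d))⁻¹ =
      a ((c : F) * d * t) := fun c d t => by
    rw [show ∀ y z w : X, y * z * w * (y * z)⁻¹ = y * (z * w * z⁻¹) * y⁻¹ from fun y z w => by group,
      torP, tor0, mul_assoc (c : F)]
  have WC : ∀ (c d : Fˣ) t, (φ (dg c) * φ1 (dg d)) * (W * a t * W⁻¹) *
      (φ (dg c) * φ1 (dg d))⁻¹ = W * a ((c : F) * (d⁻¹ : Fˣ) * t) * W⁻¹ := fun c d t => by
    have h : φ (dg c) * φ1 (dg d) * W = W * (φ (dg c) * φ1 (dg d⁻¹)) := by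
      rw [mul_assoc, W_dgp, ← mul_assoc, W_dgo, mul_assoc]
    rw [← aC c d⁻¹]
    calc _ = (φ (dg c) * φ1 (dg d) * W) * a t * (φ (dg c) * φ1 (dg d) * W)⁻¹ := by group
      _ = _ := by rw [h]; group
  have c1 : ∀ t u, Commute (φ (up t)) (a u) := by
    intro t u
    refine of_squares (Q := fun t => Commute (φ (up t)) (a u)) (by rw [SpR.up_zero, map_one]; exact Commute.one_left _)
      (fun x y hx hy => ?_) (fun y hy => ?_) t
    · have : up (x + y) = (up x : SL(2, F)) * up y := by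
        refine Subtype.ext ?_
        rw [sl_coe_mul]
        ext i j; fin_cases i <;> fin_cases j <;> simp [Matrix.mul_apply, Fin.sum_univ_two, add_comm]
      rw [this, map_mul]; exact hx.mul_left hy
    · rcases eq_or_ne u 0 with rfl | hu
      · rw [a0]; exact Commute.one_right _
      set c := Units.mk0 y hy
      set d := c⁻¹ * Units.mk0 u hu
      have := hc1.map (MulAut.conj (φ (dg c) * φ1 (dg d))).toMonoidHom
      simp only [MulEquiv.coe_toMonoidHom, MulAut.conj_apply, upC, aC, mul_one] at this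
      rwa [show (c : F) * d = u by simp [c, d, mul_inv_cancel_left₀ hy],
        show (c : F) * c = y * y from rfl] at this
  have hσmove : ∀ σ ρ : Perm l, σ o = ρ o → σ p = ρ p → ∀ t,
      ψ σ * a t * (ψ σ)⁻¹ = ψ ρ * a t * (ψ ρ)⁻¹ := by
    intro σ ρ e e' t
    have hc := sta (ρ⁻¹ * σ) (by rw [Perm.mul_apply, e]; exact ρ.symm_apply_apply o)
      (by rw [Perm.mul_apply, e']; exact ρ.symm_apply_apply p) t
    rw [map_mul, map_inv] at hc
    calc _ = ψ ρ * (((ψ ρ)⁻¹ * ψ σ) * a t) * (ψ σ)⁻¹ := by group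
      _ = _ := by rw [hc.eq]; group
  have mv_a : ∀ {μ ρ σ : Perm l}, μ o = o → μ p = p → μ (ρ o) = σ o → μ (ρ p) = σ p → ∀ t,
      ψ μ * (ψ ρ * a t * (ψ ρ)⁻¹) * (ψ μ)⁻¹ = ψ σ * a t * (ψ σ)⁻¹ := by
    intro μ ρ σ _ _ e e' t
    rw [← hσmove (μ * ρ) σ (by rw [Perm.mul_apply, e]) (by rw [Perm.mul_apply, e']), map_mul]
    group
  have fix_a : ∀ {μ : Perm l}, μ o = o → μ p = p → ∀ t, ψ μ * a t * (ψ μ)⁻¹ = a t :=
    fun h h' t => by rw [(sta _ h h' t).eq, mul_inv_cancel_right]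
  have c2 : ∀ σ : Perm l, σ o ≠ o → σ o ≠ p → σ p ≠ o → σ p ≠ p →
      ∀ t u, Commute (a t) (ψ σ * a u * (ψ σ)⁻¹) := by
    intro σ h1 h2 h3 h4 t u
    have hex : ∃ σ : Perm l, σ o ≠ o ∧ σ o ≠ p ∧ σ p ≠ o ∧ σ p ≠ p := ⟨σ, h1, h2, h3, h4⟩
    rw [dif_pos hex, commutatorElement_eq_one_iff_commute] at hc2
    obtain ⟨ρ, hρ⟩ : ∃ ρ, ρ = hex.choose := ⟨_, rfl⟩
    rw [← hρ] at hc2
    obtain ⟨r1, r2, r3, r4⟩ : ρ o ≠ o ∧ ρ o ≠ p ∧ ρ p ≠ o ∧ ρ p ≠ p := hρ ▸ hex.choose_spec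
    have hρne : ρ o ≠ ρ p := fun e => hop (ρ.injective e)
    have hσne : σ o ≠ σ p := fun e => hop (σ.injective e)
    obtain ⟨μ, m1, m2, m3, m4⟩ := AltMono.exists_perm4 (p := o) (q := p) (r := ρ o) (s := ρ p)
      (a := o) (b := p) (c := σ o) (d := σ p)
      (by simp [hop, r1.symm, r2.symm, r3.symm, r4.symm, hρne])
      (by simp [hop, h1.symm, h2.symm, h3.symm, h4.symm, hσne])
    have hb := hc2.map (MulAut.conj (ψ μ)).toMonoidHom
    simp only [MulEquiv.coe_toMonoidHom, MulAut.conj_apply, mv_a m1 m2 m3 m4, fix_a m1 m2] at hb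
    rcases eq_or_ne t 0 with rfl | ht
    · rw [a0]; exact Commute.one_left _
    rcases eq_or_ne u 0 with rfl | hu
    · rw [a0, mul_one, mul_inv_cancel]; exact Commute.one_right _
    set c := Units.mk0 t ht
    set d := Units.mk0 u hu
    have hi : σ⁻¹ o ≠ o := fun e => h1 (by conv_lhs => rw [← e]; exact σ.apply_symm_apply o)
    have hi' : σ⁻¹ o ≠ p := fun e => h3 (by rw [← e]; exact σ.apply_symm_apply o)
    have hfx : ∀ t, φ (dg c) * (ψ σ * a t * (ψ σ)⁻¹) * (φ (dg c))⁻¹ = ψ σ * a t * (ψ σ)⁻¹ := by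
      intro t
      have hf := far σ⁻¹ hi hi' (dg c) t
      rw [map_inv, inv_inv] at hf
      calc _ = ψ σ * (((ψ σ)⁻¹ * φ (dg c) * ψ σ) * a t) * ((ψ σ)⁻¹ * φ (dg c) * ψ σ)⁻¹ * (ψ σ)⁻¹ := by
            group
        _ = _ := by rw [hf.eq]; group
    have hsc : ∀ t, (ψ σ * φ (dg d) * (ψ σ)⁻¹) * (ψ σ * a t * (ψ σ)⁻¹) *
        (ψ σ * φ (dg d) * (ψ σ)⁻¹)⁻¹ = ψ σ * a ((d : F) * t) * (ψ σ)⁻¹ := fun t => by
      rw [← tor0]; group
    have h5 := hb.map (MulAut.conj (ψ σ * φ (dg d) * (ψ σ)⁻¹)).toMonoidHom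
    simp only [MulEquiv.coe_toMonoidHom, MulAut.conj_apply, hsc, mul_one] at h5
    rw [(far σ h1 h2 (dg d) 1).eq, mul_inv_cancel_right] at h5
    have h6 := h5.map (MulAut.conj (φ (dg c))).toMonoidHom
    simp only [MulEquiv.coe_toMonoidHom, MulAut.conj_apply, hfx, tor0, mul_one] at h6
    exact h6
  have c3 : ∀ σ : Perm l, σ o = o → σ p ≠ p →
      ∀ t u, Commute (a t) (ψ σ * a u * (ψ σ)⁻¹) := by
    intro σ h1 h2 t u
    have hex : ∃ σ : Perm l, σ o = o ∧ σ p ≠ p := ⟨σ, h1, h2⟩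
    rw [dif_pos hex, commutatorElement_eq_one_iff_commute] at hc3
    obtain ⟨ρ, hρ⟩ : ∃ ρ, ρ = hex.choose := ⟨_, rfl⟩
    rw [← hρ] at hc3
    obtain ⟨r1, r2⟩ : ρ o = o ∧ ρ p ≠ p := hρ ▸ hex.choose_spec
    have r3 : ρ p ≠ o := fun e => hop (ρ.injective (r1.trans e.symm))
    have h3 : σ p ≠ o := fun e => hop (σ.injective (h1.trans e.symm))
    obtain ⟨μ, m1, m2, m3⟩ := AltMono.exists_perm3 (p := o) (q := p) (r := ρ p) (a := o) (b := p)
      (c := σ p) (by simp [hop, r2.symm, r3.symm]) (by simp [hop, h2.symm, h3.symm])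
    have hb := hc3.map (MulAut.conj (ψ μ)).toMonoidHom
    simp only [MulEquiv.coe_toMonoidHom, MulAut.conj_apply,
      mv_a m1 m2 (show μ (ρ o) = σ o by rw [r1, m1, h1]) m3, fix_a m1 m2] at hb
    rcases eq_or_ne t 0 with rfl | ht
    · rw [a0]; exact Commute.one_left _
    rcases eq_or_ne u 0 with rfl | hu
    · rw [a0, mul_one, mul_inv_cancel]; exact Commute.one_right _
    set c := Units.mk0 t ht
    set d := Units.mk0 u hu
    have hq : (σ * swap o p) o = σ p := by rw [Perm.mul_apply, swap_apply_left]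
    have hi : (σ⁻¹ * swap o p) o ≠ o := fun e => by
      rw [Perm.mul_apply, swap_apply_left] at e
      exact hop ((σ.apply_symm_apply p).symm.trans ((congrArg σ e).trans h1)).symm
    have hi' : (σ⁻¹ * swap o p) o ≠ p := fun e => by
      rw [Perm.mul_apply, swap_apply_left] at e
      exact h2 ((congrArg σ e.symm).trans (σ.apply_symm_apply p))
    have hfx : ∀ t, φ1 (dg c) * (ψ σ * a t * (ψ σ)⁻¹) * (φ1 (dg c))⁻¹ = ψ σ * a t * (ψ σ)⁻¹ := by
      intro t
      have hf := far (σ⁻¹ * swap o p) hi hi' (dg c) t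
      rw [map_mul, map_inv, ← hTdef, _root_.mul_inv_rev, inv_inv] at hf
      rw [hφ1]
      calc _ = ψ σ * (((ψ σ)⁻¹ * T * φ (dg c) * (T⁻¹ * ψ σ)) * a t) *
            ((ψ σ)⁻¹ * T * φ (dg c) * (T⁻¹ * ψ σ))⁻¹ * (ψ σ)⁻¹ := by group
        _ = _ := by rw [hf.eq]; group
    have hsc : ∀ t, (ψ σ * φ1 (dg d) * (ψ σ)⁻¹) * (ψ σ * a t * (ψ σ)⁻¹) *
        (ψ σ * φ1 (dg d) * (ψ σ)⁻¹)⁻¹ = ψ σ * a ((d : F) * t) * (ψ σ)⁻¹ := fun t => by
      rw [← torP]; group
    have hfx2 : Commute (ψ σ * φ1 (dg d) * (ψ σ)⁻¹) (a 1) := by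
      have := far (σ * swap o p) (by rw [hq]; exact h3) (by rw [hq]; exact h2) (dg d) 1
      rw [map_mul, ← hTdef] at this
      convert this using 1
      rw [hφ1]; group
    have h5 := hb.map (MulAut.conj (ψ σ * φ1 (dg d) * (ψ σ)⁻¹)).toMonoidHom
    simp only [MulEquiv.coe_toMonoidHom, MulAut.conj_apply, hsc, mul_one] at h5
    rw [hfx2.eq, mul_inv_cancel_right] at h5
    have h6 := h5.map (MulAut.conj (φ1 (dg c))).toMonoidHom
    simp only [MulEquiv.coe_toMonoidHom, MulAut.conj_apply, hfx, torP, mul_one] at h6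
    exact h6
  have hWW : ∀ t u, W * a t * W⁻¹ * (W * a u * W⁻¹) = W * a (t + u) * W⁻¹ := fun t u => by
    rw [← hadd]; group
  have Wup : ∀ t u, Commute (φ (up t)) (W * a u * W⁻¹) := fun t u => by
    have := (c1 t u).map (MulAut.conj W).toMonoidHom
    simp only [MulEquiv.coe_toMonoidHom, MulAut.conj_apply] at this
    rwa [(show Commute W (φ (up t)) from (disj0 (up t) wS).symm).eq, mul_inv_cancel_right] at this
  have up_add' : ∀ t u : F, φ (up t) * φ (up u) = φ (up (t + u)) := fun t u => by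
    rw [← map_mul]
    congr 1
    refine Subtype.ext ?_
    rw [sl_coe_mul]
    ext i j; fin_cases i <;> fin_cases j <;> simp [Matrix.mul_apply, Fin.sum_univ_two, add_comm]
  have up0 : φ (up 0) = 1 := by rw [SpR.up_zero, map_one]
  have c4 : ∀ t u, ⁅a t, W * a u * W⁻¹⁆ = φ (up (-(2 * t * u))) := by
    intro t u
    rcases eq_or_ne t 0 with rfl | ht
    · rw [a0, mul_zero, zero_mul, neg_zero, up0, commutatorElement_one_left]
    have key : ∀ z, (fun z => ⁅a t, W * a (t⁻¹ * z) * W⁻¹⁆ = φ (up (-(2 * z)))) z := by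
      refine of_squares ?_ (fun x y hx hy => ?_) (fun y hy => ?_)
      · show ⁅a t, W * a (t⁻¹ * 0) * W⁻¹⁆ = φ (up (-(2 * 0)))
        rw [mul_zero, a0, mul_one, mul_inv_cancel, commutatorElement_one_right, mul_zero, neg_zero, up0]
      · show ⁅a t, W * a (t⁻¹ * (x + y)) * W⁻¹⁆ = φ (up (-(2 * (x + y))))
        rw [mul_add, ← hWW, comm_mul_right, hx, hy,
          ((Wup _ (t⁻¹ * x)).symm).eq, mul_inv_cancel_right, up_add']
        congr 2; ring
      · show ⁅a t, W * a (t⁻¹ * (y * y)) * W⁻¹⁆ = φ (up (-(2 * (y * y))))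
        set c := Units.mk0 y hy
        set d := Units.mk0 t ht * c⁻¹
        have := congrArg (MulAut.conj (φ (dg c) * φ1 (dg d))) hc4
        rw [map_commutatorElement] at this
        simp only [MulAut.conj_apply] at this
        rw [aC, WC, upC] at this
        have e1 : (c : F) * d = t := by simp [c, d]; field_simp
        have e2 : (c : F) * (d⁻¹ : Fˣ) * 1 = t⁻¹ * (y * y) := by simp [c, d]; field_simp
        rw [mul_one, e1, e2] at this
        rw [this]
        congr 2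
        simp [c]; ring
    have := key (t * u)
    simp only at this
    rw [inv_mul_cancel_left₀ ht, ← mul_assoc] at this
    exact this
  have Wφ1 : ∀ t u, Commute (φ1 (dn t)) (W * a u * W⁻¹) := by
    intro t u
    have e : (dn t : SL(2, F)) = wS * up (-t) * wS⁻¹ := by
      rw [eq_mul_inv_iff_mul_eq]
      refine Subtype.ext ?_
      rw [sl_coe_mul, sl_coe_mul]
      ext i j; fin_cases i <;> fin_cases j <;> simp [Matrix.mul_apply, Fin.sum_univ_two]
    have h1 := (c1 (-t) u).map (MulAut.conj T).toMonoidHom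
    simp only [MulEquiv.coe_toMonoidHom, MulAut.conj_apply] at h1
    rw [(swa u).eq, mul_inv_cancel_right] at h1
    have h2 := h1.map (MulAut.conj W).toMonoidHom
    simp only [MulEquiv.coe_toMonoidHom, MulAut.conj_apply] at h2
    rw [e, map_mul, map_mul, map_inv]
    exact h2
  have c5 : ∀ t u, ⁅φ1 (dn t), a u⁆ = W * a (-(t * u)) * W⁻¹ * φ (up (u * u * t)) := by
    intro t u
    refine of_squares (Q := fun t => ⁅φ1 (dn t), a u⁆ =
      W * a (-(t * u)) * W⁻¹ * φ (up (u * u * t))) ?_ (fun x y hx hy => ?_) (fun y hy => ?_) t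
    · have : (dn 0 : SL(2, F)) = 1 := by ext i j; fin_cases i <;> fin_cases j <;> simp
      rw [this, map_one, commutatorElement_one_left, zero_mul, neg_zero, a0, mul_one, mul_inv_cancel,
        mul_zero, up0, one_mul]
    · have : (dn (x + y) : SL(2, F)) = dn x * dn y := by
        refine Subtype.ext ?_
        rw [sl_coe_mul]
        ext i j; fin_cases i <;> fin_cases j <;> simp [Matrix.mul_apply, Fin.sum_univ_two, add_comm]
      rw [this, map_mul, comm_mul_left, hx, hy,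
        ((Wφ1 x _).mul_right (disj0 _ (dn x)).symm).eq, mul_inv_cancel_right,
        show -((x + y) * u) = -(y * u) + -(x * u) by ring, ← hWW,
        show u * u * (x + y) = u * u * y + u * u * x by ring, ← up_add']
      rw [mul_assoc, ← mul_assoc (φ (up (u * u * y))), (Wup _ _).eq]
      group
    · rcases eq_or_ne u 0 with rfl | hu
      · rw [a0, commutatorElement_one_right, mul_zero, neg_zero, a0, mul_one, mul_inv_cancel,
          mul_zero, zero_mul, up0, one_mul]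
      set d := (Units.mk0 y hy)⁻¹
      set c := Units.mk0 u hu * Units.mk0 y hy
      have := congrArg (MulAut.conj (φ (dg c) * φ1 (dg d))) hc5
      rw [map_commutatorElement] at this
      simp only [MulAut.conj_apply] at this
      have hL : (φ (dg c) * φ1 (dg d)) * (T * φ (dn 1) * T⁻¹) * (φ (dg c) * φ1 (dg d))⁻¹ =
          φ1 (dn (y * y)) := by
        rw [← hφ1, show (y * y : F) = ((d⁻¹ : Fˣ) : F) * (d⁻¹ : Fˣ) * 1 by simp [d], ← dg_dn_conj]
        rw [map_mul, map_mul, map_inv]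
        calc _ = φ (dg c) * (φ1 (dg d) * φ1 (dn 1) * (φ1 (dg d))⁻¹) * (φ (dg c))⁻¹ := by group
          _ = _ := by
            rw [((disj0 (dg c) (dg d)).mul_right (disj0 (dg c) (dn 1))).mul_right
              (disj0 (dg c) (dg d)).inv_right |>.eq, mul_inv_cancel_right]
      rw [hL, ← conj_mul, aC, WC, upC] at this
      have e1 : (c : F) * d * 1 = u := by simp [c, d]; field_simp
      have e2 : (c : F) * (d⁻¹ : Fˣ) * -(1 * 1) = -(y * y * u) := by simp [c, d]; ring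
      rw [e1, e2] at this
      rw [this]
      congr 3
      simp [c]; ring
  have c6 : ∀ σ : Perm l, σ o = p → σ p ≠ o → ∀ t u,
      ⁅W * (ψ σ * a t * (ψ σ)⁻¹) * W⁻¹, a u⁆ =
        ψ (swap p (σ p)) * a (-(t * u)) * (ψ (swap p (σ p)))⁻¹ := by
    intro σ h1 h2 t u
    have hex : ∃ σ : Perm l, σ o = p ∧ σ p ≠ o := ⟨σ, h1, h2⟩
    rw [dif_pos hex, mul_inv_eq_one] at hc6
    obtain ⟨ρ, hρ⟩ : ∃ ρ, ρ = hex.choose := ⟨_, rfl⟩
    rw [← hρ] at hc6
    obtain ⟨r1, r2⟩ : ρ o = p ∧ ρ p ≠ o := hρ ▸ hex.choose_spec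
    have r3 : ρ p ≠ p := fun e => hop (ρ.injective (r1.trans e.symm))
    have h3 : σ p ≠ p := fun e => hop (σ.injective (h1.trans e.symm))
    obtain ⟨μ, m1, m2, m3⟩ := AltMono.exists_perm3 (p := o) (q := p) (r := ρ p) (a := o) (b := p)
      (c := σ p) (by simp [hop, r2.symm, r3.symm]) (by simp [hop, h2.symm, h3.symm])
    have hμW : Commute (ψ μ) W := by
      have := φσ (μ * swap o p) (swap o p)
        (by rw [Perm.mul_apply, swap_apply_left, m2]) wS
      rw [map_mul, ← hTdef] at this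
      refine mul_inv_eq_iff_eq_mul.1 ?_
      rw [show ψ μ * W * (ψ μ)⁻¹ = ψ μ * T * φ wS * (ψ μ * T)⁻¹ by simp only [W]; group]
      exact this
    have hb := congrArg (MulAut.conj (ψ μ)) hc6
    rw [map_commutatorElement] at hb
    simp only [MulAut.conj_apply] at hb
    have hμW' : ψ μ * W⁻¹ = W⁻¹ * ψ μ := hμW.inv_right.eq
    rw [fix_a m1 m2, show ψ μ * (W * (ψ ρ * a 1 * (ψ ρ)⁻¹) * W⁻¹) * (ψ μ)⁻¹ =
      (ψ μ * W) * (ψ ρ * a 1 * (ψ ρ)⁻¹) * (ψ μ * W)⁻¹ by group, hμW.eq,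
      show W * ψ μ * (ψ ρ * a 1 * (ψ ρ)⁻¹) * (W * ψ μ)⁻¹ =
      W * (ψ μ * (ψ ρ * a 1 * (ψ ρ)⁻¹) * (ψ μ)⁻¹) * W⁻¹ by group,
      mv_a m1 m2 (show μ (ρ o) = σ o by rw [r1, m2, h1]) m3,
      mv_a (ρ := swap p (ρ p)) (σ := swap p (σ p)) m1 m2
        (by rw [swap_apply_of_ne_of_ne hop r2.symm, swap_apply_of_ne_of_ne hop h2.symm, m1])
        (by rw [swap_apply_left, swap_apply_left, m3])] at hb
    rcases eq_or_ne t 0 with rfl | ht
    · rw [a0, mul_one, mul_inv_cancel, mul_one, mul_inv_cancel, commutatorElement_one_left, zero_mul,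
        neg_zero, a0, mul_one, mul_inv_cancel]
    rcases eq_or_ne u 0 with rfl | hu
    · rw [a0, commutatorElement_one_right, mul_zero, neg_zero, a0, mul_one, mul_inv_cancel]
    set c := Units.mk0 u hu
    set d := Units.mk0 t ht
    have hi : σ⁻¹ o ≠ o := fun e => hop ((perm_self_inv σ o).symm.trans ((congrArg σ e).trans h1))
    have hi' : σ⁻¹ o ≠ p := fun e => h2 (by rw [← e]; exact σ.apply_symm_apply o)
    have hs0 : Commute (ψ (swap p (σ p))) (φ (dg c)) :=
      stab0 _ (swap_apply_of_ne_of_ne hop h2.symm) _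
    have hLc : φ (dg c) * (W * (ψ σ * a 1 * (ψ σ)⁻¹) * W⁻¹) * (φ (dg c))⁻¹ =
        W * (ψ σ * a 1 * (ψ σ)⁻¹) * W⁻¹ := by
      have hf := far σ⁻¹ hi hi' (dg c) 1
      rw [map_inv, inv_inv] at hf
      calc _ = (φ (dg c) * W) * (ψ σ * a 1 * (ψ σ)⁻¹) * (φ (dg c) * W)⁻¹ := by group
        _ = W * (ψ σ * ((((ψ σ)⁻¹ * φ (dg c) * ψ σ) * a 1) *
            ((ψ σ)⁻¹ * φ (dg c) * ψ σ)⁻¹) * (ψ σ)⁻¹) * W⁻¹ := by rw [W_dgo]; group
        _ = _ := by rw [hf.eq]; group
    have hRc : ∀ v, φ (dg c) * (ψ (swap p (σ p)) * a v * (ψ (swap p (σ p)))⁻¹) * (φ (dg c))⁻¹ =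
        ψ (swap p (σ p)) * a ((c : F) * v) * (ψ (swap p (σ p)))⁻¹ := fun v => by
      rw [← tor0]
      calc _ = (φ (dg c) * ψ (swap p (σ p))) * a v * (φ (dg c) * ψ (swap p (σ p)))⁻¹ := by group
        _ = _ := by rw [← hs0.eq]; group
    have h5 := congrArg (MulAut.conj (φ (dg c))) hb
    rw [map_commutatorElement] at h5
    simp only [MulAut.conj_apply] at h5
    rw [hLc, hRc, tor0] at h5
    -- the second torus element
    let Q := ψ σ * φ1 (dg d) * (ψ σ)⁻¹
    have hQ : Q = ψ (swap p (σ p)) * φ1 (dg d) * (ψ (swap p (σ p)))⁻¹ := by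
      have := φσ (σ * swap o p) (swap p (σ p) * swap o p)
        (by simp [Perm.mul_apply]) (dg d)
      rw [map_mul, map_mul, ← hTdef] at this
      simp only [Q, hφ1]
      convert this using 1 <;> group
    have hQf := far (σ * swap o p) (by simpa using h2) (by simpa using h3) (dg d) ((c : F) * 1)
    rw [map_mul, ← hTdef] at hQf
    have hQa : Q * a ((c : F) * 1) * Q⁻¹ = a ((c : F) * 1) := by
      rw [show Q = ψ σ * T * φ (dg d) * (ψ σ * T)⁻¹ by simp only [Q, hφ1]; group, hQf.eq,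
        mul_inv_cancel_right]
    have hQW : Commute Q W := by
      have := (φ_comm (swap o p * σ * swap o p) (by
        simp only [Perm.mul_apply, swap_apply_left]
        rw [swap_apply_of_ne_of_ne h2 h3]; exact h2) wS (dg d)).map (MulAut.conj T).toMonoidHom
      simp only [MulEquiv.coe_toMonoidHom, MulAut.conj_apply] at this
      refine Commute.symm ?_
      convert this using 1
      rw [map_mul, map_mul, ← hTdef]
      simp only [Q, hφ1, hTi]
      rw [show T * (T * ψ σ * T * φ (dg d) * (T * ψ σ * T)⁻¹) * T =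
        (T * T) * ψ σ * T * φ (dg d) * T⁻¹ * (ψ σ)⁻¹ * (T⁻¹ * T) by group, hTT, hTi, hTT]
      group
    have h7 := congrArg (MulAut.conj Q) h5
    rw [map_commutatorElement] at h7
    simp only [MulAut.conj_apply] at h7
    rw [hQa, show Q * (W * (ψ σ * a 1 * (ψ σ)⁻¹) * W⁻¹) * Q⁻¹ =
        (Q * W) * (ψ σ * a 1 * (ψ σ)⁻¹) * (Q * W)⁻¹ by group, hQW.eq,
      show W * Q * (ψ σ * a 1 * (ψ σ)⁻¹) * (W * Q)⁻¹ =
        W * (ψ σ * (φ1 (dg d) * a 1 * (φ1 (dg d))⁻¹) * (ψ σ)⁻¹) * W⁻¹ by simp only [Q]; group,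
      torP, hQ, show ∀ y z w : X, y * z * y⁻¹ * (y * w * y⁻¹) * (y * z * y⁻¹)⁻¹ =
        y * (z * w * z⁻¹) * y⁻¹ from fun y z w => by group, torP] at h7
    simp only [mul_one] at h7
    rw [show (d : F) = t from rfl, show (c : F) = u from rfl] at h7
    rw [h7]
    congr 3
    ring
  exact ⟨{ ψ := ψ, φ := φ, a := a, π := π
           πψ := fun σ A => by rw [hπψ, permSp_bv]
           πup := fun t => by rw [hπφ, embSp_up]
           πdn := fun t => by rw [hπφ, embSp_dn]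
           πa := hπa
           op := hop
           stab0 := stab0
           disj0 := disj0
           sta := sta
           swa := swa
           a_add := hadd
           tor0 := tor0
           far := far
           wrel := hw
           c1 := c1, c2 := c2, c3 := c3, c4 := c4, c5 := c5, c6 := c6 }, rfl, rfl, rfl, rfl⟩

/-- The presentation. -/
theorem presData_sp {o p : l} (hop : o ≠ p) {ι : Type} [Finite ι] {fP : ι → Perm l}
    {LP : List (FreeGroup ι)} {r : ℕ} (hr : LP.length ≤ r) (hP : PresData fP LP) :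
    ∃ (f : ι ⊕ (Fin 3 ⊕ Unit) → Matrix.symplecticGroup l F)
      (L : List (FreeGroup (ι ⊕ (Fin 3 ⊕ Unit)))), L.length ≤ r + 32 ∧ PresData f L := by
  classical
  obtain ⟨P⟩ := exists_par (F := F) o p
  obtain ⟨fS, LS, hLS, hS⟩ := exists_sl2 (F := F)
  obtain ⟨q, hq⟩ := CharP.exists F
  have : Fact q.Prime := ⟨CharP.char_is_prime F q⟩
  have hgen : ∀ t : F, t ≠ 0 → ∃ i : ℕ, t = (P.ω : F) ^ i := fun t ht => by
    obtain ⟨i, hi⟩ := P.hω (Units.mk0 t ht)
    exact ⟨i, by simpa using (congrArg Units.val hi).symm⟩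
  obtain ⟨L₀, hL₀, hhold₀, huniv₀⟩ := FieldAdd.exists_rels q hgen
  choose wP hwP using exists_word hP.2.1
  choose wSL hwSL using exists_word hS.2.1
  choose lg hlg using hgen
  let σP : FreeGroup ι →* FreeGroup (ι ⊕ (Fin 3 ⊕ Unit)) :=
    FreeGroup.lift fun i => FreeGroup.of (Sum.inl i)
  let σS : FreeGroup (Fin 3) →* FreeGroup (ι ⊕ (Fin 3 ⊕ Unit)) :=
    FreeGroup.lift fun i => FreeGroup.of (Sum.inr (Sum.inl i))
  let U : FreeGroup (ι ⊕ (Fin 3 ⊕ Unit)) := FreeGroup.of (Sum.inr (Sum.inr ()))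
  let ψw : Perm l → FreeGroup (ι ⊕ (Fin 3 ⊕ Unit)) := fun σ => σP (wP σ)
  let φw : SL(2, F) → FreeGroup (ι ⊕ (Fin 3 ⊕ Unit)) := fun g => σS (wSL g)
  let aw : F → FreeGroup (ι ⊕ (Fin 3 ⊕ Unit)) := fun t =>
    if ht : t = 0 then 1 else φw (dg P.ω) ^ lg t ht * U * (φw (dg P.ω) ^ lg t ht)⁻¹
  let τ : FreeGroup Bool →* FreeGroup (ι ⊕ (Fin 3 ⊕ Unit)) :=
    FreeGroup.lift fun b => cond b U (φw (dg P.ω))
  let f : ι ⊕ (Fin 3 ⊕ Unit) → Matrix.symplecticGroup l F :=
    Sum.elim (fun i => permSp (fP i))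
      (Sum.elim (fun i => embSp o (fS i)) fun _ => E (Sum.inl o) (Sum.inl p) 1)
  set L := LP.map σP ++ LS.map σS ++ L₀.map τ ++ rels P ψw φw aw with hLdef
  have hlen : L.length ≤ r + 32 := by simp [L, length_rels]; omega
  -- values in the symplectic group
  have fψ : ∀ w, FreeGroup.lift f (σP w) = permSp (FreeGroup.lift fP w) := fun w =>
    DFunLike.congr_fun (FreeGroup.ext_hom ((FreeGroup.lift f).comp σP)
      (permSp.comp (FreeGroup.lift fP)) fun i => by simp [σP, f]) w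
  have fφ : ∀ w, FreeGroup.lift f (σS w) = embSp o (FreeGroup.lift fS w) := fun w =>
    DFunLike.congr_fun (FreeGroup.ext_hom ((FreeGroup.lift f).comp σS)
      ((embSp o).comp (FreeGroup.lift fS)) fun i => by simp [σS, f]) w
  let M : SpData l F (Matrix.symplecticGroup l F) o p := SpData.ofInjective permSp (embSp o)
    (fun t => E (Sum.inl o) (Sum.inl p) t) (MonoidHom.id _) Function.injective_id hop
    (fun _ => rfl) (fun _ => rfl) (fun _ => rfl)
  have Mh : ∀ (i : ℕ), M.φ (dg P.ω) ^ i * M.a 1 * (M.φ (dg P.ω) ^ i)⁻¹ = M.a ((P.ω : F) ^ i) :=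
    fun i => by
      induction i with
      | zero => simp
      | succ i ih => rw [pow_succ' (P.ω : F), ← M.tor0, ← ih, pow_succ']; group
  have fa : ∀ t, FreeGroup.lift f (aw t) = M.a t := fun t => by
    simp only [aw]
    split_ifs with ht
    · subst ht; rw [map_one]; exact M.a_zero.symm
    · rw [map_mul, map_mul, map_inv, map_pow, fφ, hwSL, show FreeGroup.lift f U = M.a 1 by simp [U, f, M,
        SpData.ofInjective]]
      exact (Mh _).trans (by rw [← hlg])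
  have hhold : ∀ w ∈ L, FreeGroup.lift f w = 1 := by
    intro w hw
    simp only [L, List.mem_append, List.mem_map] at hw
    rcases hw with ((⟨v, hv, rfl⟩ | ⟨v, hv, rfl⟩) | ⟨v, hv, rfl⟩) | hw
    · rw [fψ, hP.1 v hv, map_one]
    · rw [fφ, hS.1 v hv, map_one]
    · rw [show FreeGroup.lift f (τ v) = FreeGroup.lift (cond · (M.a 1) (M.φ (dg P.ω))) v from
        DFunLike.congr_fun (FreeGroup.ext_hom ((FreeGroup.lift f).comp τ)
          (FreeGroup.lift (cond · (M.a 1) (M.φ (dg P.ω)))) fun b => by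
            cases b <;> simp [τ, φw, fφ, hwSL, U, f, M, SpData.ofInjective]) v]
      exact hhold₀ _ M.a (M.φ (dg P.ω)) M.a_add (M.tor0 P.ω) v hv
    · refine rels_data P M _ ?_
      have := List.mem_map_of_mem (f := FreeGroup.lift f) hw
      rw [map_rels] at this
      simp only [ψw, φw, fψ, hwP, fφ, hwSL, fa] at this
      exact this
  -- the presented group
  set R : Set (FreeGroup (ι ⊕ (Fin 3 ⊕ Unit))) := {w | w ∈ L}
  let π : PresentedGroup R →* Matrix.symplecticGroup l F := PresentedGroup.toGroup fun w hw => hhold w hw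
  have hx : ∀ w ∈ L, FreeGroup.lift (PresentedGroup.of (rels := R)) w = 1 := fun w hw => by
    rw [val_eq_lift]; exact PresentedGroup.one_of_mem hw
  obtain ⟨ψ, hψ⟩ := hP.lift (PresentedGroup R) (fun i => PresentedGroup.of (Sum.inl i)) fun w hw => by
    rw [← hx (σP w) (by simp only [L, List.mem_append, List.mem_map]; exact Or.inl (Or.inl (Or.inl ⟨w, hw, rfl⟩)))]
    exact DFunLike.congr_fun (FreeGroup.ext_hom (FreeGroup.lift fun i => PresentedGroup.of (Sum.inl i))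
      ((FreeGroup.lift PresentedGroup.of).comp σP) fun i => by simp [σP]) w
  obtain ⟨φ, hφ⟩ := hS.lift (PresentedGroup R) (fun i => PresentedGroup.of (Sum.inr (Sum.inl i))) fun w hw => by
    rw [← hx (σS w) (by simp only [L, List.mem_append, List.mem_map]; exact Or.inl (Or.inl (Or.inr ⟨w, hw, rfl⟩)))]
    exact DFunLike.congr_fun (FreeGroup.ext_hom
      (FreeGroup.lift fun i => PresentedGroup.of (Sum.inr (Sum.inl i)))
      ((FreeGroup.lift PresentedGroup.of).comp σS) fun i => by simp [σS]) w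
  set g := FreeGroup.lift (PresentedGroup.of (rels := R)) with hg
  have gψ : ∀ σ, g (ψw σ) = ψ σ := fun σ => by
    conv_rhs => rw [← hwP σ]
    exact DFunLike.congr_fun (FreeGroup.ext_hom (g.comp σP) (ψ.comp (FreeGroup.lift fP))
      fun i => by simp [σP, g, hψ]) (wP σ)
  have gφ : ∀ h, g (φw h) = φ h := fun h => by
    conv_rhs => rw [← hwSL h]
    exact DFunLike.congr_fun (FreeGroup.ext_hom (g.comp σS) (φ.comp (FreeGroup.lift fS))
      fun i => by simp [σS, g, hφ]) (wSL h)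
  obtain ⟨a, aadd, a1, apow, ah⟩ := huniv₀ (PresentedGroup R) (g U) (φ (dg P.ω)) fun w hw => by
    rw [← hx (τ w) (by simp only [L, List.mem_append, List.mem_map]; exact Or.inl (Or.inr ⟨w, hw, rfl⟩))]
    exact DFunLike.congr_fun (FreeGroup.ext_hom (FreeGroup.lift (cond · (g U) (φ (dg P.ω))))
      ((FreeGroup.lift PresentedGroup.of).comp τ)
      fun b => by cases b <;> simp [τ, ← gφ, g]) w
  have a0 : a 0 = 1 := by
    have := aadd 0 0
    rwa [add_zero, mul_eq_left] at this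
  have ga : ∀ t, g (aw t) = a t := fun t => by
    simp only [aw]
    split_ifs with ht
    · subst ht; rw [map_one, a0]
    · rw [map_mul, map_mul, map_inv, map_pow, gφ]
      exact ((apow _).symm.trans (by rw [← hlg]))
  have hπof : ∀ i, π (PresentedGroup.of i) = f i := fun i => PresentedGroup.toGroup.of _
  have hπg : ∀ w, π (g w) = FreeGroup.lift f w := fun w =>
    DFunLike.congr_fun (FreeGroup.ext_hom (π.comp g) (FreeGroup.lift f) fun i => by simp [g, hπof]) w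
  obtain ⟨N, eψ, eφ, ea, eπ⟩ := data_of_rels hop P ψ φ a π
    (fun σ => by rw [← gψ, hπg, fψ, hwP]) (fun h => by rw [← gφ, hπg, fφ, hwSL])
    (fun t => by rw [← ga, hπg, fa]; rfl) aadd (fun i => by rw [a1]; exact apow i) ah (fun y hy => by
      have hm : (rels P ψw φw aw).map g = rels P ψ φ a := by
        rw [map_rels]; simp only [gψ, gφ, ga]
      rw [← hm] at hy
      obtain ⟨w, hw, rfl⟩ := List.mem_map.1 hy
      exact hx w (by simp only [L, List.mem_append]; exact Or.inr hw))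
  have hbij : Function.Bijective π := by
    rw [← eπ]
    refine N.π_bijective ?_
    rw [eψ, eφ, ea, eq_top_iff, ← PresentedGroup.closure_range_of R, Subgroup.closure_le]
    rintro _ ⟨i | i | i, rfl⟩
    · exact Subgroup.subset_closure (Or.inl (Or.inl ⟨fP i, hψ i⟩))
    · exact Subgroup.subset_closure (Or.inl (Or.inr ⟨fS i, hφ i⟩))
    · refine Subgroup.subset_closure (Or.inr ⟨1, ?_⟩)
      rw [a1]; simp [g, U]
  let e := MulEquiv.ofBijective π hbij
  refine ⟨f, L, hlen, hhold, ?_, fun Y _ x hxY _ => ?_⟩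
  · rw [show Set.range f = e.toMonoidHom '' Set.range (PresentedGroup.of (rels := R)) by
      rw [← Set.range_comp]; exact congrArg Set.range (funext fun i => (hπof i).symm),
      ← MonoidHom.map_closure, PresentedGroup.closure_range_of]
    exact Subgroup.map_top_of_surjective _ e.surjective
  · refine ⟨(PresentedGroup.toGroup (rels := R) fun w hw => hxY w hw).comp e.symm.toMonoidHom,
      fun i => ?_⟩
    have : e.symm (f i) = PresentedGroup.of i := by
      rw [MulEquiv.symm_apply_eq]; exact (hπof i).symm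
    simp [this]

end CfsgLib.Pres.SpW
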