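import Cfsg.Agent.Lib.Pres.OnGens

/-!
Redundant generators and relabelled generators.
-/

set_option autoImplicit false

namespace CfsgLib.Pres

variable {G : Type*} [Group G] {ι : Type}

theorem lift_rename {X : Type*} [Group X] {α β : Type} (g : α → β) (x : β → X) (w : FreeGroup α) :
    FreeGroup.lift x (FreeGroup.lift (fun i => FreeGroup.of (g i)) w) =
      FreeGroup.lift (x ∘ g) w :=
  DFunLike.congr_fun (FreeGroup.ext_hom ((FreeGroup.lift x).comp
    (FreeGroup.lift fun i => FreeGroup.of (g i))) (FreeGroup.lift (x ∘ g)) fun i => by simp) w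

/-- Relabelled generators. -/
theorem PresData.relabel {κ : Type} {f : ι → G} {L : List (FreeGroup ι)} (h : PresData f L)
    (e : κ ≃ ι) : ∃ L' : List (FreeGroup κ), L'.length = L.length ∧ PresData (f ∘ e) L' := by
  let σ : FreeGroup ι →* FreeGroup κ := FreeGroup.lift fun i => FreeGroup.of (e.symm i)
  have hfe : (f ∘ e) ∘ e.symm = f := funext fun i => by simp
  refine ⟨L.map σ, List.length_map .., fun w hw => ?_, ?_, fun X _ x hx hc => ?_⟩
  · obtain ⟨v, hv, rfl⟩ := List.mem_map.1 hw
    rw [lift_rename, hfe, h.1 v hv]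
  · rw [e.surjective.range_comp]
    exact h.2.1
  · obtain ⟨φ, hφ⟩ := h.2.2 X (x ∘ e.symm)
      (fun w hw => by rw [← lift_rename]; exact hx _ (List.mem_map_of_mem hw))
      (by rw [e.symm.surjective.range_comp]; exact hc)
    exact ⟨φ, fun i => by simp [hφ]⟩

/-- Redundant generators. -/
theorem PresData.pad (κ : Type) [Fintype κ] {f : ι → G} {L : List (FreeGroup ι)} (h : PresData f L) :
    ∃ L' : List (FreeGroup (ι ⊕ κ)), L'.length = L.length + Fintype.card κ ∧
      PresData (Sum.elim f fun _ => 1) L' := by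
  let σ : FreeGroup ι →* FreeGroup (ι ⊕ κ) := FreeGroup.lift fun i => FreeGroup.of (Sum.inl i)
  refine ⟨L.map σ ++ (Finset.univ : Finset κ).toList.map (fun k => FreeGroup.of (Sum.inr k)),
    by simp, fun w hw => ?_, ?_, fun X _ x hx hc => ?_⟩
  · rcases List.mem_append.1 hw with hw | hw
    · obtain ⟨v, hv, rfl⟩ := List.mem_map.1 hw
      rw [lift_rename, Sum.elim_comp_inl, h.1 v hv]
    · obtain ⟨k, -, rfl⟩ := List.mem_map.1 hw
      simp
  · rw [eq_top_iff, ← h.2.1]
    refine Subgroup.closure_mono ?_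
    rintro _ ⟨i, rfl⟩
    exact ⟨Sum.inl i, rfl⟩
  · obtain ⟨φ, hφ⟩ := h.lift X (x ∘ Sum.inl)
      (fun w hw => by rw [← lift_rename]; exact hx _ (List.mem_append_left _ (List.mem_map_of_mem hw)))
    refine ⟨φ, ?_⟩
    rintro (i | k)
    · simpa using hφ i
    · have := hx (FreeGroup.of (Sum.inr k))
        (List.mem_append_right _ (List.mem_map.2 ⟨k, by simp, rfl⟩))
      simpa using this.symm

/-- A presented group on a prescribed number of generators. -/
theorem PresData.presented_fin [Fintype ι] {f : ι → G} {L : List (FreeGroup ι)} (h : PresData f L)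
    {k r : ℕ} (hk : Fintype.card ι ≤ k) (hr : L.length + (k - Fintype.card ι) ≤ r) :
    ∃ rels : Finset (FreeGroup (Fin k)), rels.card ≤ r ∧
      Nonempty (PresentedGroup (rels : Set (FreeGroup (Fin k))) ≃* G) := by
  obtain ⟨L', hL', h'⟩ := h.pad (Fin (k - Fintype.card ι))
  let e : Fin k ≃ ι ⊕ Fin (k - Fintype.card ι) :=
    (Fintype.equivFinOfCardEq (by simp; omega)).symm
  obtain ⟨L'', hL'', h''⟩ := h'.relabel e
  exact h''.presented (by rw [hL'', hL', Fintype.card_fin]; exact hr)

end CfsgLib.Pres
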