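import Cfsg.Agent.Lib.Pres.FieldAdd

/-!
Commutative subgroups generated by the conjugates of one element, as modules over polynomials.
-/

set_option autoImplicit false

namespace CfsgLib.Pres.FieldModule

open Polynomial

variable {X : Type*} [Group X]

/-- The product of powers of conjugates attached to a polynomial. -/
noncomputable def pw (h u : X) (f : ℤ[X]) : X :=
  ((List.range (f.natDegree + 1)).map fun i => (h ^ i * u * (h ^ i)⁻¹) ^ f.coeff i).prod

theorem map_pw {Y : Type*} [Group Y] (g : X →* Y) (h u : X) (f : ℤ[X]) :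
    g (pw h u f) = pw (g h) (g u) f := by
  simp [pw, map_list_prod, List.map_map, Function.comp_def, map_zpow]

/-- The module structure. -/
theorem exists_hom {h u : X} (hcomm : ∀ i : ℕ, Commute u (h ^ i * u * (h ^ i)⁻¹)) :
    ∃ Φ : ℤ[X] → X, (∀ f g, Φ (f + g) = Φ f * Φ g) ∧ Φ 1 = u ∧
      (∀ f, Φ (Polynomial.X * f) = h * Φ f * h⁻¹) ∧ (∀ f g, Φ f = 1 → Φ (g * f) = 1) ∧
      ∀ f, Φ f = pw h u f := by
  set v : ℕ → X := fun i => h ^ i * u * (h ^ i)⁻¹
  have hv : ∀ i j, h ^ i * v j * (h ^ i)⁻¹ = v (i + j) := fun i j => FieldAdd.conj_pow h u i j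
  have hvc : ∀ i j, Commute (v i) (v j) := by
    have : ∀ i j, i ≤ j → Commute (v i) (v j) := fun i j hij => by
      have := (hcomm (j - i)).map (MulAut.conj (h ^ i))
      simp only [MulAut.conj_apply] at this
      rw [show v j = h ^ i * v (j - i) * (h ^ i)⁻¹ by rw [hv]; congr 1; omega]
      exact this
    intro i j
    rcases le_total i j with e | e
    exacts [this i j e, (this j i e).symm]
  let S : Subgroup X := Subgroup.closure (Set.range v)
  have hScomm : ∀ a b : S, a * b = b * a := by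
    rintro ⟨a, ha⟩ ⟨b, hb⟩
    refine Subtype.ext ?_
    refine Subgroup.closure_induction₂ (p := fun x y _ _ => x * y = y * x) ?_ ?_ ?_ ?_ ?_ ?_ ?_
      ha hb
    · rintro _ _ ⟨i, rfl⟩ ⟨j, rfl⟩; exact hvc i j
    · simp
    · simp
    · intro x y z _ _ _ h1 h2; exact (Commute.mul_left h1 h2).eq
    · intro x y z _ _ _ h1 h2; exact (Commute.mul_right h1 h2).eq
    · intro x y _ _ h1; exact (Commute.inv_left h1).eq
    · intro x y _ _ h1; exact (Commute.inv_right h1).eq
  let _ : CommGroup S := { (inferInstance : Group S) with mul_comm := hScomm }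
  have hS : ∀ x ∈ S, h * x * h⁻¹ ∈ S := by
    intro x hx
    have : S ≤ S.comap (MulAut.conj h).toMonoidHom := by
      refine (Subgroup.closure_le _).2 ?_
      rintro _ ⟨i, rfl⟩
      refine Subgroup.subset_closure ⟨1 + i, ?_⟩
      rw [← hv]
      simp [v]
    exact this hx
  let T : AddMonoid.End (Additive S) := MonoidHom.toAdditive
    (MonoidHom.mk' (fun x : S => (⟨h * x * h⁻¹, hS _ x.2⟩ : S)) fun x y =>
      Subtype.ext conj_mul.symm)
  let u' : Additive S := Additive.ofMul ⟨u, Subgroup.subset_closure ⟨0, by simp [v]⟩⟩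
  let Ψ : ℤ[X] →+ Additive S :=
    { toFun := fun f => (aeval T f) u'
      map_zero' := by rw [map_zero]; rfl
      map_add' := fun f g => by rw [map_add]; rfl }
  have hTval : ∀ x : Additive S, ((T x).toMul : X) = h * (x.toMul : X) * h⁻¹ := fun _ => rfl
  have hΨmul : ∀ f f', Ψ (f' * f) = (aeval T f') (Ψ f) := fun f f' => by
    show (aeval T (f' * f)) u' = _
    rw [map_mul]; rfl
  have hΨX : ∀ f, ((Ψ (Polynomial.X * f)).toMul : X) = h * ((Ψ f).toMul : X) * h⁻¹ := fun f => by
    rw [hΨmul, aeval_X, hTval]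
  have hΨ1 : ((Ψ 1).toMul : X) = u := by
    show (((aeval T (1 : ℤ[X])) u').toMul : X) = u
    rw [map_one]
    rfl
  have hΨpow : ∀ i, ((Ψ (Polynomial.X ^ i)).toMul : X) = v i := by
    intro i
    induction i with
    | zero => rw [pow_zero, hΨ1]; simp [v]
    | succ i ih =>
      rw [pow_succ', hΨX, ih, Nat.add_comm, ← hv]
      simp
  refine ⟨fun f => ((Ψ f).toMul : X), fun f g => ?_, hΨ1, hΨX, fun f g hf => ?_, fun f => ?_⟩
  · show ((Ψ (f + g)).toMul : X) = _
    rw [map_add, toMul_add, Subgroup.coe_mul]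
  · have h0 : Ψ f = 0 := Additive.toMul.injective (Subtype.ext hf)
    show ((Ψ (g * f)).toMul : X) = 1
    rw [hΨmul, h0, map_zero]
    rfl
  · show ((Ψ f).toMul : X) = pw h u f
    have e : Ψ f = ((List.range (f.natDegree + 1)).map fun i =>
        f.coeff i • Ψ (Polynomial.X ^ i)).sum := by
      conv_lhs => rw [f.as_sum_range_C_mul_X_pow]
      rw [map_sum]
      show _ = ∑ i ∈ Finset.range (f.natDegree + 1), f.coeff i • Ψ (Polynomial.X ^ i)
      refine Finset.sum_congr rfl fun i _ => ?_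
      rw [C_mul', map_zsmul]
    have key : ∀ l : List ℕ, (((l.map fun i => f.coeff i • Ψ (Polynomial.X ^ i)).sum).toMul : X) =
        (l.map fun i => (h ^ i * u * (h ^ i)⁻¹) ^ f.coeff i).prod := by
      intro l
      induction l with
      | nil => rfl
      | cons i l ih =>
        simp only [List.map_cons, List.prod_cons, List.sum_cons, ← ih]
        rw [toMul_add, toMul_zsmul, Subgroup.coe_mul, SubgroupClass.coe_zpow, hΨpow]
    rw [e, key]
    rfl

variable {F : Type*} [Field F]

/-- The value in a realisation. -/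
theorem pw_eq {a : F → X} {h : X} {η : F} (hadd : ∀ t u, a t * a u = a (t + u))
    (hh : ∀ t, h * a t * h⁻¹ = a (η * t)) (f : ℤ[X]) (t : F) :
    pw h (a t) f = a (aeval η f * t) := by
  have a0 : a 0 = 1 := by
    have := hadd 0 0
    rwa [add_zero, mul_eq_left] at this
  let A : Multiplicative F →* X :=
    { toFun := fun t => a t.toAdd, map_one' := a0, map_mul' := fun t v => (hadd _ _).symm }
  have hz : ∀ (t : F) (c : ℤ), a t ^ c = a ((c : F) * t) := fun t c => by
    have := map_zpow A (Multiplicative.ofAdd t) c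
    rw [← ofAdd_zsmul, zsmul_eq_mul] at this
    exact this.symm
  have hpow : ∀ i : ℕ, h ^ i * a t * (h ^ i)⁻¹ = a (η ^ i * t) := by
    intro i
    induction i with
    | zero => simp
    | succ i ih =>
      rw [pow_succ', pow_succ', mul_assoc η, ← hh, ← ih]
      group
  have key : ∀ l : List ℕ, (l.map fun i => (h ^ i * a t * (h ^ i)⁻¹) ^ f.coeff i).prod =
      a ((l.map fun i => (f.coeff i : F) * η ^ i).sum * t) := by
    intro l
    induction l with
    | nil => simp [a0]
    | cons i l ih =>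
      rw [List.map_cons, List.prod_cons, ih, List.map_cons, List.sum_cons, hpow, hz, hadd]
      congr 1
      ring
  rw [pw, key, show ((List.range (f.natDegree + 1)).map fun i => (f.coeff i : F) * η ^ i).sum =
      aeval η f by
    rw [aeval_eq_sum_range]
    simp only [zsmul_eq_mul]
    rfl]

/-- A lift of the minimal polynomial over the prime field. -/
theorem exists_lift_minpoly (p : ℕ) [Fact p.Prime] [CharP F p] (η : F) :
    ∃ M : ℤ[X], aeval η M = 0 ∧
      ∀ f : ℤ[X], aeval η f = 0 → ∃ Q r : ℤ[X], f = C (p : ℤ) * r + Q * M := by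
  let _ : Algebra (ZMod p) F := ZMod.algebra F p
  obtain ⟨M, hM⟩ := Polynomial.map_surjective (Int.castRingHom (ZMod p))
    ZMod.intCast_surjective (minpoly (ZMod p) η)
  have haeval : ∀ f : ℤ[X], aeval η f = aeval η (f.map (Int.castRingHom (ZMod p))) := fun f => by
    rw [← algebraMap_int_eq, aeval_map_algebraMap]
  refine ⟨M, by rw [haeval, hM, minpoly.aeval], fun f hf => ?_⟩
  rw [haeval] at hf
  obtain ⟨q, hq⟩ := minpoly.dvd (ZMod p) η hf
  obtain ⟨Q, hQ⟩ := Polynomial.map_surjective (Int.castRingHom (ZMod p))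
    ZMod.intCast_surjective q
  obtain ⟨r, hr⟩ : C (p : ℤ) ∣ f - Q * M := by
    rw [C_dvd_iff_dvd_coeff]
    intro i
    rw [← ZMod.intCast_zmod_eq_zero_iff_dvd]
    have := congrArg (coeff · i) (show (f - Q * M).map (Int.castRingHom (ZMod p)) = 0 by
      rw [Polynomial.map_sub, Polynomial.map_mul, hQ, hM, hq, mul_comm, sub_self])
    simpa [Polynomial.map_mul, coeff_map, ← Polynomial.map_mul] using this
  exact ⟨Q, r, by rw [← hr]; ring⟩

/-- The additive group of a field as a module. -/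
theorem toField (p : ℕ) [Fact p.Prime] [CharP F p] {η : F}
    (hsurj : ∀ t : F, ∃ f : ℤ[X], aeval η f = t) {M : ℤ[X]}
    (hM : ∀ f : ℤ[X], aeval η f = 0 → ∃ Q r : ℤ[X], f = C (p : ℤ) * r + Q * M) {h u : X}
    (hcomm : ∀ i : ℕ, Commute u (h ^ i * u * (h ^ i)⁻¹)) (hp : u ^ p = 1)
    (hrel : pw h u M = 1) :
    ∃ a : F → X, (∀ t v, a t * a v = a (t + v)) ∧ a 1 = u ∧ (∀ t, h * a t * h⁻¹ = a (η * t)) ∧
      ∀ f, a (aeval η f) = pw h u f := by
  obtain ⟨Φ, hadd, h1, hX, hideal, hpw⟩ := exists_hom hcomm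
  have h0 : Φ 0 = 1 := by
    have := hadd 0 0
    rwa [add_zero, left_eq_mul] at this
  have hnat : ∀ n : ℕ, Φ (n : ℤ[X]) = u ^ n := by
    intro n
    induction n with
    | zero => simp [h0]
    | succ n ih => rw [Nat.cast_succ, hadd, ih, h1, pow_succ]
  have hC : Φ (C (p : ℤ)) = 1 := by
    rw [show C (p : ℤ) = ((p : ℕ) : ℤ[X]) by simp, hnat, hp]
  have hker : ∀ f, aeval η f = 0 → Φ f = 1 := fun f hf => by
    obtain ⟨Q, r, rfl⟩ := hM f hf
    rw [hadd, mul_comm (C (p : ℤ)) r, hideal _ _ hC, hideal _ _ (by rw [hpw, hrel]), one_mul]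
  have hwell : ∀ f g, aeval η f = aeval η g → Φ f = Φ g := fun f g e => by
    rw [← sub_add_cancel f g, hadd, hker _ (by rw [map_sub, e, sub_self]), one_mul]
  choose F' hF' using hsurj
  refine ⟨fun t => Φ (F' t), fun t v => ?_, ?_, fun t => ?_, fun f => ?_⟩
  · show Φ (F' t) * Φ (F' v) = _
    rw [← hadd]; exact hwell _ _ (by rw [map_add, hF', hF', hF'])
  · exact (hwell _ 1 (by rw [hF', map_one])).trans h1
  · show h * Φ (F' t) * h⁻¹ = _
    rw [← hX]; exact hwell _ _ (by rw [map_mul, aeval_X, hF', hF'])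
  · exact (hwell _ f (hF' _)).trans (hpw f)

end CfsgLib.Pres.FieldModule
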