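import Cfsg.Agent.Lib.Pres.FieldModule

/-!
The additive group of a finite field with a multiplier generating the nonzero squares: five relations
in odd characteristic and three in characteristic two.
-/

set_option autoImplicit false

namespace CfsgLib.Pres.FieldSquares

open Polynomial
open scoped commutatorElement

/-- The commutation lemma for a relation `a + b = 1`. -/
theorem crw_sub {X : Type*} [Group X] {h g u : X} (hgh : Commute g h)
    (h1 : Commute u (h * u * h⁻¹)) (hm : g * u * g⁻¹ = (h * u * h⁻¹)⁻¹ * u) :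
    ∀ k : ℕ, Commute u (h ^ k * u * (h ^ k)⁻¹) := by
  set v : ℕ → X := fun i => h ^ i * u * (h ^ i)⁻¹
  have hv : ∀ i j, h ^ i * v j * (h ^ i)⁻¹ = v (i + j) := fun i j => FieldAdd.conj_pow h u i j
  have hv1 : v 1 = h * u * h⁻¹ := by simp [v]
  intro k
  induction k using Nat.strong_induction_on with
  | _ k ih =>
    rcases k with _ | _ | k
    · simp
    · simpa using h1
    show Commute u (v (k + 2))
    have shift : ∀ j, Commute u (v j) → Commute (v 1) (v (1 + j)) := fun j hj => by
      have := hj.map (MulAut.conj h)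
      simp only [MulAut.conj_apply] at this
      rw [hv1, ← hv 1 j]
      simpa using this
    have c1 : Commute (v 1) (v (k + 2)) := by
      rw [show k + 2 = 1 + (k + 1) by omega]; exact shift _ (ih (k + 1) (by omega))
    have c2 : Commute (v 1) (v (k + 1)) := by
      rw [show k + 1 = 1 + k by omega]; exact shift _ (ih k (by omega))
    have c3 : Commute ((v 1)⁻¹ * u) ((v (k + 2))⁻¹ * v (k + 1)) := by
      have := (ih (k + 1) (by omega)).map (MulAut.conj g)
      simp only [MulAut.conj_apply] at this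
      rw [hm, ← hv1] at this
      have e : g * v (k + 1) * g⁻¹ = (v (k + 2))⁻¹ * v (k + 1) := by
        have hc : g * h ^ (k + 1) = h ^ (k + 1) * g := (hgh.pow_right _).eq
        calc g * (h ^ (k + 1) * u * (h ^ (k + 1))⁻¹) * g⁻¹
            = (g * h ^ (k + 1)) * u * (g * h ^ (k + 1))⁻¹ := by group
          _ = (h ^ (k + 1) * g) * u * (h ^ (k + 1) * g)⁻¹ := by rw [hc]
          _ = h ^ (k + 1) * (g * u * g⁻¹) * (h ^ (k + 1))⁻¹ := by group
          _ = h ^ (k + 1) * ((v 1)⁻¹ * u) * (h ^ (k + 1))⁻¹ := by rw [hm, hv1]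
          _ = (h ^ (k + 1) * v 1 * (h ^ (k + 1))⁻¹)⁻¹ * v (k + 1) := by simp only [v]; group
          _ = _ := by rw [hv]
      rw [← e]; exact this
    have c4 : Commute ((v 1)⁻¹ * u) (v (k + 1)) := c2.inv_left.mul_left (ih (k + 1) (by omega))
    have c5 : Commute ((v 1)⁻¹ * u) (v (k + 2)) := by
      have := (c3.mul_right c4.inv_right).inv_right
      rwa [mul_inv_cancel_right, inv_inv] at this
    have := c1.mul_left c5
    rwa [mul_inv_cancel_left] at this

variable {F : Type*} [Field F]

/-- A generator of the multiplicative group. -/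
def Gen (ω : F) : Prop := ∀ t : F, t ≠ 0 → ∃ i : ℕ, t = ω ^ i

theorem aeval_squares (p : ℕ) [Fact p.Prime] [CharP F p] (hp : p ≠ 2) {ω η : F} (hgen : Gen ω)
    (hη : η = ω * ω) (t : F) : ∃ f : ℤ[X], aeval η f = t := by
  obtain ⟨c, hc⟩ : ∃ c : ℤ, (c : F) * 4 = 1 := by
    have h4 : (4 : ZMod p) ≠ 0 := by
      intro h
      have h' : ((4 : ℕ) : ZMod p) = 0 := by exact_mod_cast h
      rw [ZMod.natCast_eq_zero_iff] at h'
      exact hp ((Nat.prime_dvd_prime_iff_eq (Fact.out : p.Prime) Nat.prime_two).1
        ((Fact.out : p.Prime).dvd_of_dvd_pow (show p ∣ 2 ^ 2 from h')))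
    obtain ⟨c, hc⟩ := ZMod.intCast_surjective ((4 : ZMod p)⁻¹)
    refine ⟨c, ?_⟩
    have := congrArg (ZMod.castHom (dvd_refl p) F) (show (c : ZMod p) * 4 = 1 by
      rw [hc, inv_mul_cancel₀ h4])
    simpa [map_mul, map_intCast, map_ofNat] using this
  have hsq : ∀ s : F, ∃ f : ℤ[X], aeval η f = s * s := fun s => by
    rcases eq_or_ne s 0 with rfl | hs
    · exact ⟨0, by simp⟩
    · obtain ⟨i, rfl⟩ := hgen s hs
      exact ⟨Polynomial.X ^ i, by simp [hη, mul_pow]⟩
  obtain ⟨f, hf⟩ := hsq (t + 1)
  obtain ⟨g, hg⟩ := hsq (t - 1)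
  refine ⟨C c * (f - g), ?_⟩
  rw [map_mul, map_sub, hf, hg, aeval_C, eq_intCast]
  linear_combination t * hc

/-- Proper subfields are detected by Frobenius powers. -/
theorem fixed_or_surj (p : ℕ) [Fact p.Prime] [CharP F p] [Finite F] {e : ℕ}
    (he : Nat.card F = p ^ e) (a : F) :
    (∀ t : F, ∃ f : ℤ[X], aeval a f = t) ∨ ∃ d, 1 ≤ d ∧ 2 * d ≤ e ∧ a ^ p ^ d = a := by
  classical
  let _ : Algebra (ZMod p) F := ZMod.algebra F p
  let K : IntermediateField (ZMod p) F := IntermediateField.adjoin (ZMod p) {a}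
  have hKc : Nat.card K = p ^ Module.finrank (ZMod p) K := by
    rw [Module.natCard_eq_pow_finrank (K := ZMod p) (V := K), Nat.card_zmod]
  have hFe : Module.finrank (ZMod p) F = e := by
    have := Module.natCard_eq_pow_finrank (K := ZMod p) (V := F)
    rw [Nat.card_zmod, he] at this
    exact (Nat.pow_right_injective (Fact.out : p.Prime).two_le this).symm
  by_cases hK : Module.finrank (ZMod p) K = e
  · left
    intro t
    have htop : K = ⊤ := IntermediateField.eq_of_le_of_finrank_eq le_top
      (by rw [hK, IntermediateField.finrank_top', hFe])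
    have ht : t ∈ Algebra.adjoin (ZMod p) ({a} : Set F) := by
      have : t ∈ K.toSubalgebra := by rw [htop]; exact trivial
      rwa [IntermediateField.adjoin_simple_toSubalgebra_of_isAlgebraic
        (Algebra.IsAlgebraic.isAlgebraic a)] at this
    rw [Algebra.adjoin_singleton_eq_range_aeval] at ht
    obtain ⟨g, hg⟩ := ht
    obtain ⟨G, hG⟩ := Polynomial.map_surjective (Int.castRingHom (ZMod p))
      ZMod.intCast_surjective g
    refine ⟨G, ?_⟩
    rw [← hg, ← hG]
    show aeval a G = aeval a (G.map (Int.castRingHom (ZMod p)))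
    rw [← algebraMap_int_eq, aeval_map_algebraMap]
  · right
    set d := Module.finrank (ZMod p) K
    have hdvd : d ∣ e := ⟨Module.finrank K F, by
      rw [← hFe]; exact (Module.finrank_mul_finrank (ZMod p) K F).symm⟩
    have hd1 : 1 ≤ d := Module.finrank_pos
    obtain ⟨c, hc⟩ := hdvd
    have hc2 : 2 ≤ c := by
      rcases c with _ | _ | c
      · have : 0 < Module.finrank (ZMod p) F := Module.finrank_pos
        omega
      · exact absurd (by rw [hc]; ring) hK
      · omega
    refine ⟨d, hd1, by rw [hc]; nlinarith, ?_⟩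
    have hmem : a ∈ K := IntermediateField.mem_adjoin_simple_self _ a
    have : Fintype K := Fintype.ofFinite K
    have hpow := FiniteField.pow_card (⟨a, hmem⟩ : K)
    rw [← Nat.card_eq_fintype_card, hKc] at hpow
    simpa using congrArg Subtype.val hpow

/-- Two squares with sum one, the first of which generates the field. -/
theorem exists_pair (p : ℕ) [Fact p.Prime] [CharP F p] [Finite F] (hp : p ≠ 2) {e : ℕ}
    (he : Nat.card F = p ^ e) (he3 : 3 ≤ e) :
    ∃ x y : F, x ≠ 0 ∧ y ≠ 0 ∧ x * x + y * y = 1 ∧ ∀ t : F, ∃ f : ℤ[X], aeval (x * x) f = t := by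
  classical
  have : Fintype F := Fintype.ofFinite F
  rw [Nat.card_eq_fintype_card] at he
  by_contra hcon
  push Not at hcon
  set h := e / 2
  set B : Finset F := (Finset.Icc 1 h).biUnion fun d =>
    (Finset.univ.filter fun a : F => a ^ p ^ d = a)
  have hp3 : 3 ≤ p := by
    have := (Fact.out : p.Prime).two_le
    omega
  have hBd : ∀ d, 1 ≤ d → (Finset.univ.filter fun a : F => a ^ p ^ d = a).card ≤ p ^ d := by
    intro d hd
    have hne : (Polynomial.X ^ p ^ d - Polynomial.X : F[X]) ≠ 0 :=
      FiniteField.X_pow_card_pow_sub_X_ne_zero F (by omega) (Fact.out : p.Prime).one_lt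
    refine le_trans ?_ (le_trans (Polynomial.card_roots' _)
      (FiniteField.X_pow_card_pow_sub_X_natDegree_eq F (by omega) (Fact.out : p.Prime).one_lt).le)
    refine le_trans (Finset.card_le_card (t := (Polynomial.X ^ p ^ d - Polynomial.X : F[X]).roots.toFinset)
      fun a ha => ?_) (Multiset.toFinset_card_le _)
    simp only [Finset.mem_filter, Finset.mem_univ, true_and] at ha
    rw [Multiset.mem_toFinset, mem_roots hne]
    simp [ha]
  have hB : B.card ≤ ∑ d ∈ Finset.Icc 1 h, p ^ d :=
    le_trans Finset.card_biUnion_le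
      (Finset.sum_le_sum fun d hd => hBd d (Finset.mem_Icc.1 hd).1)
  have hS : ∀ n : ℕ, 2 * (∑ d ∈ Finset.Icc 1 n, p ^ d) ≤ p ^ (n + 1) := by
    intro n
    induction n with
    | zero => simp
    | succ n ih =>
      rw [Finset.sum_Icc_succ_top (by omega), pow_succ p (n + 1)]
      nlinarith [Nat.one_le_pow (n + 1) p (by omega)]
  -- the parameters
  set A := Finset.univ.filter fun t : F => t ≠ 0 ∧ 1 + t * t ≠ 0 ∧ 1 - t * t ≠ 0
  have hA : Fintype.card F ≤ A.card + 5 := by
    set P : F[X] := Polynomial.X * (1 + Polynomial.X * Polynomial.X) * (1 - Polynomial.X * Polynomial.X)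
    have hPd : P.natDegree ≤ 5 := by simp only [P]; compute_degree
    have hP0 : P ≠ 0 := fun e0 => by
      have : P.coeff 1 = 0 := by rw [e0, coeff_zero]
      simp only [P] at this
      rw [show (Polynomial.X : F[X]) * (1 + Polynomial.X * Polynomial.X) *
        (1 - Polynomial.X * Polynomial.X) = Polynomial.X - Polynomial.X ^ 5 by ring] at this
      simp [coeff_X, coeff_X_pow] at this
    have : Finset.univ \ A ⊆ P.roots.toFinset := fun t ht => by
      simp only [A, Finset.mem_sdiff, Finset.mem_univ, Finset.mem_filter, true_and,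
        not_and_or, not_not] at ht
      rw [Multiset.mem_toFinset, mem_roots hP0]
      rcases ht with ht | ht | ht <;> simp [P, ht]
    have h5 := Finset.card_le_card this
    rw [Finset.card_univ_diff] at h5
    have := le_trans h5 (le_trans (Multiset.toFinset_card_le _) (le_trans (card_roots' _) hPd))
    omega
  have hmap : ∀ t ∈ A, (1 - t * t) / (1 + t * t) * ((1 - t * t) / (1 + t * t)) ∈ B := by
    intro t ht
    simp only [A, Finset.mem_filter, Finset.mem_univ, true_and] at ht
    obtain ⟨t0, t1, t2⟩ := ht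
    set x := (1 - t * t) / (1 + t * t)
    have h2 : (2 : F) ≠ 0 := Ring.two_ne_zero (by rw [ringChar.eq F p]; exact hp)
    obtain ⟨s, hs⟩ := hcon x (2 * t / (1 + t * t)) (div_ne_zero t2 t1)
      (div_ne_zero (mul_ne_zero h2 t0) t1) (by
        simp only [x]
        rw [div_mul_div_comm, div_mul_div_comm, ← add_div, div_eq_one_iff_eq (mul_ne_zero t1 t1)]
        ring)
    rcases fixed_or_surj p (by rw [Nat.card_eq_fintype_card]; exact he) (x * x) with hgen | ⟨d, d1, d2, hd⟩
    · obtain ⟨f, hf⟩ := hgen s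
      exact absurd hf (hs f)
    · exact Finset.mem_biUnion.2 ⟨d, Finset.mem_Icc.2 ⟨d1, by omega⟩, by simp [hd]⟩
  have hfib : ∀ b ∈ B, (A.filter fun t =>
      (1 - t * t) / (1 + t * t) * ((1 - t * t) / (1 + t * t)) = b).card ≤ 4 := by
    intro b _
    set P : F[X] := (1 - Polynomial.X * Polynomial.X) * (1 - Polynomial.X * Polynomial.X) -
      C b * ((1 + Polynomial.X * Polynomial.X) * (1 + Polynomial.X * Polynomial.X))
    have hPd : P.natDegree ≤ 4 := by simp only [P]; compute_degree
    rcases Finset.eq_empty_or_nonempty (A.filter fun t =>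
      (1 - t * t) / (1 + t * t) * ((1 - t * t) / (1 + t * t)) = b) with h0 | ⟨t₀, ht₀⟩
    · rw [h0]; simp
    have hP0 : P ≠ 0 := fun e0 => by
      simp only [A, Finset.mem_filter, Finset.mem_univ, true_and] at ht₀
      obtain ⟨⟨t0, t1, -⟩, hb⟩ := ht₀
      have e1 : P.eval 0 = 0 := by rw [e0, eval_zero]
      simp [P] at e1
      have hb1 : b = 1 := by linear_combination -e1
      rw [hb1, div_mul_div_comm, div_eq_one_iff_eq (mul_ne_zero t1 t1)] at hb
      have h2 : (2 : F) ≠ 0 := Ring.two_ne_zero (by rw [ringChar.eq F p]; exact hp)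
      have : (2 : F) * 2 * (t₀ * t₀) = 0 := by linear_combination -hb
      simp [h2, t0] at this
    refine le_trans (Finset.card_le_card (t := P.roots.toFinset) fun t ht => ?_)
      (le_trans (Multiset.toFinset_card_le _) (le_trans (card_roots' _) hPd))
    simp only [A, Finset.mem_filter, Finset.mem_univ, true_and] at ht
    obtain ⟨⟨-, t1, -⟩, hb⟩ := ht
    rw [Multiset.mem_toFinset, mem_roots hP0]
    simp only [IsRoot, P, eval_sub, eval_mul, eval_add, eval_one, eval_X, eval_C, ← hb]
    rw [div_mul_div_comm, div_mul_cancel₀ _ (mul_ne_zero t1 t1), sub_self]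
  have hcount := Finset.card_le_mul_card_image_of_maps_to (f := fun t : F =>
    (1 - t * t) / (1 + t * t) * ((1 - t * t) / (1 + t * t))) hmap 4 hfib
  have hbig : 3 * p ^ (h + 1) ≤ p ^ e := by
    calc 3 * p ^ (h + 1) ≤ p * p ^ (h + 1) := Nat.mul_le_mul_right _ hp3
      _ = p ^ (h + 2) := by ring
      _ ≤ p ^ e := Nat.pow_le_pow_right (by omega) (by omega)
  have h9 : 9 ≤ p ^ (h + 1) := by
    calc 9 = 3 ^ 2 := by norm_num
      _ ≤ p ^ 2 := Nat.pow_le_pow_left hp3 2
      _ ≤ p ^ (h + 1) := Nat.pow_le_pow_right (by omega) (by omega)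
  have := hS h
  omega

/-- The generator standing for `1`. -/
def U : FreeGroup Bool := FreeGroup.of true

/-- The generator standing for the multiplier. -/
def Hm : FreeGroup Bool := FreeGroup.of false

set_option maxHeartbeats 1000000 in
/-- Five relations in odd characteristic. -/
theorem exists_rels_odd [Finite F] (p : ℕ) [Fact p.Prime] [CharP F p] (hp : p ≠ 2) {ω η : F}
    (hgen : Gen ω) (hη : η = ω * ω) :
    ∃ L : List (FreeGroup Bool), L.length ≤ 5 ∧
      (∀ (Y : Type*) [Group Y] (a : F → Y) (h : Y), (∀ t u, a t * a u = a (t + u)) →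
        (∀ t, h * a t * h⁻¹ = a (η * t)) → ∀ w ∈ L, FreeGroup.lift (cond · (a 1) h) w = 1) ∧
      ∀ (X : Type) [Group X] (u h : X), (∀ w ∈ L, FreeGroup.lift (cond · u h) w = 1) →
        ∃ a : F → X, (∀ t v, a t * a v = a (t + v)) ∧ a 1 = u ∧
          ∀ t, h * a t * h⁻¹ = a (η * t) := by
  classical
  have hsurj := aeval_squares p hp hgen hη
  by_cases small : ∃ c₀ c₁ : ℤ, η ^ 2 = (c₀ : F) + (c₁ : F) * η
  · obtain ⟨c₀, c₁, hc⟩ := small
    obtain ⟨M, hMη, hM⟩ := FieldModule.exists_lift_minpoly p η
    refine ⟨[U ^ p, ⁅U, Hm * U * Hm⁻¹⁆, Hm ^ 2 * U * (Hm ^ 2)⁻¹ * (U ^ c₀ * (Hm * U * Hm⁻¹) ^ c₁)⁻¹,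
      FieldModule.pw Hm U M], by simp, ?_, ?_⟩
    · intro Y _ a h hadd hh
      set g := FreeGroup.lift (cond · (a 1) h) with hg
      have hgU : g U = a 1 := by simp [hg, U]
      have hgH : g Hm = h := by simp [hg, Hm]
      have a0 : a 0 = 1 := by
        have := hadd 0 0
        rwa [add_zero, mul_eq_left] at this
      let A : Multiplicative F →* Y :=
        { toFun := fun t => a t.toAdd, map_one' := a0, map_mul' := fun t v => (hadd _ _).symm }
      have hz : ∀ (t : F) (c : ℤ), a t ^ c = a ((c : F) * t) := fun t c => by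
        have := map_zpow A (Multiplicative.ofAdd t) c
        rw [← ofAdd_zsmul, zsmul_eq_mul] at this
        exact this.symm
      simp only [List.forall_mem_cons, List.not_mem_nil, IsEmpty.forall_iff, implies_true, and_true,
        map_commutatorElement, map_pow, map_mul, map_inv, map_zpow, FieldModule.map_pw, hgU, hgH]
      refine ⟨?_, ?_, ?_, ?_⟩
      · rw [← zpow_natCast, hz, Int.cast_natCast, CharP.cast_eq_zero, zero_mul, a0]
      · rw [hh, commutatorElement_eq_one_iff_commute]
        show _ = _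
        rw [hadd, hadd, add_comm]
      · rw [hh, hz, hz, hadd,
          show h ^ 2 * a 1 * (h ^ 2)⁻¹ = h * (h * a 1 * h⁻¹) * h⁻¹ by rw [pow_two]; group,
          hh, hh, mul_one, mul_one, mul_inv_eq_one, ← pow_two, hc]
      · rw [FieldModule.pw_eq hadd hh, hMη, zero_mul, a0]
    · intro X _ u h hw
      set g := FreeGroup.lift (cond · u h) with hg
      have hgU : g U = u := by simp [hg, U]
      have hgH : g Hm = h := by simp [hg, Hm]
      simp only [List.forall_mem_cons, List.not_mem_nil, IsEmpty.forall_iff, implies_true, and_true,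
        map_commutatorElement, map_pow, map_mul, map_inv, map_zpow, FieldModule.map_pw, hgU, hgH,
        commutatorElement_eq_one_iff_commute, mul_inv_eq_one] at hw
      obtain ⟨hpu, h1, h2, h4⟩ := hw
      set S := Subgroup.closure ({u, h * u * h⁻¹} : Set X)
      have hu : u ∈ S := Subgroup.subset_closure (Set.mem_insert _ _)
      have hv : h * u * h⁻¹ ∈ S := Subgroup.subset_closure (Set.mem_insert_of_mem _ rfl)
      have hconj : S ≤ S.comap (MulAut.conj h).toMonoidHom := by
        rw [Subgroup.closure_le]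
        rintro x (rfl | rfl)
        · exact hv
        · show h * (h * u * h⁻¹) * h⁻¹ ∈ S
          rw [show h * (h * u * h⁻¹) * h⁻¹ = h ^ 2 * u * (h ^ 2)⁻¹ by rw [pow_two]; group, h2]
          exact mul_mem (zpow_mem hu _) (zpow_mem hv _)
      have hall : ∀ i : ℕ, h ^ i * u * (h ^ i)⁻¹ ∈ S := fun i => by
        induction i with
        | zero => simpa using hu
        | succ i ih =>
          rw [show h ^ (i + 1) * u * (h ^ (i + 1))⁻¹ = h * (h ^ i * u * (h ^ i)⁻¹) * h⁻¹ by
            rw [pow_succ']; group]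
          exact hconj ih
      have hcen : ∀ x ∈ S, Commute u x := fun x hx => by
        induction hx using Subgroup.closure_induction with
        | mem x hx =>
          rcases hx with rfl | rfl
          exacts [Commute.refl _, h1]
        | one => exact Commute.one_right _
        | mul x y _ _ hx hy => exact hx.mul_right hy
        | inv x _ hx => exact hx.inv_right
      obtain ⟨a, a1, a2, a3, -⟩ := FieldModule.toField p hsurj hM (fun i => hcen _ (hall i)) hpu h4
      exact ⟨a, a1, a2, a3⟩
  · obtain ⟨e, he⟩ : ∃ e : ℕ, Nat.card F = p ^ e := by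
      have : Fintype F := Fintype.ofFinite F
      obtain ⟨n, -, hn⟩ := FiniteField.card F p
      exact ⟨n, by rw [Nat.card_eq_fintype_card, hn]⟩
    have he3 : 3 ≤ e := by
      by_contra he2
      refine small ?_
      let _ : Algebra (ZMod p) F := ZMod.algebra F p
      have hrank : Module.finrank (ZMod p) F ≤ 2 := by
        have := Module.natCard_eq_pow_finrank (K := ZMod p) (V := F)
        rw [Nat.card_zmod, he] at this
        have := Nat.pow_right_injective (Fact.out : p.Prime).two_le this
        omega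
      have hint := IsIntegral.of_finite (ZMod p) η
      have hdeg : (minpoly (ZMod p) η).natDegree ≤ 2 := le_trans (minpoly.natDegree_le η) hrank
      set r := (Polynomial.X ^ 2 : (ZMod p)[X]) %ₘ minpoly (ZMod p) η
      have hr1 : r.natDegree ≤ 1 := by
        have := natDegree_modByMonic_lt (Polynomial.X ^ 2 : (ZMod p)[X]) (minpoly.monic hint)
          (minpoly.ne_one (ZMod p) η)
        change r.natDegree < _ at this
        omega
      have hr : aeval η r = η ^ 2 := by
        rw [minpoly.aeval_modByMonic_minpoly]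
        simp
      obtain ⟨a, b, hab⟩ := exists_eq_X_add_C_of_natDegree_le_one hr1
      obtain ⟨c₁, rfl⟩ := ZMod.intCast_surjective a
      obtain ⟨c₀, rfl⟩ := ZMod.intCast_surjective b
      refine ⟨c₀, c₁, ?_⟩
      rw [← hr, hab, map_add, map_mul, aeval_C, aeval_C, aeval_X, map_intCast, map_intCast]
      ring
    obtain ⟨x, y, hx, hy, hxy, hxsurj⟩ := exists_pair p hp he he3
    obtain ⟨k, rfl⟩ := hgen x hx
    obtain ⟨m, rfl⟩ := hgen y hy
    rw [← mul_pow, ← mul_pow, ← hη] at hxy
    rw [← mul_pow, ← hη] at hxsurj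
    obtain ⟨M, hMη, hM⟩ := FieldModule.exists_lift_minpoly p (η ^ k)
    obtain ⟨G, hG⟩ := hxsurj η
    refine ⟨[U ^ p, ⁅U, Hm ^ k * U * (Hm ^ k)⁻¹⁆,
      Hm ^ m * U * (Hm ^ m)⁻¹ * ((Hm ^ k * U * (Hm ^ k)⁻¹)⁻¹ * U)⁻¹,
      FieldModule.pw (Hm ^ k) U M, Hm * U * Hm⁻¹ * (FieldModule.pw (Hm ^ k) U G)⁻¹],
      by simp, ?_, ?_⟩
    · intro Y _ a h hadd hh
      set g := FreeGroup.lift (cond · (a 1) h) with hg
      have hgU : g U = a 1 := by simp [hg, U]
      have hgH : g Hm = h := by simp [hg, Hm]
      have a0 : a 0 = 1 := by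
        have := hadd 0 0
        rwa [add_zero, mul_eq_left] at this
      let A : Multiplicative F →* Y :=
        { toFun := fun t => a t.toAdd, map_one' := a0, map_mul' := fun t v => (hadd _ _).symm }
      have hinv : ∀ t, (a t)⁻¹ = a (-t) := fun t =>
        inv_eq_of_mul_eq_one_right (by rw [hadd, add_neg_cancel, a0])
      have hpow : ∀ (i : ℕ) t, h ^ i * a t * (h ^ i)⁻¹ = a (η ^ i * t) := by
        intro i
        induction i with
        | zero => simp
        | succ i ih =>
          intro t
          rw [pow_succ', pow_succ', mul_assoc η, ← hh, ← ih]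
          group
      simp only [List.forall_mem_cons, List.not_mem_nil, IsEmpty.forall_iff, implies_true, and_true,
        map_commutatorElement, map_pow, map_mul, map_inv, FieldModule.map_pw, hgU, hgH, hpow, hh,
        mul_one, FieldModule.pw_eq hadd (hpow k)]
      refine ⟨?_, ?_, ?_, ?_, ?_⟩
      · have := map_pow A (Multiplicative.ofAdd 1) p
        rw [← ofAdd_nsmul, nsmul_eq_mul, CharP.cast_eq_zero, zero_mul] at this
        exact this.symm.trans a0
      · rw [commutatorElement_eq_one_iff_commute]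
        show _ = _
        rw [hadd, hadd, add_comm]
      · rw [hinv, hadd, mul_inv_eq_one]
        congr 1
        linear_combination hxy
      · rw [hMη, a0]
      · rw [hG, mul_inv_cancel]
    · intro X _ u h hw
      set g := FreeGroup.lift (cond · u h) with hg
      have hgU : g U = u := by simp [hg, U]
      have hgH : g Hm = h := by simp [hg, Hm]
      simp only [List.forall_mem_cons, List.not_mem_nil, IsEmpty.forall_iff, implies_true, and_true,
        map_commutatorElement, map_pow, map_mul, map_inv, FieldModule.map_pw, hgU, hgH,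
        commutatorElement_eq_one_iff_commute, mul_inv_eq_one] at hw
      obtain ⟨hpu, h1, h2, h4, h5⟩ := hw
      have hcomm := crw_sub ((Commute.refl h).pow_pow m k) h1 h2
      obtain ⟨a, aadd, a1, ah, apw⟩ := FieldModule.toField p hxsurj hM hcomm hpu h4
      refine ⟨a, aadd, a1, fun t => ?_⟩
      have hη1 : h * a 1 * h⁻¹ = a η := by rw [a1, h5, ← apw, hG]
      have hp' : ∀ i : ℕ, ∀ t, (h ^ k) ^ i * a t * ((h ^ k) ^ i)⁻¹ = a ((η ^ k) ^ i * t) := by
        intro i
        induction i with
        | zero => simp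
        | succ i ih =>
          intro t
          rw [pow_succ' (η ^ k), mul_assoc (η ^ k), ← ah, ← ih, pow_succ' (h ^ k)]
          group
      obtain ⟨f, rfl⟩ := hxsurj t
      induction f using Polynomial.induction_on' with
      | add f f' hf hf' =>
        rw [map_add, ← aadd, mul_add, ← aadd, ← hf, ← hf']
        group
      | monomial i c =>
        have hA : ∀ (s : F), a ((c : F) * s) = a s ^ c := fun s => by
          have a0 : a 0 = 1 := by
            have := aadd 0 0
            rwa [add_zero, mul_eq_left] at this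
          let A : Multiplicative F →* X :=
            { toFun := fun t => a t.toAdd, map_one' := a0, map_mul' := fun t v => (aadd _ _).symm }
          have := map_zpow A (Multiplicative.ofAdd s) c
          rw [← ofAdd_zsmul, zsmul_eq_mul] at this
          exact this
        rw [aeval_monomial, eq_intCast, hA, mul_left_comm η, hA, ← conj_zpow, mul_comm η]
        congr 1
        rw [← hp' i η, ← hη1, ← mul_one ((η ^ k) ^ i), ← hp' i 1]
        have hc : h * (h ^ k) ^ i = (h ^ k) ^ i * h := (((Commute.refl h).pow_right k).pow_right i).eq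
        calc h * ((h ^ k) ^ i * a 1 * ((h ^ k) ^ i)⁻¹) * h⁻¹
            = (h * (h ^ k) ^ i) * a 1 * (h * (h ^ k) ^ i)⁻¹ := by group
          _ = ((h ^ k) ^ i * h) * a 1 * ((h ^ k) ^ i * h)⁻¹ := by rw [hc]
          _ = _ := by group

/-- Squares of involutions. -/
theorem commute_of_sq {X : Type*} [Group X] {a b : X} (ha : a * a = 1) (hb : b * b = 1)
    (hab : a * b * (a * b) = 1) : Commute a b := by
  have h1 : a⁻¹ = a := inv_eq_of_mul_eq_one_left ha
  have h2 : b⁻¹ = b := inv_eq_of_mul_eq_one_left hb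
  show a * b = b * a
  rw [← inv_eq_of_mul_eq_one_left hab, _root_.mul_inv_rev, h1, h2]

set_option maxHeartbeats 1000000 in
/-- Three relations in characteristic two; the order of the multiplier comes out as well. -/
theorem exists_rels_two [Finite F] [CharP F 2] {η : F} (hgen : Gen η) {s : ℕ} (hs : 0 < s)
    (hηs : η ^ s = 1) :
    ∃ L : List (FreeGroup Bool), L.length ≤ 3 ∧
      (∀ (Y : Type*) [Group Y] (a : F → Y) (h : Y), (∀ t u, a t * a u = a (t + u)) →
        (∀ t, h * a t * h⁻¹ = a (η * t)) → h ^ s = 1 → (η = 1 → h = 1) →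
        ∀ w ∈ L, FreeGroup.lift (cond · (a 1) h) w = 1) ∧
      ∀ (X : Type) [Group X] (u h : X), (∀ w ∈ L, FreeGroup.lift (cond · u h) w = 1) →
        ∃ a : F → X, (∀ t v, a t * a v = a (t + v)) ∧ a 1 = u ∧
          (∀ t, h * a t * h⁻¹ = a (η * t)) ∧ h ^ s = 1 := by
  classical
  by_cases h1η : η = 1
  · subst h1η
    have h01 : ∀ t : F, t = 0 ∨ t = 1 := fun t => by
      rcases eq_or_ne t 0 with h | h
      · exact Or.inl h
      · obtain ⟨i, rfl⟩ := hgen t h; exact Or.inr (one_pow i)
    refine ⟨[U ^ 2, Hm], by simp, ?_, ?_⟩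
    · intro Y _ a h hadd hh _ h1
      simp only [List.forall_mem_cons, List.not_mem_nil, IsEmpty.forall_iff, implies_true, and_true,
        map_pow, U, Hm, FreeGroup.lift_apply_of, cond_true, cond_false]
      refine ⟨?_, h1 rfl⟩
      have a0 : a 0 = 1 := by
        have := hadd 0 0
        rwa [add_zero, mul_eq_left] at this
      rw [pow_two, hadd, CharTwo.add_self_eq_zero, a0]
    · intro X _ u h hw
      simp only [List.forall_mem_cons, List.not_mem_nil, IsEmpty.forall_iff, implies_true, and_true,
        map_pow, U, Hm, FreeGroup.lift_apply_of, cond_true, cond_false] at hw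
      obtain ⟨hu, rfl⟩ := hw
      refine ⟨fun t => if t = 0 then 1 else u, fun t v => ?_, by simp, fun t => by simp, one_pow s⟩
      rcases h01 t with rfl | rfl <;> rcases h01 v with rfl | rfl <;>
        simp [CharTwo.add_self_eq_zero, ← pow_two, hu]
  obtain ⟨m, hm⟩ : ∃ m : ℕ, 1 + η = η ^ m := hgen _ fun e0 =>
    h1η (by rw [← CharTwo.neg_eq η]; exact neg_eq_of_add_eq_zero_left e0)
  obtain ⟨M, hMη, hM⟩ := FieldModule.exists_lift_minpoly 2 η
  have hsurj : ∀ t : F, ∃ f : ℤ[X], aeval η f = t := fun t => by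
    rcases eq_or_ne t 0 with rfl | ht
    · exact ⟨0, by simp⟩
    · obtain ⟨i, rfl⟩ := hgen t ht; exact ⟨Polynomial.X ^ i, by simp⟩
  refine ⟨[U ^ 2, Hm ^ m * U * (Hm ^ m)⁻¹ * (U * (Hm * U * Hm⁻¹))⁻¹,
    FieldModule.pw Hm U M * Hm ^ s], by simp, ?_, ?_⟩
  · intro Y _ a h hadd hh hhs _
    set g := FreeGroup.lift (cond · (a 1) h) with hg
    have hgU : g U = a 1 := by simp [hg, U]
    have hgH : g Hm = h := by simp [hg, Hm]
    have a0 : a 0 = 1 := by
      have := hadd 0 0
      rwa [add_zero, mul_eq_left] at this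
    have hpow : ∀ (i : ℕ) t, h ^ i * a t * (h ^ i)⁻¹ = a (η ^ i * t) := by
      intro i
      induction i with
      | zero => simp
      | succ i ih =>
        intro t
        rw [pow_succ', pow_succ', mul_assoc η, ← hh, ← ih]
        group
    simp only [List.forall_mem_cons, List.not_mem_nil, IsEmpty.forall_iff, implies_true, and_true,
      map_pow, map_mul, map_inv, FieldModule.map_pw, hgU, hgH, hpow, hh, hhs, mul_one]
    refine ⟨?_, ?_, ?_⟩
    · rw [pow_two, hadd, CharTwo.add_self_eq_zero, a0]
    · rw [hadd, hm, mul_inv_cancel]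
    · rw [FieldModule.pw_eq hadd hh, hMη, zero_mul, a0]
  · intro X _ u h hw
    set g := FreeGroup.lift (cond · u h) with hg
    have hgU : g U = u := by simp [hg, U]
    have hgH : g Hm = h := by simp [hg, Hm]
    simp only [List.forall_mem_cons, List.not_mem_nil, IsEmpty.forall_iff, implies_true, and_true,
      map_pow, map_mul, map_inv, FieldModule.map_pw, hgU, hgH] at hw
    obtain ⟨hu2, h2, h3⟩ := hw
    rw [mul_inv_eq_one] at h2
    have hu : u * u = 1 := by rwa [← pow_two]
    have h1 : Commute u (h * u * h⁻¹) := by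
      refine commute_of_sq hu ?_ ?_
      · rw [conj_mul, hu, mul_one, mul_inv_cancel]
      · rw [← h2, conj_mul, hu, mul_one, mul_inv_cancel]
    have hcomm := FieldAdd.crw h1 h2
    obtain ⟨Φ, hadd, hΦ1, hΦX, hideal, hpw⟩ := FieldModule.exists_hom hcomm
    have hz : h ^ s = (Φ M)⁻¹ := by
      rw [hpw]; exact eq_inv_of_mul_eq_one_right h3
    have hΦ0 : Φ 0 = 1 := by
      have := hadd 0 0
      rwa [add_zero, left_eq_mul] at this
    have hneg : ∀ f, Φ (-f) = (Φ f)⁻¹ := fun f =>
      eq_inv_of_mul_eq_one_left (by rw [← hadd, neg_add_cancel, hΦ0])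
    have hfix : Φ (Polynomial.X * M) = Φ M := by
      rw [hΦX, ← inv_inj, ← hz, conj_inv, ← hz]
      rw [← pow_succ', pow_succ, mul_inv_cancel_right]
    have hX1 : Φ ((Polynomial.X - 1) * M) = 1 := by
      rw [sub_mul, one_mul, sub_eq_add_neg, hadd, hfix, hneg, mul_inv_cancel]
    set P : ℤ[X] := Polynomial.X ^ m - 1 - Polynomial.X
    have hPv : ∀ i, Φ (Polynomial.X ^ i) = h ^ i * u * (h ^ i)⁻¹ := by
      intro i
      induction i with
      | zero => simpa using hΦ1
      | succ i ih => rw [pow_succ', hΦX, ih, pow_succ']; group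
    have hΦP : Φ P = 1 := by
      show Φ (Polynomial.X ^ m - 1 - Polynomial.X) = 1
      rw [show (Polynomial.X ^ m - 1 - Polynomial.X : ℤ[X]) =
        Polynomial.X ^ m + -(1 + Polynomial.X ^ 1) by ring, hadd, hneg, hadd, hΦ1, hPv, hPv, pow_one,
        h2, mul_inv_cancel]
    obtain ⟨R, hR⟩ : (Polynomial.X - C (1 : ℤ)) ∣ P - C (P.eval 1) :=
      X_sub_C_dvd_sub_C_eval
    have hP1 : P.eval 1 = -1 := by simp [P]
    rw [hP1, map_neg, map_one, sub_neg_eq_add] at hR
    have hM1 : Φ M = 1 := by
      rw [show M = -(M * P) + R * ((Polynomial.X - 1) * M) by linear_combination M * hR, hadd,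
        hneg, hideal _ _ hΦP, hideal _ _ hX1, inv_one, mul_one]
    obtain ⟨a, a1, a2, a3, -⟩ := FieldModule.toField 2 hsurj hM hcomm hu2 (by rw [← hpw, hM1])
    exact ⟨a, a1, a2, a3, by rw [hz, hM1, inv_one]⟩

end CfsgLib.Pres.FieldSquares
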