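import Cfsg.Agent.Lib.Pres.Basic

/-!
Presentations of subgroups of index two.
-/

set_option autoImplicit false

namespace CfsgLib.Pres.IndexTwo

/-- The exchange of the two coordinates, as an action of the units of the integers. -/
noncomputable def swapAct (X : Type*) [Group X] : ℤˣ →* MulAut (X × X) where
  toFun s := if s = 1 then 1 else MulEquiv.prodComm
  map_one' := if_pos rfl
  map_mul' a b := by
    rcases Int.units_eq_one_or a with rfl | rfl <;> rcases Int.units_eq_one_or b with rfl | rfl <;>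
      simp <;> ext x <;> simp

theorem swapAct_neg {X : Type*} [Group X] (x : X × X) : swapAct X (-1) x = (x.2, x.1) := by
  simp [swapAct, Prod.swap]

/-- The wreath product with a group of order two. -/
abbrev W (X : Type*) [Group X] := SemidirectProduct (X × X) ℤˣ (swapAct X)

/-- Functoriality. -/
noncomputable def wmap {X Y : Type*} [Group X] [Group Y] (f : X →* Y) : W X →* W Y :=
  SemidirectProduct.map (f.prodMap f) (MonoidHom.id _) fun s => MonoidHom.ext fun x => by
    rcases Int.units_eq_one_or s with rfl | rfl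
    · simp
    · simp [swapAct_neg]

variable {G : Type*} [Group G]

set_option maxHeartbeats 800000 in
/-- A subgroup of index two of a group with `r` relations needs at most `2r + 1` of them. -/
theorem hasPres_ker {r : ℕ} (hG : HasPres G r) (χ : G →* ℤˣ) (hχ : ∃ g, χ g = -1) :
    HasPres χ.ker (2 * r + 1) := by
  classical
  obtain ⟨ι, _, f, L, hL, hhold, hgen, huniv⟩ := exists_data hG
  obtain ⟨i₀, hi₀⟩ : ∃ i, χ (f i) = -1 := by
    by_contra h
    push Not at h
    obtain ⟨g, hg⟩ := hχ
    have h1 : Set.EqOn χ (1 : G →* ℤˣ) (Set.range f) := by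
      rintro _ ⟨i, rfl⟩
      exact (Int.units_eq_one_or _).resolve_right (h i)
    have := DFunLike.congr_fun (MonoidHom.eq_of_eqOn_dense hgen h1) g
    rw [hg] at this
    simp at this
  set t := f i₀
  have e1 : ∀ g, g * (if χ g = 1 then 1 else t⁻¹) ∈ χ.ker := fun g => by
    rcases Int.units_eq_one_or (χ g) with h | h <;> simp [MonoidHom.mem_ker, h, hi₀]
  have e2 : ∀ g, t * g * (if χ g = 1 then t⁻¹ else 1) ∈ χ.ker := fun g => by
    rcases Int.units_eq_one_or (χ g) with h | h <;> simp [MonoidHom.mem_ker, h, hi₀]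
  let θ : G →* W χ.ker := MonoidHom.mk' (fun g => ⟨(⟨_, e1 g⟩, ⟨_, e2 g⟩), χ g⟩) fun a b => by
    refine SemidirectProduct.ext ?_ (by simp)
    rcases Int.units_eq_one_or (χ a) with ha | ha <;>
      rcases Int.units_eq_one_or (χ b) with hb | hb <;>
      refine Prod.ext (Subtype.ext ?_) (Subtype.ext ?_) <;>
      simp [ha, hb, swapAct_neg, mul_assoc]
  let A : ι ⊕ ι → χ.ker :=
    Sum.elim (fun i => ⟨_, e1 (f i)⟩) (fun i => ⟨_, e2 (f i)⟩)
  let gens : ι → W (FreeGroup (ι ⊕ ι)) := fun i =>
    ⟨(FreeGroup.of (Sum.inl i), FreeGroup.of (Sum.inr i)), χ (f i)⟩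
  set Ψ := FreeGroup.lift gens
  have hθ : ∀ w, wmap (FreeGroup.lift A) (Ψ w) = θ (FreeGroup.lift f w) := fun w =>
    DFunLike.congr_fun (FreeGroup.ext_hom ((wmap (FreeGroup.lift A)).comp Ψ)
      (θ.comp (FreeGroup.lift f)) fun i => by
      refine SemidirectProduct.ext ?_ ?_ <;> simp [Ψ, gens, wmap, θ, A]) w
  let L' : List (FreeGroup (ι ⊕ ι)) :=
    L.map (fun w => (Ψ w).left.1) ++ L.map (fun w => (Ψ w).left.2) ++ [FreeGroup.of (Sum.inl i₀)]
  refine hasPres_of A L' (by simp [L']; omega) ?_ ?_ fun X _ x hx _ => ?_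
  · refine List.forall_mem_append.2 ⟨List.forall_mem_append.2 ⟨?_, ?_⟩, ?_⟩
    · intro w hw
      obtain ⟨u, hu, rfl⟩ := List.mem_map.1 hw
      have := congrArg (fun z => z.left.1) (hθ u)
      rw [hhold u hu, map_one] at this
      simpa [wmap] using this
    · intro w hw
      obtain ⟨u, hu, rfl⟩ := List.mem_map.1 hw
      have := congrArg (fun z => z.left.2) (hθ u)
      rw [hhold u hu, map_one] at this
      simpa [wmap] using this
    · simp [A, t, hi₀]
  · rw [← FreeGroup.range_lift_eq_closure, eq_top_iff]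
    rintro ⟨h, hh⟩ -
    obtain ⟨w, hw⟩ := exists_word hgen h
    refine ⟨(Ψ w).left.1, ?_⟩
    have := congrArg (fun z => z.left.1) (hθ w)
    simp only [hw] at this
    refine Eq.trans (by simpa [wmap] using this) (Subtype.ext ?_)
    simp [θ, (MonoidHom.mem_ker).1 hh]
  · let q : ι → W X := fun i => ⟨(x (Sum.inl i), x (Sum.inr i)), χ (f i)⟩
    have hq : ∀ w, FreeGroup.lift q w = wmap (FreeGroup.lift x) (Ψ w) := fun w =>
      DFunLike.congr_fun (FreeGroup.ext_hom (FreeGroup.lift q)
        ((wmap (FreeGroup.lift x)).comp Ψ) fun i => by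
        refine SemidirectProduct.ext ?_ ?_ <;> simp [Ψ, gens, wmap, q]) w
    have hright : ∀ w, (Ψ w).right = χ (FreeGroup.lift f w) := fun w =>
      DFunLike.congr_fun (FreeGroup.ext_hom (SemidirectProduct.rightHom.comp Ψ)
        (χ.comp (FreeGroup.lift f)) fun i => by simp [Ψ, gens]) w
    obtain ⟨φ, hφ⟩ := huniv (W X) q fun w hw => by
      rw [hq]
      refine SemidirectProduct.ext ?_ ?_
      · refine Prod.ext ?_ ?_
        · simpa [wmap] using hx _ (List.mem_append_left _ (List.mem_append_left _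
            (List.mem_map.2 ⟨w, hw, rfl⟩)))
        · simpa [wmap] using hx _ (List.mem_append_left _ (List.mem_append_right _
            (List.mem_map.2 ⟨w, hw, rfl⟩)))
      · simp [wmap, hright, hhold w hw]
    have hr : ∀ g, (φ g).right = χ g := fun g => by
      obtain ⟨w, rfl⟩ := exists_word hgen g
      rw [show φ (FreeGroup.lift f w) = FreeGroup.lift q w from DFunLike.congr_fun
        (FreeGroup.ext_hom (φ.comp (FreeGroup.lift f)) (FreeGroup.lift q) fun i => by simp [hφ]) w,
        hq]
      simp [wmap, hright]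
    have hx₀ : x (Sum.inl i₀) = 1 := by
      simpa using hx _ (List.mem_append_right _ (List.mem_singleton.2 rfl))
    refine ⟨MonoidHom.mk' (fun h => (φ h.1).left.1) fun a b => ?_, fun i => ?_⟩
    · have ha : χ a.1 = 1 := a.2
      simp [hr, ha]
    rcases i with i | i <;> rcases Int.units_eq_one_or (χ (f i)) with h | h
    · simp [A, h, hφ, q]
    · simp [A, h, hφ, q, t, hi₀, hx₀, swapAct_neg]
    · simp [A, h, hφ, q, t, hi₀, hx₀, swapAct_neg]
    · simp [A, h, hφ, q, t, hi₀, hx₀, swapAct_neg]

end CfsgLib.Pres.IndexTwo
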