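import Cfsg.Agent.Lib.Pres.FieldAdd
import Cfsg.Agent.Lib.Pres.IndexTwo
import Cfsg.Agent.Lib.Steinberg.RankOne

/-!
Presentations of `PGL_2` and `PSL_2` over a finite field.
-/

set_option autoImplicit false

namespace CfsgLib.Pres.PGLTwo

open Matrix CfsgLib.Steinberg CfsgLib.Steinberg.R1Data
open scoped MatrixGroups

variable {F : Type*} [Field F]

/-- The diagonal elements. -/
def δ : Fˣ →* GL (Fin 2) F where
  toFun c := ⟨!![(c : F), 0; 0, 1], !![((c⁻¹ : Fˣ) : F), 0; 0, 1],
    by ext i j; fin_cases i <;> fin_cases j <;> simp [Matrix.mul_apply, Fin.sum_univ_two],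
    by ext i j; fin_cases i <;> fin_cases j <;> simp [Matrix.mul_apply, Fin.sum_univ_two]⟩
  map_one' := Units.ext (by ext i j; fin_cases i <;> fin_cases j <;> simp)
  map_mul' a b := Units.ext (by
    ext i j; fin_cases i <;> fin_cases j <;> simp [Matrix.mul_apply, Fin.sum_univ_two])

theorem δ_val (c : Fˣ) : ((δ c : GL (Fin 2) F) : Matrix (Fin 2) (Fin 2) F) = !![(c : F), 0; 0, 1] :=
  rfl

theorem det_δ (c : Fˣ) : GeneralLinearGroup.det (δ c) = c := Units.ext (by
  rw [GeneralLinearGroup.val_det_apply, δ_val, det_fin_two]; simp)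

/-- The part of determinant one. -/
noncomputable def sl (g : GL (Fin 2) F) : SL(2, F) :=
  ⟨((g * (δ (GeneralLinearGroup.det g))⁻¹ : GL (Fin 2) F) : Matrix (Fin 2) (Fin 2) F), by
    rw [← GeneralLinearGroup.val_det_apply, map_mul, map_inv, det_δ, mul_inv_cancel, Units.val_one]⟩

theorem sl_eq (g : GL (Fin 2) F) :
    SpecialLinearGroup.toGL (sl g) = g * (δ (GeneralLinearGroup.det g))⁻¹ := Units.ext rfl

theorem up_add (t u : F) : up t * up u = up (t + u) := Subtype.ext (by
  show (up t : SL(2, F)).1 * (up u).1 = _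
  ext i j; fin_cases i <;> fin_cases j <;> simp [Matrix.mul_apply, Fin.sum_univ_two, add_comm])

theorem δ_up (c : Fˣ) (t : F) :
    δ c * SpecialLinearGroup.toGL (up t) * (δ c)⁻¹ = SpecialLinearGroup.toGL (up ((c : F) * t)) := by
  rw [mul_inv_eq_iff_eq_mul]
  refine Units.ext ?_
  show (δ c : GL (Fin 2) F).1 * (up t).1 = (up ((c : F) * t)).1 * (δ c : GL (Fin 2) F).1
  rw [δ_val]
  ext i j; fin_cases i <;> fin_cases j <;> simp [Matrix.mul_apply, Fin.sum_univ_two]

theorem weyl_eq (c : Fˣ) : ((up (c : F) * dn (-(c : F)⁻¹) * up (c : F) : SL(2, F)) :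
    Matrix (Fin 2) (Fin 2) F) = !![0, (c : F); -(c : F)⁻¹, 0] := by
  have := c.ne_zero
  show (up (c : F)).1 * (dn (-(c : F)⁻¹)).1 * (up (c : F)).1 = _
  ext i j; fin_cases i <;> fin_cases j <;> simp [Matrix.mul_apply, Fin.sum_univ_two, this]

theorem δ_wS (c : Fˣ) :
    δ c * SpecialLinearGroup.toGL (wS : SL(2, F)) * (δ c)⁻¹ =
      SpecialLinearGroup.toGL (up (c : F) * dn (-(c : F)⁻¹) * up (c : F)) := by
  rw [mul_inv_eq_iff_eq_mul]
  refine Units.ext ?_
  show (δ c : GL (Fin 2) F).1 * (wS : SL(2, F)).1 =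
    (up (c : F) * dn (-(c : F)⁻¹) * up (c : F) : SL(2, F)).1 * (δ c : GL (Fin 2) F).1
  rw [δ_val, weyl_eq]
  ext i j; fin_cases i <;> fin_cases j <;> simp [Matrix.mul_apply, Fin.sum_univ_two]

theorem wS_eq : (wS : SL(2, F)) = up 1 * dn (-1) * up 1 := Subtype.ext (by
  have := weyl_eq (F := F) 1
  simp only [Units.val_one, inv_one] at this
  rw [wS_val, this])

/-- The value of a homomorphism at the Weyl elements. -/
theorem hom_weyl {G : Type*} [Group G] (R : R1Data F G) {φ : SL(2, F) →* G}
    (hφ : ∀ (g : SL(2, F)) (t : F),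
      ((g : Matrix (Fin 2) (Fin 2) F) = !![1, t; 0, 1] → φ g = R.x t) ∧
      ((g : Matrix (Fin 2) (Fin 2) F) = !![1, 0; t, 1] → φ g = R.y t)) (c : Fˣ) :
    φ (up (c : F) * dn (-(c : F)⁻¹) * up (c : F)) = R.hh c * R.N := by
  rw [map_mul, map_mul, (hφ _ _).1 (up_val _), (hφ _ _).2 (dn_val _), R.n_eq, R1Data.y, neg_neg]

variable [Finite F]

set_option maxHeartbeats 1600000 in
/-- Eight relations for `PGL_2`. -/
theorem hasPres_pgl : HasPres (ProjGenLinGroup (Fin 2) F) 8 := by
  classical
  obtain ⟨ω, hω⟩ := IsCyclic.exists_monoid_generator (α := Fˣ)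
  have hgen : ∀ t : F, t ≠ 0 → ∃ i : ℕ, t = (ω : F) ^ i := fun t ht => by
    obtain ⟨i, hi⟩ := Submonoid.mem_powers_iff _ _ |>.1 (hω (Units.mk0 t ht))
    exact ⟨i, by simpa using (congrArg Units.val hi).symm⟩
  obtain ⟨p, hp⟩ := CharP.exists F
  have : Fact p.Prime := ⟨CharP.char_is_prime F p⟩
  obtain ⟨L₀, hL₀, hhold₀, huniv₀⟩ := FieldAdd.exists_rels p hgen
  let π : GL (Fin 2) F →* ProjGenLinGroup (Fin 2) F := ProjGenLinGroup.mk
  let ua : F → ProjGenLinGroup (Fin 2) F := fun t => π (SpecialLinearGroup.toGL (up t))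
  let nn : ProjGenLinGroup (Fin 2) F := π (SpecialLinearGroup.toGL wS)
  let τ : FreeGroup Bool →* FreeGroup (Option Bool) :=
    FreeGroup.lift fun b => FreeGroup.of (some b)
  let U : FreeGroup (Option Bool) := FreeGroup.of (some true)
  let Dw : FreeGroup (Option Bool) := FreeGroup.of (some false)
  let Nw : FreeGroup (Option Bool) := FreeGroup.of none
  let R1 : List (FreeGroup (Option Bool)) :=
    [Dw ^ orderOf ω, Nw * Nw, Nw * Dw * Nw⁻¹ * Dw, Nw * (U * (Nw * U * Nw⁻¹) * U)⁻¹]
  let F₀ : Option Bool → ProjGenLinGroup (Fin 2) F :=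
    fun e => e.elim nn (cond · (ua 1) (π (δ ω)))
  have hgup : ∀ i : ℕ, (δ ω) ^ i * SpecialLinearGroup.toGL (up 1) * ((δ ω) ^ i)⁻¹ =
      SpecialLinearGroup.toGL (up ((ω : F) ^ i)) := fun i => by
    rw [← map_pow, δ_up, mul_one, Units.val_pow_eq_pow_val]
  refine hasPres_of F₀ (L₀.map τ ++ R1) (by simp [R1]; omega) ?_ ?_ fun X _ x hx _ => ?_
  · set g := FreeGroup.lift F₀
    refine List.forall_mem_append.2 ⟨?_, ?_⟩
    · intro w hw
      obtain ⟨v, hv, rfl⟩ := List.mem_map.1 hw
      have := hhold₀ (ProjGenLinGroup (Fin 2) F) ua (π (δ ω))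
        (fun t u => by simp only [ua]; rw [← map_mul π, ← map_mul, up_add])
        (fun t => by simp only [ua]; rw [← map_inv, ← map_mul, ← map_mul, δ_up]) v hv
      rw [← this]
      exact DFunLike.congr_fun (FreeGroup.ext_hom (g.comp τ) (FreeGroup.lift fun b =>
        cond b (ua 1) (π (δ ω))) fun i => by simp [τ, g, F₀]) v
    · have hU : g U = ua 1 := by simp [g, U, F₀]
      have hD : g Dw = π (δ ω) := by simp [g, Dw, F₀]
      have hN : g Nw = nn := by simp [g, Nw, F₀]
      show ∀ w ∈ R1, g w = 1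
      simp only [R1, List.forall_mem_cons, List.not_mem_nil, IsEmpty.forall_iff, implies_true,
        and_true, map_mul, map_inv, map_pow, hU, hD, hN, ua, nn]
      simp only [← map_pow, ← map_mul, ← map_inv]
      refine ⟨?_, ?_, ?_, ?_⟩
      · rw [pow_orderOf_eq_one, map_one, map_one]
      · refine ProjGenLinGroup.mk_eq_one.2 ?_
        rw [SpecialLinearGroup.toGL_mem_center_iff, Matrix.SpecialLinearGroup.mem_center_iff]
        refine ⟨-1, by simp, ?_⟩
        show _ = (wS : SL(2, F)).1 * (wS : SL(2, F)).1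
        rw [wS_val]
        ext i j; fin_cases i <;> fin_cases j <;> simp [Matrix.mul_apply, Fin.sum_univ_two]
      · refine ProjGenLinGroup.mk_eq_one.2 ?_
        rw [GeneralLinearGroup.mem_center_iff_val_mem_range_scalar]
        refine ⟨(ω : F), ?_⟩
        have e : SpecialLinearGroup.toGL (wS : SL(2, F)) * δ ω *
            (SpecialLinearGroup.toGL (wS : SL(2, F)))⁻¹ * δ ω =
            SpecialLinearGroup.toGL (wS : SL(2, F)) * δ ω *
            SpecialLinearGroup.toGL (wS⁻¹ : SL(2, F)) * δ ω := by rw [map_inv]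
        rw [map_inv]
        rw [e]
        show _ = (wS : SL(2, F)).1 * (δ ω : GL (Fin 2) F).1 * (wS⁻¹ : SL(2, F)).1 *
          (δ ω : GL (Fin 2) F).1
        rw [δ_val, show (wS⁻¹ : SL(2, F)).1 = Matrix.adjugate (wS : SL(2, F)).1 from rfl, wS_val,
          Matrix.adjugate_fin_two]
        ext i j; fin_cases i <;> fin_cases j <;> simp [Matrix.mul_apply, Fin.sum_univ_two]
      · rw [show (wS : SL(2, F)) * up 1 * wS⁻¹ = dn (-1) from Subtype.ext (by
          show (wS : SL(2, F)).1 * (up 1).1 * (wS⁻¹ : SL(2, F)).1 = _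
          rw [show (wS⁻¹ : SL(2, F)).1 = Matrix.adjugate (wS : SL(2, F)).1 from rfl, wS_val,
            Matrix.adjugate_fin_two]
          ext i j; fin_cases i <;> fin_cases j <;> simp [Matrix.mul_apply, Fin.sum_univ_two]),
          ← wS_eq, mul_inv_cancel, map_one, map_one]
  · set S := Subgroup.closure (Set.range F₀)
    have hn : nn ∈ S := Subgroup.subset_closure ⟨none, rfl⟩
    have hd : ∀ c, π (δ c) ∈ S := fun c => by
      obtain ⟨i, rfl⟩ := Submonoid.mem_powers_iff _ _ |>.1 (hω c)
      rw [map_pow, map_pow]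
      have hdω : π (δ ω) ∈ S := Subgroup.subset_closure ⟨some false, rfl⟩
      exact pow_mem hdω i
    have hu : ∀ t, ua t ∈ S := fun t => by
      rcases eq_or_ne t 0 with rfl | ht
      · have : ua 0 = 1 := by
          simp only [ua]
          rw [show up (0 : F) = 1 from Subtype.ext (by
            rw [up_val]; ext i j; fin_cases i <;> fin_cases j <;> simp), map_one, map_one]
        rw [this]; exact one_mem _
      · obtain ⟨i, rfl⟩ := hgen t ht
        have hD := pow_mem (hd ω) i
        simp only [ua]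
        rw [← hgup i, map_mul, map_mul, map_inv, map_pow]
        exact mul_mem (mul_mem hD (Subgroup.subset_closure ⟨some true, rfl⟩)) (inv_mem hD)
    have hsl : ∀ s : SL(2, F), π (SpecialLinearGroup.toGL s) ∈ S := fun s => by
      have h : (⊤ : Subgroup SL(2, F)) ≤ S.comap (π.comp SpecialLinearGroup.toGL) := by
        rw [← closure_gens, Subgroup.closure_le]
        rintro _ (⟨t, rfl⟩ | rfl)
        exacts [hu t, hn]
      exact h (Subgroup.mem_top s)
    refine eq_top_iff.2 fun y _ => ?_
    induction y using ProjGenLinGroup.induction_on with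
    | mk y =>
      have h := mul_mem (hsl (sl y)) (hd (GeneralLinearGroup.det y))
      rwa [← map_mul, sl_eq, inv_mul_cancel_right] at h
  · set g := FreeGroup.lift x with hg
    obtain ⟨a, aadd, a1, apow, ah⟩ := huniv₀ X (x (some true)) (x (some false)) fun w hw => by
      rw [← hx (τ w) (List.mem_append_left _ (List.mem_map_of_mem hw))]
      exact DFunLike.congr_fun (FreeGroup.ext_hom
        (FreeGroup.lift fun b => cond b (x (some true)) (x (some false))) (g.comp τ)
        fun i => by cases i <;> simp [τ, g]) w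
    have hR : ∀ w ∈ R1, g w = 1 := fun w hw => hx w (List.mem_append_right _ hw)
    set d := x (some false) with hd
    set n := x none with hn
    have hU : g U = a 1 := by simp [g, U, a1]
    have hD : g Dw = d := by simp [g, Dw, hd]
    have hN : g Nw = n := by simp [g, Nw, hn]
    simp only [R1, List.forall_mem_cons, List.not_mem_nil, IsEmpty.forall_iff, implies_true,
      and_true, map_mul, map_inv, map_pow, hU, hD, hN] at hR
    obtain ⟨hord, hnn, hnd, hne⟩ := hR
    rw [mul_inv_eq_one] at hne
    obtain ⟨D, hDω⟩ : ∃ D : Fˣ →* X, D ω = d := by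
      choose lg hlg using fun c => Submonoid.mem_powers_iff _ _ |>.1 (hω c)
      have key : ∀ i j : ℕ, ω ^ i = ω ^ j → d ^ i = d ^ j := fun i j e => by
        rw [pow_eq_pow_iff_modEq] at e ⊢
        exact e.of_dvd (orderOf_dvd_of_pow_eq_one hord)
      refine ⟨MonoidHom.mk' (fun c => d ^ lg c) fun b c => ?_, ?_⟩
      · rw [← pow_add]
        exact key _ _ (by rw [hlg, pow_add, hlg, hlg])
      · exact (key _ 1 (by rw [hlg, pow_one])).trans (pow_one d)
    have hDa : ∀ c t, D c * a t * (D c)⁻¹ = a ((c : F) * t) := fun c => by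
      obtain ⟨i, rfl⟩ := Submonoid.mem_powers_iff _ _ |>.1 (hω c)
      induction i with
      | zero => simp
      | succ i ih =>
        intro t
        rw [pow_succ', Units.val_mul, mul_assoc (ω : F), ← ah, ← ih, map_mul, hDω]
        group
    have hnD : ∀ c, n * D c * n⁻¹ = (D c)⁻¹ := fun c => by
      obtain ⟨i, rfl⟩ := Submonoid.mem_powers_iff _ _ |>.1 (hω c)
      rw [map_pow, hDω, ← conj_pow, eq_inv_of_mul_eq_one_left hnd, inv_pow]
    let R : R1Data F X :=
      { x := a
        hh := D.comp (MonoidHom.mk' (fun c => c * c) fun b c => mul_mul_mul_comm b c b c)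
        N := n
        x_add := aadd
        hh_x := fun c t => by
          show D (c * c) * a t * (D (c * c))⁻¹ = _
          rw [hDa, Units.val_mul]
        N_hh := fun c => by
          show n * D (c * c) * n⁻¹ = D (c⁻¹ * c⁻¹)
          rw [hnD, ← map_inv, _root_.mul_inv_rev]
        n_eq := fun c => by
          show D (c * c) * n = a c * (n * a (c : F)⁻¹ * n⁻¹) * a c
          have h1 : D c * n = n * (D c)⁻¹ := by
            have := hnD c⁻¹
            rw [map_inv, inv_inv, mul_inv_eq_iff_eq_mul] at this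
            exact this.symm
          have hc := hDa c (1 : F)
          have hc' := hDa c⁻¹ (1 : F)
          rw [mul_one] at hc hc'
          rw [map_inv, inv_inv, Units.val_inv_eq_inv_val] at hc'
          have L : D c * n * (D c)⁻¹ = D (c * c) * n := by
            rw [map_mul, mul_assoc (D c) (D c) n, h1, ← mul_assoc, h1]
          rw [← L, ← hc, ← hc']
          conv_lhs => rw [hne]
          calc D c * (a 1 * (n * a 1 * n⁻¹) * a 1) * (D c)⁻¹
              = (D c * a 1 * (D c)⁻¹) * ((D c * n) * a 1 * (D c * n)⁻¹) *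
                  (D c * a 1 * (D c)⁻¹) := by group
            _ = _ := by rw [h1]; group
        N_sq := by
          show n * n = (D (-1 * -1))⁻¹
          rw [hnn]; simp }
    obtain ⟨φ, hφ⟩ := R.exists_hom
    have φup : ∀ t, φ (up t) = a t := fun t => (hφ _ t).1 (up_val t)
    have φw : ∀ c : Fˣ, φ (up (c : F) * dn (-(c : F)⁻¹) * up (c : F)) = D (c * c) * n :=
      hom_weyl R hφ
    have φwS : φ wS = n := by
      have := φw 1
      rw [Units.val_one, inv_one, ← wS_eq, mul_one, map_one, one_mul] at this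
      exact this
    have hcov : ∀ c s, φ (sl (δ c * SpecialLinearGroup.toGL s)) = D c * φ s * (D c)⁻¹ := by
      intro c
      have hkey : ∀ s s', SpecialLinearGroup.toGL s' = δ c * SpecialLinearGroup.toGL s * (δ c)⁻¹ →
          sl (δ c * SpecialLinearGroup.toGL s) = s' := fun s s' e => by
        refine SpecialLinearGroup.toGL_injective ?_
        rw [sl_eq, e, map_mul, det_δ,
          show GeneralLinearGroup.det (SpecialLinearGroup.toGL s) = 1 from Units.ext s.2, mul_one]
      have hmul : ∀ s s', sl (δ c * SpecialLinearGroup.toGL (s * s')) =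
          sl (δ c * SpecialLinearGroup.toGL s) * sl (δ c * SpecialLinearGroup.toGL s') := by
        intro s s'
        refine hkey _ _ ?_
        rw [map_mul, sl_eq, sl_eq]
        simp only [map_mul, det_δ,
          show GeneralLinearGroup.det (SpecialLinearGroup.toGL s) = 1 from Units.ext s.2,
          show GeneralLinearGroup.det (SpecialLinearGroup.toGL s') = 1 from Units.ext s'.2,
          mul_one]
        group
      let α : SL(2, F) →* SL(2, F) :=
        MonoidHom.mk' (fun s => sl (δ c * SpecialLinearGroup.toGL s)) hmul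
      refine DFunLike.congr_fun (f := φ.comp α) (g := (MulAut.conj (D c)).toMonoidHom.comp φ)
        (MonoidHom.eq_of_eqOn_dense closure_gens ?_)
      rintro _ (⟨t, rfl⟩ | rfl)
      · show φ (sl _) = D c * φ (up t) * (D c)⁻¹
        rw [hkey _ _ (δ_up c t).symm, φup, φup, hDa]
      · show φ (sl _) = D c * φ wS * (D c)⁻¹
        rw [hkey _ _ (δ_wS c).symm, φw, φwS, map_mul]
        have := hnD c⁻¹
        rw [map_inv, inv_inv, mul_inv_eq_iff_eq_mul] at this
        rw [mul_assoc (D c) (D c) n, ← this, ← mul_assoc, ← this]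
    let Φ : GL (Fin 2) F →* X := MonoidHom.mk'
      (fun y => φ (sl y) * D (GeneralLinearGroup.det y)) fun y z => by
      have e : sl (y * z) =
          sl y * sl (δ (GeneralLinearGroup.det y) * SpecialLinearGroup.toGL (sl z)) := by
        refine SpecialLinearGroup.toGL_injective ?_
        rw [map_mul, sl_eq, sl_eq, sl_eq, sl_eq]
        simp only [map_mul, map_inv, det_δ, mul_inv_cancel, mul_one]
        group
      rw [e, map_mul φ, hcov, map_mul, map_mul]
      group
    have hscal : Φ.comp (GeneralLinearGroup.scalar (Fin 2)) = 1 := by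
      refine MonoidHom.ext fun c => ?_
      show φ (sl _) * D _ = 1
      have hd2 : GeneralLinearGroup.det (GeneralLinearGroup.scalar (Fin 2) c) = c * c := Units.ext (by
        rw [GeneralLinearGroup.val_det_apply, GeneralLinearGroup.coe_scalar, det_fin_two]
        simp)
      have he : sl (GeneralLinearGroup.scalar (Fin 2) c) * wS =
          up ((c⁻¹ : Fˣ) : F) * dn (-(((c⁻¹ : Fˣ) : F))⁻¹) * up ((c⁻¹ : Fˣ) : F) := by
        refine Subtype.ext ?_
        show (sl (GeneralLinearGroup.scalar (Fin 2) c)).1 * (wS : SL(2, F)).1 = _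
        rw [weyl_eq]
        show (GeneralLinearGroup.scalar (Fin 2) c * (δ _)⁻¹ : GL (Fin 2) F).1 * _ = _
        rw [hd2, ← map_inv, Units.val_mul, δ_val, GeneralLinearGroup.coe_scalar, wS_val]
        have := c.ne_zero
        ext i j; fin_cases i <;> fin_cases j <;>
          simp [Matrix.mul_apply, Fin.sum_univ_two, this]
      have := congrArg φ he
      rw [map_mul φ, φw, φwS, mul_left_inj] at this
      rw [this, hd2, ← map_mul]
      simp
    refine ⟨ProjGenLinGroup.lift Φ hscal, fun i => ?_⟩
    have hslGL : ∀ s : SL(2, F), Φ (SpecialLinearGroup.toGL s) = φ s := fun s => by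
      show φ (sl _) * D _ = φ s
      have h1 : GeneralLinearGroup.det (SpecialLinearGroup.toGL s) = 1 := Units.ext s.2
      have : sl (SpecialLinearGroup.toGL s) = s := SpecialLinearGroup.toGL_injective (by
        rw [sl_eq, h1, map_one, inv_one, mul_one])
      rw [this, h1, map_one, mul_one]
    rcases i with _ | b
    · show Φ (SpecialLinearGroup.toGL wS) = n
      rw [hslGL, φwS]
    · cases b
      · show φ (sl (δ ω)) * D (GeneralLinearGroup.det (δ ω)) = d
        have : sl (δ ω) = 1 := SpecialLinearGroup.toGL_injective (by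
          rw [sl_eq, det_δ, mul_inv_cancel, map_one])
        rw [this, map_one, one_mul, det_δ, hDω]
      · show Φ (SpecialLinearGroup.toGL (up 1)) = _
        rw [hslGL, φup, a1]

omit [Finite F] in
theorem mem_range_toPGL (y : GL (Fin 2) F) :
    ProjGenLinGroup.mk y ∈ (ProjectiveSpecialLinearGroup.toPGL (n := Fin 2) (R := F)).range ↔
      IsSquare (GeneralLinearGroup.det y) := by
  constructor
  · rintro ⟨s, hs⟩
    induction s using QuotientGroup.induction_on with
    | H s =>
      rw [ProjectiveSpecialLinearGroup.toPGL_mk, ProjGenLinGroup.mk_eq_mk_iff] at hs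
      obtain ⟨u, hu⟩ := hs
      refine ⟨u, ?_⟩
      rw [← hu, map_mul,
        show GeneralLinearGroup.det (SpecialLinearGroup.toGL s) = 1 from Units.ext s.2, one_mul]
      exact Units.ext (by
        rw [GeneralLinearGroup.val_det_apply, GeneralLinearGroup.coe_scalar, det_fin_two]; simp)
  · rintro ⟨u, hu⟩
    have h1 : GeneralLinearGroup.det (y * (GeneralLinearGroup.scalar (Fin 2) u)⁻¹) = 1 := by
      rw [map_mul, map_inv, hu, mul_inv_eq_one]
      exact Units.ext (by
        rw [GeneralLinearGroup.val_det_apply, GeneralLinearGroup.coe_scalar, det_fin_two]; simp)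
    let s₀ : SL(2, F) := ⟨(y * (GeneralLinearGroup.scalar (Fin 2) u)⁻¹).1, by
      rw [← GeneralLinearGroup.val_det_apply, h1, Units.val_one]⟩
    refine ⟨QuotientGroup.mk s₀, ?_⟩
    rw [ProjectiveSpecialLinearGroup.toPGL_mk, ProjGenLinGroup.mk_eq_mk_iff]
    exact ⟨u, by
      rw [← inv_mul_cancel_right y (GeneralLinearGroup.scalar (Fin 2) u)]
      exact congrArg (· * _) (Units.ext rfl)⟩

/-- Seventeen relations for `PSL_2`. -/
theorem hasPres_psl : HasPres (ProjectiveSpecialLinearGroup (Fin 2) F) 17 := by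
  classical
  have : Fintype F := Fintype.ofFinite F
  set j := ProjectiveSpecialLinearGroup.toPGL (n := Fin 2) (R := F)
  have hj : Function.Injective j := ProjectiveSpecialLinearGroup.toPGL_injective
  by_cases hall : ∀ c : Fˣ, IsSquare c
  · have htop : j.range = ⊤ := eq_top_iff.2 fun y _ => by
      induction y using ProjGenLinGroup.induction_on with
      | mk y => exact (mem_range_toPGL y).2 (hall _)
    exact of_mulEquiv (MulEquiv.ofBijective j ⟨hj, MonoidHom.range_eq_top.1 htop⟩).symm
      (mono (by norm_num) hasPres_pgl)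
  push Not at hall
  obtain ⟨c₀, hc₀⟩ := hall
  let ε : Fˣ →* ℤˣ := (quadraticChar F).toUnitHom
  have hε : ∀ c, ε c = 1 ↔ IsSquare c := fun c => by
    rw [Units.ext_iff]
    show quadraticChar F (c : F) = 1 ↔ _
    rw [quadraticChar_one_iff_isSquare c.ne_zero]
    constructor
    · rintro ⟨r, hr⟩
      have hr0 : r ≠ 0 := fun e => c.ne_zero (by rw [hr, e, mul_zero])
      exact ⟨Units.mk0 r hr0, Units.ext hr⟩
    · rintro ⟨r, rfl⟩
      exact ⟨r, rfl⟩
  let χ : ProjGenLinGroup (Fin 2) F →* ℤˣ :=
    ProjGenLinGroup.lift (ε.comp GeneralLinearGroup.det) (MonoidHom.ext fun u =>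
      (hε _).2 ⟨u, Units.ext (by
        rw [GeneralLinearGroup.val_det_apply, GeneralLinearGroup.coe_scalar, det_fin_two]; simp)⟩)
  have hker : χ.ker = j.range := Subgroup.ext fun y => by
    induction y using ProjGenLinGroup.induction_on with
    | mk y =>
      rw [MonoidHom.mem_ker, ProjGenLinGroup.lift_mk, mem_range_toPGL]
      exact hε _
  have hχ : ∃ y, χ y = -1 := ⟨ProjGenLinGroup.mk (δ c₀), by
    rw [ProjGenLinGroup.lift_mk]
    show ε (GeneralLinearGroup.det (δ c₀)) = -1
    rw [det_δ]
    exact (Int.units_eq_one_or _).resolve_left fun h => hc₀ ((hε _).1 h)⟩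
  exact of_mulEquiv ((MulEquiv.subgroupCongr hker).trans (MonoidHom.ofInjective hj).symm)
    (IndexTwo.hasPres_ker hasPres_pgl χ hχ)

end CfsgLib.Pres.PGLTwo
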