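import Cfsg.Agent.Lib.Pres.SLThree

/-!
`SL_3` over a finite field has a presentation with twenty relations more than the symmetric group
on three letters.
-/

set_option autoImplicit false

namespace CfsgLib.Pres.SLThree

open Equiv Matrix
open scoped commutatorElement

variable {F : Type*} [Field F]

/-- The signed permutation matrices. -/
def μ : K →* SpecialLinearGroup (Fin 3) F where
  toFun σ := ⟨((Perm.sign σ : ℤ) : F) • (σ⁻¹).permMatrix F, by
    rw [det_smul, det_permutation, map_inv]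
    rcases Int.units_eq_one_or (Perm.sign σ) with h | h <;> rw [h] <;> norm_num⟩
  map_one' := Subtype.ext (by simp)
  map_mul' σ τ := Subtype.ext (by
    show _ = _ * _
    simp [smul_smul, mul_comm])

theorem μ_mulVec (σ : K) (v : Fin 3 → F) (k : Fin 3) :
    ((μ (F := F) σ).1 *ᵥ v) k = ((Perm.sign σ : ℤ) : F) * v ((σ⁻¹ : K) k) := by
  show ((((Perm.sign σ : ℤ) : F) • (σ⁻¹).permMatrix F) *ᵥ v) k = _
  rw [smul_mulVec, permMatrix_mulVec]
  rfl

theorem μ_tv (σ : K) {i j : Fin 3} (h : i ≠ j) (t : F) :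
    μ σ * StSL.tv i j t * (μ σ)⁻¹ = StSL.tv (σ i) (σ j) t := by
  rw [mul_inv_eq_iff_eq_mul]
  refine StSL.sl_ext fun v => funext fun k => ?_
  rw [StSL.mul_mulVec', StSL.mul_mulVec', μ_mulVec, StSL.tv_mulVec h,
    StSL.tv_mulVec fun e => h (σ.injective e)]
  simp only [Pi.add_apply, μ_mulVec]
  by_cases e : k = σ i
  · subst e; simp; ring
  · have : (σ⁻¹ : K) k ≠ i := fun e' => e (by rw [← e']; simp)
    rw [Pi.single_eq_of_ne e, Pi.single_eq_of_ne this]; ring

theorem μ_dg (σ : K) (c : Fˣ) (a b : Fin 3) :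
    μ σ * AltMono.dg c a b * (μ σ)⁻¹ = AltMono.dg c (σ a) (σ b) := by
  rw [mul_inv_eq_iff_eq_mul]
  refine StSL.sl_ext fun v => funext fun k => ?_
  simp only [StSL.mul_mulVec', μ_mulVec, AltMono.dg_mulVec]
  simp [AltMono.χ, Equiv.symm_apply_eq]
  split_ifs <;> ring

variable [Finite F]

set_option maxHeartbeats 1600000 in
/-- The presentation. -/
theorem hasPres_sl : HasPres (SpecialLinearGroup (Fin 3) F) 24 := by
  classical
  obtain ⟨ω, hω⟩ := IsCyclic.exists_monoid_generator (α := Fˣ)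
  have hgen : ∀ t : F, t ≠ 0 → ∃ i : ℕ, t = (ω : F) ^ i := fun t ht => by
    obtain ⟨i, hi⟩ := Submonoid.mem_powers_iff _ _ |>.1 (hω (Units.mk0 t ht))
    exact ⟨i, by simpa using (congrArg Units.val hi).symm⟩
  obtain ⟨p, hp⟩ := CharP.exists F
  have : Fact p.Prime := ⟨CharP.char_is_prime F p⟩
  obtain ⟨L₀, hL₀, hhold₀, huniv₀⟩ := FieldAdd.exists_rels p hgen
  obtain ⟨ι, _, f, L, hL, hhold, hgenK, huniv⟩ := exists_data (hasPres_perm_succ 2)
  choose wd hwd using exists_word hgenK
  choose lg hlg using hgen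
  obtain ⟨g1, g2, hg12⟩ := SymAll.exists_two_gen 3
  -- transvections generate
  let T := Fin 3 × Fin 3 × F
  let tvv : T → SpecialLinearGroup (Fin 3) F := fun e => StSL.tv e.1 e.2.1 e.2.2
  have hT : Subgroup.closure (Set.range tvv) = ⊤ :=
    CfsgLib.Classical.eq_top_of_transvection_mem _ fun i j h t =>
      Subgroup.subset_closure ⟨(i, j, t), StSL.tv_eq h t⟩
  choose V hV using exists_word hT
  -- words
  let σ : FreeGroup ι →* FreeGroup (ι ⊕ Bool) :=
    FreeGroup.lift fun i => FreeGroup.of (Sum.inl i)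
  let τ : FreeGroup Bool →* FreeGroup (ι ⊕ Bool) :=
    FreeGroup.lift fun i => FreeGroup.of (Sum.inr i)
  let U : FreeGroup (ι ⊕ Bool) := FreeGroup.of (Sum.inr true)
  let Hw : FreeGroup (ι ⊕ Bool) := FreeGroup.of (Sum.inr false)
  let up : ℕ → FreeGroup (ι ⊕ Bool) := fun i => Hw ^ i * U * (Hw ^ i)⁻¹
  let ψw : K → FreeGroup (ι ⊕ Bool) := fun k => σ (wd k)
  let aw : F → FreeGroup (ι ⊕ Bool) := fun t => if ht : t = 0 then 1 else up (lg t ht)
  let sub : FreeGroup T →* FreeGroup (ι ⊕ Bool) :=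
    FreeGroup.lift fun e => if e.1 = e.2.1 then 1 else Xc ψw (aw e.2.2) e.1 e.2.1
  let R1 : List (FreeGroup (ι ⊕ Bool)) :=
    [ψw (swap 0 2) * Hw * (ψw (swap 0 2))⁻¹ * Hw, Hw * (H ψw Hw 0 1 * H ψw Hw 1 2)⁻¹,
      ⁅H ψw Hw 0 1, Hw⁆, ⁅Hw * H ψw Hw 1 2, U⁆,
      ⁅U, Xc ψw (up 0) 0 2⁆, ⁅U, Xc ψw (up 1) 0 2⁆, ⁅U, Xc ψw (up 2) 0 2⁆,
      ⁅U, Xc ψw (up 0) 2 1⁆, ⁅U, Xc ψw (up 1) 2 1⁆, ⁅U, Xc ψw (up 2) 2 1⁆,
      ⁅U, Xc ψw (up 0) 1 2⁆ * (Xc ψw (up 0) 0 2)⁻¹, ⁅U, Xc ψw (up 1) 1 2⁆ * (Xc ψw (up 1) 0 2)⁻¹,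
      ⁅U, Xc ψw (up 2) 1 2⁆ * (Xc ψw (up 2) 0 2)⁻¹,
      ψw g1 * (sub (V (μ g1)))⁻¹, ψw g2 * (sub (V (μ g2)))⁻¹,
      Hw * (sub (V (AltMono.dg ω 0 2)))⁻¹]
  let F₀ : ι ⊕ Bool → SpecialLinearGroup (Fin 3) F :=
    Sum.elim (fun i => μ (f i)) (cond · (StSL.tv 0 1 1) (AltMono.dg ω 0 2))
  refine hasPres_of F₀ (L.map σ ++ L₀.map τ ++ R1) (by simp [R1]; omega) ?_ ?_
    fun X _ x hx _ => ?_
  rotate_left 2
  · -- universality
    set g := FreeGroup.lift x with hg
    obtain ⟨ψ, hψ⟩ := huniv X (fun i => x (Sum.inl i)) fun w hw => by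
      rw [← hx (σ w) (List.mem_append_left _ (List.mem_append_left _ (List.mem_map_of_mem hw)))]
      exact DFunLike.congr_fun (FreeGroup.ext_hom (FreeGroup.lift fun i => x (Sum.inl i))
        (g.comp σ) fun i => by simp [σ, g]) w
    obtain ⟨a, aadd, a1, apow, ah⟩ := huniv₀ X (x (Sum.inr true)) (x (Sum.inr false)) fun w hw => by
      rw [← hx (τ w) (List.mem_append_left _ (List.mem_append_right _ (List.mem_map_of_mem hw)))]
      exact DFunLike.congr_fun (FreeGroup.ext_hom
        (FreeGroup.lift fun b => cond b (x (Sum.inr true)) (x (Sum.inr false))) (g.comp τ)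
        fun i => by cases i <;> simp [τ, g]) w
    set h := x (Sum.inr false)
    have hgψ : ∀ k, g (ψw k) = ψ k := fun k => by
      conv_rhs => rw [← hwd k]
      exact DFunLike.congr_fun (FreeGroup.ext_hom (g.comp σ) (ψ.comp (FreeGroup.lift f))
        fun i => by simp [σ, g, hψ]) (wd k)
    have hgU : g U = a 1 := by simp [g, U, a1]
    have hgH : g Hw = h := by simp [g, Hw, h]
    have hgup : ∀ i, g (up i) = a ((ω : F) ^ i) := fun i => by
      rw [map_mul, map_mul, map_inv, map_pow, hgU, hgH, a1, apow]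
    have hgaw : ∀ t, g (aw t) = a t := fun t => by
      simp only [aw]
      split_ifs with ht
      · subst ht
        rw [map_one]
        have := aadd 0 0
        rw [add_zero, mul_eq_left] at this
        exact this.symm
      · rw [hgup, ← hlg]
    have hR : ∀ w ∈ R1, g w = 1 := fun w hw => hx w (List.mem_append_right _ hw)
    simp only [R1, List.forall_mem_cons, List.not_mem_nil, IsEmpty.forall_iff, implies_true,
      and_true, map_mul, map_inv, map_commutatorElement, map_H, map_Xc, hgψ, hgU, hgH, hgup,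
      mul_inv_eq_one, commutatorElement_eq_one_iff_commute] at hR
    obtain ⟨er, eprod, etc, ecol, f0, f1, f2, s0, s1, s2, p0, p1, p2, eg1, eg2, egh⟩ := hR
    let D : Data F ω X :=
      { ψ := ψ, a := a, h := h, gen := fun t ht => ⟨lg t ht, hlg t ht⟩, a_add := aadd
        a_pow := fun i => by rw [apow, a1]
        a_h := ah
        rev := eq_inv_of_mul_eq_one_left er
        prodH := eprod, tc := etc, col := ecol
        cf := fun i hi => by interval_cases i; exacts [f0, f1, f2]
        cs := fun i hi => by interval_cases i; exacts [s0, s1, s2]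
        pr := fun i hi => by interval_cases i; exacts [p0, p1, p2] }
    obtain ⟨φ, hφ⟩ := D.exists_hom
    have hsub : ∀ y, g (sub (V y)) = φ y := fun y => by
      conv_rhs => rw [← hV y]
      exact DFunLike.congr_fun (FreeGroup.ext_hom (g.comp sub) (φ.comp (FreeGroup.lift tvv))
        fun e => by
          simp only [MonoidHom.comp_apply, sub, FreeGroup.lift_apply_of, tvv]
          split_ifs with he
          · rw [map_one, StSL.tv, dif_neg (fun h' => h' he), map_one]
          · rw [map_Xc, hgaw, hφ _ _ he]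
            simp only [hgψ]
            rfl) (V y)
    rw [hsub] at eg1 eg2 egh
    have hμ : ∀ k, φ (μ k) = ψ k := DFunLike.congr_fun
      (show φ.comp μ = ψ from MonoidHom.eq_of_eqOn_dense hg12 (by
        rintro _ (rfl | rfl)
        exacts [eg1.symm, eg2.symm]))
    refine ⟨φ, fun i => ?_⟩
    rcases i with i | i
    · show φ (μ (f i)) = _
      rw [hμ, hψ]
    · cases i
      · exact egh.symm
      · show φ (StSL.tv 0 1 1) = _
        rw [hφ _ _ (by decide), D.x01]
        exact a1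
  all_goals set g := FreeGroup.lift F₀ with hg
  all_goals
    have hgσ : ∀ w, g (σ w) = μ (FreeGroup.lift f w) := fun w =>
      DFunLike.congr_fun (FreeGroup.ext_hom (g.comp σ) (μ.comp (FreeGroup.lift f))
        fun i => by simp [σ, g, F₀]) w
    have hgψ : ∀ k, g (ψw k) = μ k := fun k => by simp only [ψw, hgσ, hwd]
    have hgU : g U = StSL.tv 0 1 1 := by simp [g, U, F₀]
    have hgH : g Hw = AltMono.dg ω 0 2 := by simp [g, Hw, F₀]
    have hχ : AltMono.χ ω (0 : Fin 3) 2 0 / AltMono.χ ω (0 : Fin 3) 2 1 = ω := by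
      simp [AltMono.χ]
    have hdg : ∀ t, AltMono.dg ω 0 2 * StSL.tv (0 : Fin 3) 1 t *
        (AltMono.dg ω 0 2)⁻¹ = StSL.tv 0 1 ((ω : F) * t) := fun t => by
      rw [AltMono.dg_tv _ _ _ (by decide), hχ]
    have hgup : ∀ i, g (up i) = StSL.tv 0 1 ((ω : F) ^ i) := fun i => by
      rw [map_mul, map_mul, map_inv, map_pow, hgU, hgH]
      induction i with
      | zero => simp
      | succ i ih =>
        rw [pow_succ' (ω : F), ← hdg, ← ih, pow_succ']
        group
    have hgaw : ∀ t, g (aw t) = StSL.tv 0 1 t := fun t => by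
      simp only [aw]
      split_ifs with ht
      · subst ht
        rw [map_one, (StSL.rel_tv (K := F) (n := 3)).zero (by decide)]
      · rw [hgup, ← hlg]
    have hXc : ∀ {a b : Fin 3}, a ≠ b → ∀ t : F,
        Xc (fun k => μ k) (StSL.tv 0 1 t) a b = StSL.tv a b t := fun {a b} hab t => by
      obtain ⟨e1, e2⟩ := mv_spec (p := (0 : Fin 3)) (q := 1) (by decide) hab
      rw [Xc, μ_tv _ (by decide), e1, e2]
    have hsub : ∀ y, g (sub (V y)) = y := fun y => by
      conv_rhs => rw [← hV y]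
      exact DFunLike.congr_fun (FreeGroup.ext_hom (g.comp sub) (FreeGroup.lift tvv)
        fun e => by
          simp only [MonoidHom.comp_apply, sub, FreeGroup.lift_apply_of, tvv]
          split_ifs with he
          · rw [map_one, StSL.tv, dif_neg (fun h' => h' he)]
          · rw [map_Xc, hgaw]
            simp only [hgψ]
            rw [hXc he]) (V y)
  · -- the relations hold
    have hH : ∀ {a b : Fin 3}, a ≠ b →
        H (fun k => μ k) (AltMono.dg ω 0 2) a b = AltMono.dg ω a b := fun {a b} hab => by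
      obtain ⟨e1, e2⟩ := mv_spec (p := (0 : Fin 3)) (q := 2) (by decide) hab
      rw [H, μ_dg, e1, e2]
    refine List.forall_mem_append.2 ⟨List.forall_mem_append.2 ⟨?_, ?_⟩, ?_⟩
    · intro w hw
      obtain ⟨v, hv, rfl⟩ := List.mem_map.1 hw
      show g (σ v) = 1
      rw [hgσ, hhold v hv, map_one]
    · intro w hw
      obtain ⟨v, hv, rfl⟩ := List.mem_map.1 hw
      have := hhold₀ (SpecialLinearGroup (Fin 3) F) (fun t => StSL.tv 0 1 t)
        (AltMono.dg ω 0 2) ((StSL.rel_tv).add (by decide)) hdg v hv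
      rw [← this]
      exact DFunLike.congr_fun (FreeGroup.ext_hom (g.comp τ) (FreeGroup.lift fun b =>
        cond b (StSL.tv (0 : Fin 3) 1 1) (AltMono.dg ω 0 2))
        fun i => by simp [τ, g, F₀]) v
    · have hrev : μ (swap 0 2) * AltMono.dg ω (0 : Fin 3) 2 * (μ (swap 0 2))⁻¹ =
          (AltMono.dg ω 0 2)⁻¹ := by
        rw [μ_dg, AltMono.dg_inv _ (by decide)]
        simp
      have hc : Commute (AltMono.dg ω (0 : Fin 3) 2 * AltMono.dg ω 1 2) (StSL.tv 0 1 1) := by
        have h1 := hdg ((ω : F)⁻¹)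
        have h2 := AltMono.dg_tv ω (1 : Fin 3) 2 (show (0 : Fin 3) ≠ 1 by decide) (1 : F)
        rw [show AltMono.χ ω (1 : Fin 3) 2 0 / AltMono.χ ω (1 : Fin 3) 2 1 =
          (ω : F)⁻¹ by simp [AltMono.χ], mul_one] at h2
        rw [mul_inv_cancel₀ ω.ne_zero] at h1
        show _ = _
        rw [← mul_inv_eq_iff_eq_mul]
        conv_rhs => rw [← h1, ← h2]
        group
      show ∀ w ∈ R1, g w = 1
      simp only [R1, List.forall_mem_cons, List.not_mem_nil, IsEmpty.forall_iff, implies_true,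
        and_true, map_mul, map_inv, map_commutatorElement, map_H, map_Xc, hgψ, hgU, hgH, hgup,
        mul_inv_eq_one, commutatorElement_eq_one_iff_commute, hsub]
      simp only [hH (show (0 : Fin 3) ≠ 1 by decide), hH (show (1 : Fin 3) ≠ 2 by decide),
        hXc (show (0 : Fin 3) ≠ 2 by decide), hXc (show (2 : Fin 3) ≠ 1 by decide),
        hXc (show (1 : Fin 3) ≠ 2 by decide)]
      have R := StSL.rel_tv (K := F) (n := 3)
      refine ⟨by rw [hrev, inv_mul_cancel],
        (AltMono.dg_mul_dg ω (by decide) (by decide) (by decide)).symm, AltMono.dg_comm _ _ _ _ _,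
        hc, ?_⟩
      repeat' constructor
      all_goals first
        | exact (R.comm (by decide) (by decide) (by decide) (by decide) _ _).eq
        | (rw [R.prod (by decide) (by decide) (by decide), one_mul])
  · -- generation
    rw [← FreeGroup.range_lift_eq_closure, eq_top_iff]
    exact fun y _ => ⟨sub (V y), hsub y⟩

end CfsgLib.Pres.SLThree
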