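import Cfsg.Agent.Lib.Pres.SLWords
import Cfsg.Agent.Lib.Pres.SLThreeWords
import Cfsg.Agent.Lib.Pres.PGLTwo
import Cfsg.Agent.Lib.Pres.SymAll
import Cfsg.Agent.Lib.Pres.IndexTwo

/-!
Bounded presentations of `PSL_n` in any degree.
-/

set_option autoImplicit false

namespace CfsgLib.Pres

open Equiv Matrix

/-- Alternating groups on at least four letters. -/
theorem hasPres_alternating {n : ℕ} (hn : 4 ≤ n) : HasPres (alternatingGroup (Fin n)) 45 := by
  have h : HasPres (Perm (Fin n)) 22 := by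
    rcases eq_or_lt_of_le hn with rfl | h5
    · exact mono (by norm_num) (SLThree.hasPres_perm_succ 3)
    · exact SymAll.hasPres_perm h5
  have hodd : ∃ g : Perm (Fin n), Perm.sign g = -1 :=
    ⟨swap ⟨0, by omega⟩ ⟨1, by omega⟩, Perm.sign_swap (by simp [Fin.ext_iff])⟩
  exact IndexTwo.hasPres_ker h Perm.sign hodd

/-- `SL_n`, `n ≥ 3`. -/
theorem hasPres_sl {F : Type*} [Field F] [Finite F] {n : ℕ} (hn : 3 ≤ n) :
    HasPres (SpecialLinearGroup (Fin n) F) 69 := by
  rcases eq_or_lt_of_le hn with rfl | h4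
  · exact mono (by norm_num) SLThree.hasPres_sl
  · obtain ⟨m, rfl⟩ : ∃ m, n = m + 4 := ⟨n - 4, by omega⟩
    exact SLWords.hasPres_sl (hasPres_alternating (by omega))

/-- `PSL_n`, `n ≥ 2`. -/
theorem hasPres_psl {F : Type*} [Field F] [Finite F] {n : ℕ} (hn : 2 ≤ n) :
    HasPres (ProjectiveSpecialLinearGroup (Fin n) F) 70 := by
  rcases eq_or_lt_of_le hn with rfl | h3
  · exact mono (by norm_num) PGLTwo.hasPres_psl
  · have : IsCyclic (Subgroup.center (SpecialLinearGroup (Fin n) F)) :=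
      isCyclic_of_surjective (SpecialLinearGroup.center_equiv_rootsOfUnity'
        (⟨0, by omega⟩ : Fin n)).symm (MulEquiv.surjective _)
    obtain ⟨z, hz⟩ := (Subgroup.isCyclic_iff_exists_zpowers_eq_top _).1 this
    have : (Subgroup.zpowers z).Normal := hz ▸ inferInstance
    exact of_mulEquiv (QuotientGroup.quotientMulEquivOfEq hz) (quotient (hasPres_sl h3) z)

end CfsgLib.Pres
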