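import Cfsg.Agent.Lib.Pres.FieldSquares
import Cfsg.Agent.Lib.Steinberg.RankOne
import Cfsg.Agent.Lib.StSL.Enum

/-!
The conditions of a short presentation of `SL_3`: one root subgroup, one torus element, one Weyl
element and one element of order three.
-/

set_option autoImplicit false

namespace CfsgLib.Pres.SL3Short

open Matrix
open scoped commutatorElement MatrixGroups

variable {F : Type*} [Field F] {X : Type*} [Group X]

/-- The data and the conditions. -/
structure Data (F : Type*) [Field F] (ω : Fˣ) (X : Type*) [Group X] (E : List F) where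
  a : F → X
  g : X
  n : X
  c : X
  gen : ∀ t : F, t ≠ 0 → ∃ i : ℕ, t = (ω : F) ^ i
  span : ∀ (P : AddSubgroup F), (∀ (i : ℕ), ∀ e ∈ E, ((ω : F) ^ 3) ^ i * e ∈ P) → ∀ t, t ∈ P
  a_add : ∀ t v, a t * a v = a (t + v)
  a_g : ∀ t, g * a t * g⁻¹ = a (ω * t)
  c_three : c * c * c = 1
  c_eq : c * c = n * c * n
  prodT : c⁻¹ * g⁻¹ * c * g⁻¹ * (c * g⁻¹ * c⁻¹) = 1
  tcomm : Commute (c⁻¹ * g⁻¹ * c) g
  n_h : n * (c⁻¹ * g⁻¹ * c) * n⁻¹ = (c⁻¹ * g⁻¹ * c)⁻¹
  h_act : (c⁻¹ * g⁻¹ * c) * a 1 * (c⁻¹ * g⁻¹ * c)⁻¹ = g * g * a 1 * (g * g)⁻¹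
  weyl : n = a 1 * (n * a 1 * n⁻¹) * a 1
  second : ∀ e ∈ E, Commute (c * c * (n * a 1 * n⁻¹) * (c * c)⁻¹) (c * a e * c⁻¹)
  prod : ∀ e ∈ E, ⁅a 1, c * a e * c⁻¹⁆ = c * c * (n * a e * n⁻¹) * (c * c)⁻¹

namespace Data

variable {ω : Fˣ} {E : List F} (D : Data F ω X E)

/-- the torus element of the first pair -/
def h : X := D.c⁻¹ * D.g⁻¹ * D.c

theorem a_zero : D.a 0 = 1 := by
  have := D.a_add 0 0
  rwa [add_zero, mul_eq_left] at this

theorem a_inv (t : F) : (D.a t)⁻¹ = D.a (-t) :=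
  inv_eq_of_mul_eq_one_right (by rw [D.a_add, add_neg_cancel, D.a_zero])

theorem g_pow (i : ℕ) (t : F) : D.g ^ i * D.a t * (D.g ^ i)⁻¹ = D.a ((ω : F) ^ i * t) := by
  induction i generalizing t with
  | zero => simp
  | succ i ih =>
    rw [pow_succ' (ω : F), mul_assoc (ω : F), ← D.a_g, ← ih, pow_succ']
    group

theorem gh : Commute D.g D.h := D.tcomm.symm

theorem h_a (t : F) : D.h * D.a t * D.h⁻¹ = D.a ((ω : F) * ω * t) := by
  rcases eq_or_ne t 0 with rfl | ht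
  · rw [mul_zero, D.a_zero, mul_one, mul_inv_cancel]
  obtain ⟨i, rfl⟩ := D.gen t ht
  have h1 : D.h * D.a 1 * D.h⁻¹ = D.a ((ω : F) * ω) := by
    refine D.h_act.trans ?_
    rw [← pow_two, D.g_pow, mul_one, pow_two]
  have hc : D.h * D.g ^ i = D.g ^ i * D.h := (D.gh.symm.pow_right i).eq
  rw [mul_comm ((ω : F) * ω), ← D.g_pow i, ← h1]
  conv_lhs => rw [← mul_one ((ω : F) ^ i), ← D.g_pow i]
  calc D.h * (D.g ^ i * D.a 1 * (D.g ^ i)⁻¹) * D.h⁻¹
      = (D.h * D.g ^ i) * D.a 1 * (D.h * D.g ^ i)⁻¹ := by group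
    _ = (D.g ^ i * D.h) * D.a 1 * (D.g ^ i * D.h)⁻¹ := by rw [hc]
    _ = _ := by group

/-- conjugation by the element of order three -/
def cc : X →* X := (MulAut.conj D.c).toMonoidHom

/-- conjugation by the Weyl element -/
def nc : X →* X := (MulAut.conj D.n).toMonoidHom

theorem cc_apply (x : X) : D.cc x = D.c * x * D.c⁻¹ := rfl
theorem nc_apply (x : X) : D.nc x = D.n * x * D.n⁻¹ := rfl

theorem cc3 (x : X) : D.cc (D.cc (D.cc x)) = x := by
  simp only [cc_apply]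
  calc D.c * (D.c * (D.c * x * D.c⁻¹) * D.c⁻¹) * D.c⁻¹
      = (D.c * D.c * D.c) * x * (D.c * D.c * D.c)⁻¹ := by group
    _ = x := by rw [D.c_three]; group

theorem cc_h : D.cc D.h = D.g⁻¹ := by
  rw [cc_apply, h]; group

theorem n_c : D.n * D.c = D.c * D.c * D.n⁻¹ := by
  rw [D.c_eq]; group

theorem nc_cc (x : X) : D.nc (D.cc x) = D.cc (D.cc (D.n⁻¹ * x * D.n)) := by
  simp only [nc_apply, cc_apply]
  calc D.n * (D.c * x * D.c⁻¹) * D.n⁻¹
      = (D.n * D.c) * x * (D.n * D.c)⁻¹ := by group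
    _ = (D.c * D.c * D.n⁻¹) * x * (D.c * D.c * D.n⁻¹)⁻¹ := by rw [D.n_c]
    _ = _ := by group

theorem n_hinv : D.n⁻¹ * D.h * D.n = D.h⁻¹ := by
  rw [← _root_.inv_inj, inv_inv]
  have : D.n * D.h * D.n⁻¹ = D.h⁻¹ := D.n_h
  calc (D.n⁻¹ * D.h * D.n)⁻¹ = D.n⁻¹ * D.h⁻¹ * D.n := by group
    _ = D.n⁻¹ * (D.n * D.h * D.n⁻¹) * D.n := by rw [this]
    _ = D.h := by group

theorem g_n : D.g * D.n * D.g⁻¹ = D.h * D.n := by
  have h1 : D.n * D.g⁻¹ * D.n⁻¹ = D.h * D.g⁻¹ := by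
    have := D.nc_cc D.h
    rw [D.cc_h, D.nc_apply, D.n_hinv, map_inv, D.cc_h, map_inv, map_inv, inv_inv] at this
    rw [this]
    have hp : D.h * D.g⁻¹ * (D.c * D.g⁻¹ * D.c⁻¹) = 1 := D.prodT
    rw [eq_inv_of_mul_eq_one_left hp, D.cc_apply]
    group
  have h2 : D.g * D.h = D.h * D.g := D.gh.eq
  calc D.g * D.n * D.g⁻¹ = D.g * (D.n * D.g⁻¹ * D.n⁻¹) * D.n := by group
    _ = D.g * D.h * D.g⁻¹ * D.n := by rw [h1]; group
    _ = D.h * D.n := by rw [h2]; group

theorem gpow_n (i : ℕ) : D.g ^ i * D.n * (D.g ^ i)⁻¹ = D.h ^ i * D.n := by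
  induction i with
  | zero => simp
  | succ i ih =>
    have hc : D.g * D.h ^ i = D.h ^ i * D.g := (D.gh.pow_right i).eq
    calc D.g ^ (i + 1) * D.n * (D.g ^ (i + 1))⁻¹
        = D.g * (D.g ^ i * D.n * (D.g ^ i)⁻¹) * D.g⁻¹ := by rw [pow_succ']; group
      _ = (D.g * D.h ^ i) * D.n * D.g⁻¹ := by rw [ih]; group
      _ = D.h ^ i * (D.g * D.n * D.g⁻¹) := by rw [hc]; group
      _ = _ := by rw [D.g_n, pow_succ, mul_assoc]

theorem weyl_pow (i : ℕ) :
    D.h ^ i * D.n = D.a ((ω : F) ^ i) * (D.n * D.a ((ω : F) ^ i)⁻¹ * D.n⁻¹) * D.a ((ω : F) ^ i) := by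
  have hω := ω.ne_zero
  have hpow : ∀ (i : ℕ) t, D.h ^ i * D.a t * (D.h ^ i)⁻¹ = D.a (((ω : F) * ω) ^ i * t) := by
    intro i
    induction i with
    | zero => simp
    | succ i ih =>
      intro t
      rw [pow_succ' ((ω : F) * ω), mul_assoc ((ω : F) * ω), ← D.h_a, ← ih, pow_succ']
      group
  have hni : ∀ i : ℕ, D.h ^ i * D.n = D.n * (D.h ^ i)⁻¹ := fun i => by
    have e : D.n⁻¹ * D.h ^ i * D.n = (D.h ^ i)⁻¹ := by
      have := @_root_.conj_pow _ _ i (D.n⁻¹) (D.h)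
      rw [inv_inv] at this
      rw [← this, D.n_hinv, inv_pow]
    rw [← e]; group
  have hg := D.g_pow i 1
  rw [mul_one] at hg
  have hmid : (D.h ^ i)⁻¹ * D.a ((ω : F) ^ i) * D.h ^ i = D.a ((ω : F) ^ i)⁻¹ := by
    have := hpow i ((ω : F) ^ i)⁻¹
    rw [mul_pow, mul_assoc ((ω : F) ^ i), mul_inv_cancel₀ (pow_ne_zero _ hω), mul_one] at this
    rw [← this]; group
  rw [← D.gpow_n i]
  conv_lhs => rw [D.weyl]
  calc D.g ^ i * (D.a 1 * (D.n * D.a 1 * D.n⁻¹) * D.a 1) * (D.g ^ i)⁻¹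
      = (D.g ^ i * D.a 1 * (D.g ^ i)⁻¹) *
          ((D.g ^ i * D.n * (D.g ^ i)⁻¹) * (D.g ^ i * D.a 1 * (D.g ^ i)⁻¹) *
            (D.g ^ i * D.n * (D.g ^ i)⁻¹)⁻¹) * (D.g ^ i * D.a 1 * (D.g ^ i)⁻¹) := by group
    _ = D.a ((ω : F) ^ i) * (D.h ^ i * D.n * D.a ((ω : F) ^ i) * (D.h ^ i * D.n)⁻¹) *
          D.a ((ω : F) ^ i) := by rw [hg, D.gpow_n]
    _ = _ := by rw [hni, ← hmid]; group

theorem h_order : D.h ^ orderOf ω = 1 := by
  have := D.weyl_pow (orderOf ω)
  rw [← Units.val_pow_eq_pow_val, pow_orderOf_eq_one, Units.val_one, inv_one, ← D.weyl,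
    mul_eq_right] at this
  exact this

variable [Finite F]

include D in
/-- The subgroup of rank one, with the values of the Weyl element and of the torus. -/
theorem exists_sl2 (hω : ∀ u : Fˣ, ∃ i : ℕ, ω ^ i = u) :
    ∃ φ : SL(2, F) →* X, (∀ t, φ (Steinberg.R1Data.up t) = D.a t) ∧ φ Steinberg.R1Data.wS = D.n ∧
      ∃ k : ℕ, (ω : F) ^ k = -1 ∧ D.n * D.n = (D.h ^ k)⁻¹ := by
  obtain ⟨T, hT⟩ : ∃ T : Fˣ →* X, ∀ i : ℕ, T (ω ^ i) = D.h ^ i := by
    choose lg hlg using hω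
    have key : ∀ i j : ℕ, ω ^ i = ω ^ j → D.h ^ i = D.h ^ j := fun i j e => by
      rw [pow_eq_pow_iff_modEq] at e ⊢
      exact e.of_dvd (orderOf_dvd_of_pow_eq_one D.h_order)
    refine ⟨MonoidHom.mk' (fun u => D.h ^ lg u) fun b u => ?_, fun i => ?_⟩
    · rw [← pow_add]
      exact key _ _ (by rw [hlg, pow_add, hlg, hlg])
    · exact key _ _ (hlg _)
  have hneq : ∀ u : Fˣ, T u * D.n = D.a u * (D.n * D.a (u : F)⁻¹ * D.n⁻¹) * D.a u := fun u => by
    obtain ⟨i, rfl⟩ := hω u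
    rw [hT, Units.val_pow_eq_pow_val]
    exact D.weyl_pow i
  let R : Steinberg.R1Data F X :=
    { x := D.a
      hh := T
      N := D.n
      x_add := D.a_add
      hh_x := fun u t => by
        obtain ⟨i, rfl⟩ := hω u
        rw [hT, Units.val_pow_eq_pow_val]
        induction i generalizing t with
        | zero => simp
        | succ i ih =>
          rw [show (ω : F) ^ (i + 1) * (ω : F) ^ (i + 1) * t =
            (ω : F) * ω * ((ω : F) ^ i * (ω : F) ^ i * t) by ring, ← D.h_a, ← ih, pow_succ']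
          group
      N_hh := fun u => by
        obtain ⟨i, rfl⟩ := hω u
        have hn : D.n * D.h * D.n⁻¹ = D.h⁻¹ := D.n_h
        rw [map_inv, hT, ← _root_.conj_pow, hn, inv_pow]
      n_eq := hneq
      N_sq := by
        have h1 := hneq 1
        have h2 := hneq (-1)
        rw [map_one, one_mul, Units.val_one, inv_one] at h1
        rw [Units.val_neg, Units.val_one, inv_neg_one, ← D.a_inv] at h2
        have h3 : T (-1) * D.n = D.n⁻¹ := by
          rw [h2]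
          conv_rhs => rw [h1]
          group
        rw [eq_mul_inv_iff_mul_eq.2 h3, _root_.mul_inv_rev, inv_inv] }
  obtain ⟨φ, hφ⟩ := R.exists_hom
  have φup : ∀ t, φ (Steinberg.R1Data.up t) = D.a t :=
    fun t => (hφ _ t).1 (Steinberg.R1Data.up_val t)
  refine ⟨φ, φup, ?_, ?_⟩
  · have e : (Steinberg.R1Data.wS : SL(2, F)) =
        Steinberg.R1Data.up 1 * Steinberg.R1Data.dn (-1) * Steinberg.R1Data.up 1 := Subtype.ext (by
      show _ = (Steinberg.R1Data.up (1 : F)).1 * (Steinberg.R1Data.dn (-1 : F)).1 *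
        (Steinberg.R1Data.up (1 : F)).1
      simp only [Steinberg.R1Data.wS_val, Steinberg.R1Data.up_val, Steinberg.R1Data.dn_val]
      ext i j; fin_cases i <;> fin_cases j <;> simp [Matrix.mul_apply, Fin.sum_univ_two])
    rw [e, map_mul, map_mul, φup, (hφ _ _).2 (Steinberg.R1Data.dn_val _), Steinberg.R1Data.y,
      neg_neg]
    exact D.weyl.symm
  · obtain ⟨k, hk⟩ := hω (-1)
    refine ⟨k, by simpa using congrArg Units.val hk, ?_⟩
    have := R.N_sq
    rw [← hk] at this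
    rw [this]
    show (T (ω ^ k))⁻¹ = _
    rw [hT]

/-- all root elements -/
def x (i j : Fin 3) (t : F) : X :=
  if (i, j) = (0, 1) then D.a t
  else if (i, j) = (1, 0) then D.nc (D.a (-t))
  else if (i, j) = (1, 2) then D.cc (D.a t)
  else if (i, j) = (2, 1) then D.cc (D.nc (D.a (-t)))
  else if (i, j) = (2, 0) then D.cc (D.cc (D.a (-t)))
  else if (i, j) = (0, 2) then D.cc (D.cc (D.nc (D.a t)))
  else 1

omit [Finite F]

theorem x01 (t : F) : D.x 0 1 t = D.a t := rfl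
theorem x10 (t : F) : D.x 1 0 t = D.nc (D.a (-t)) := rfl
theorem x12 (t : F) : D.x 1 2 t = D.cc (D.a t) := rfl
theorem x21 (t : F) : D.x 2 1 t = D.cc (D.nc (D.a (-t))) := rfl
theorem x20 (t : F) : D.x 2 0 t = D.cc (D.cc (D.a (-t))) := rfl
theorem x02 (t : F) : D.x 0 2 t = D.cc (D.cc (D.nc (D.a t))) := rfl

theorem x_add {i j : Fin 3} (hij : i ≠ j) (t v : F) :
    D.x i j t * D.x i j v = D.x i j (t + v) := by
  fin_cases i <;> fin_cases j <;> first | exact absurd rfl hij | skip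
  all_goals simp [x, ← map_mul, D.a_add, neg_add, add_comm]

theorem x_zero {i j : Fin 3} (hij : i ≠ j) : D.x i j 0 = 1 := by
  have := D.x_add hij 0 0
  rwa [add_zero, mul_eq_left] at this

theorem x_inv {i j : Fin 3} (hij : i ≠ j) (t : F) : (D.x i j t)⁻¹ = D.x i j (-t) :=
  inv_eq_of_mul_eq_one_right (by rw [D.x_add hij, add_neg_cancel, D.x_zero hij])

/-- the symmetry of order three on the indices -/
def σ : Fin 3 → Fin 3 := ![1, 2, 0]

/-- its signs -/
def sg : Fin 3 → F := ![-1, -1, 1]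

theorem cc_x {i j : Fin 3} (hij : i ≠ j) (t : F) :
    D.cc (D.x i j t) = D.x (σ i) (σ j) (sg i * sg j * t) := by
  fin_cases i <;> fin_cases j <;> first | exact absurd rfl hij | skip
  all_goals simp [x, σ, sg, D.cc3]

/-- Action of an element on a root subgroup. -/
def Act (z : X) (i j : Fin 3) (k : F) : Prop := ∀ t, z * D.x i j t * z⁻¹ = D.x i j (k * t)

theorem act_mul {y z : X} {i j : Fin 3} {k l : F} (h1 : D.Act y i j k) (h2 : D.Act z i j l) :
    D.Act (y * z) i j (k * l) := fun t => by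
  rw [mul_assoc k, ← h1, ← h2]; group

theorem act_inv {z : X} {i j : Fin 3} {k : F} (hk : k ≠ 0) (h1 : D.Act z i j k) :
    D.Act z⁻¹ i j k⁻¹ := fun t => by
  have := h1 (k⁻¹ * t)
  rw [← mul_assoc, mul_inv_cancel₀ hk, one_mul] at this
  rw [← this]; group

theorem act_cc {z : X} {i j : Fin 3} (hij : i ≠ j) {k : F} (h1 : D.Act z i j k) :
    D.Act (D.cc z) (σ i) (σ j) k := fun t => by
  have hs : ∀ i, (sg i : F) * sg i = 1 := fun i => by fin_cases i <;> simp [sg]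
  have := congrArg D.cc (h1 (sg i * sg j * t))
  rw [map_mul, map_mul, map_inv, D.cc_x hij, D.cc_x hij] at this
  rw [show sg i * sg j * (sg i * sg j * t) = t by
      linear_combination (sg i * sg i * t) * hs j + t * hs i,
    show sg i * sg j * (k * (sg i * sg j * t)) = k * t by
      linear_combination (sg i * sg i * k * t) * hs j + (k * t) * hs i] at this
  exact this

theorem act_h01 : D.Act D.h 0 1 ((ω : F) * ω) := fun t => D.h_a t

theorem act_g01 : D.Act D.g 0 1 (ω : F) := fun t => D.a_g t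

theorem act_g10 : D.Act D.g 1 0 ((ω : F)⁻¹) := fun t => by
  have hω := ω.ne_zero
  have e1 := D.h_a ((ω : F)⁻¹ * -t)
  rw [show (ω : F) * ω * ((ω : F)⁻¹ * -t) = (ω : F) * -t by field_simp] at e1
  rw [x10, x10, nc_apply, nc_apply, show -((ω : F)⁻¹ * t) = (ω : F)⁻¹ * -t by ring]
  have hn : D.h * D.n = D.n * D.h⁻¹ := by
    rw [← D.n_hinv]; group
  calc D.g * (D.n * D.a (-t) * D.n⁻¹) * D.g⁻¹
      = (D.g * D.n * D.g⁻¹) * (D.g * D.a (-t) * D.g⁻¹) * (D.g * D.n * D.g⁻¹)⁻¹ := by group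
    _ = (D.h * D.n) * D.a ((ω : F) * -t) * (D.h * D.n)⁻¹ := by rw [D.g_n, D.a_g]
    _ = (D.n * D.h⁻¹) * (D.h * D.a ((ω : F)⁻¹ * -t) * D.h⁻¹) * (D.n * D.h⁻¹)⁻¹ := by rw [hn, e1]
    _ = _ := by group

theorem act_h10 : D.Act D.h 1 0 (((ω : F) * ω)⁻¹) := fun t => by
  have hω := ω.ne_zero
  rw [x10, x10, nc_apply, nc_apply,
    show -(((ω : F) * ω)⁻¹ * t) = ((ω : F) * ω)⁻¹ * -t by ring]
  have e : D.h⁻¹ * D.a (-t) * D.h = D.a (((ω : F) * ω)⁻¹ * -t) := by
    have := D.h_a (((ω : F) * ω)⁻¹ * -t)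
    rw [← mul_assoc ((ω : F) * ω), mul_inv_cancel₀ (mul_ne_zero hω hω), one_mul] at this
    rw [← this]; group
  have hn : D.h * D.n = D.n * D.h⁻¹ := by
    rw [← D.n_hinv]; group
  rw [← e]
  calc D.h * (D.n * D.a (-t) * D.n⁻¹) * D.h⁻¹
      = (D.h * D.n) * D.a (-t) * (D.h * D.n)⁻¹ := by group
    _ = _ := by rw [hn]; group

theorem cc_g : D.cc D.g = D.h * D.g⁻¹ := by
  rw [← _root_.inv_inj]
  have : D.h * D.g⁻¹ * (D.c * D.g⁻¹ * D.c⁻¹) = 1 := D.prodT
  rw [← map_inv, D.cc_apply]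
  exact eq_inv_of_mul_eq_one_right this

theorem cc_ginv : D.cc D.g⁻¹ = (D.h * D.g⁻¹)⁻¹ := by rw [map_inv, cc_g]

/-- The actions of the torus on the six root subgroups. -/
theorem act_h12 : D.Act D.h 1 2 ((ω : F)⁻¹) := by
  have hω := ω.ne_zero
  -- the element mapped to `h` by the rotation
  have e : D.cc (D.h * D.g⁻¹)⁻¹ = D.h := by
    rw [← cc_ginv, ← cc_h, D.cc3]
  have := D.act_cc (i := 0) (j := 1) (by decide)
    (D.act_inv (by simp) (D.act_mul D.act_h01 (D.act_inv hω D.act_g01)))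
  rw [e] at this
  intro t
  rw [show (σ (0 : Fin 3)) = 1 from rfl, show (σ (1 : Fin 3)) = 2 from rfl] at this
  rw [this t]
  congr 1
  field_simp

theorem act_g12 : D.Act D.g 1 2 (((ω : F) * ω)⁻¹) := by
  have hω := ω.ne_zero
  have e : D.cc D.h⁻¹ = D.g := by rw [map_inv, cc_h, inv_inv]
  have := D.act_cc (i := 0) (j := 1) (by decide) (D.act_inv (by simp) D.act_h01)
  rw [e] at this
  exact this

theorem act_h02 : D.Act D.h 0 2 (ω : F) := by
  have hω := ω.ne_zero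
  have e : D.cc (D.cc D.g⁻¹) = D.h := by rw [← cc_h, D.cc3]
  have := D.act_cc (i := 2) (j := 1) (by decide)
    (D.act_cc (i := 1) (j := 0) (by decide) (D.act_inv (inv_ne_zero hω) D.act_g10))
  rw [e] at this
  intro t
  rw [show σ (2 : Fin 3) = 0 from rfl, show σ (1 : Fin 3) = 2 from rfl] at this
  rw [this t, inv_inv]

theorem act_g02 : D.Act D.g 0 2 ((ω : F)⁻¹) := by
  have hω := ω.ne_zero
  -- the rotation applied twice
  have e : D.cc (D.cc (D.h * D.g⁻¹)) = D.g := by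
    rw [← cc_g, D.cc3]
  have := D.act_cc (i := 2) (j := 1) (by decide)
    (D.act_cc (i := 1) (j := 0) (by decide) (D.act_mul D.act_h10 (D.act_inv (by simp) D.act_g10)))
  rw [e] at this
  intro t
  rw [show σ (2 : Fin 3) = 0 from rfl, show σ (1 : Fin 3) = 2 from rfl] at this
  rw [this t]
  congr 1
  field_simp

include D in
/-- Two-variable spreading. -/
theorem spread {Q : F → F → Prop} (h0 : ∀ e ∈ E, Q 1 e)
    (hadd : ∀ v v', Q 1 v → Q 1 v' → Q 1 (v + v')) (hneg : ∀ v, Q 1 v → Q 1 (-v))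
    (hs : ∀ v, Q 1 v → Q 1 ((ω : F) ^ 3 * v)) {k : F} (hk : k ≠ 0)
    (ht : ∀ t v, Q t v → Q (ω * t) (k * v)) (z0 : ∀ v, Q 0 v) (z1 : Q 1 0) (t v : F) : Q t v := by
  let P : AddSubgroup F :=
    { carrier := {v | Q 1 v}, zero_mem' := z1, add_mem' := fun {_ _} a b => hadd _ _ a b,
      neg_mem' := fun {_} a => hneg _ a }
  have hall : ∀ v, Q 1 v := D.span P fun i e he => by
    induction i with
    | zero => simpa [P] using h0 e he
    | succ i ih =>
      show Q 1 _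
      rw [pow_succ', mul_assoc]
      exact hs _ ih
  rcases eq_or_ne t 0 with rfl | ht0
  · exact z0 v
  obtain ⟨i, rfl⟩ := D.gen t ht0
  clear ht0
  induction i generalizing v with
  | zero => simpa using hall v
  | succ i ih =>
    have := ht _ _ (ih (k⁻¹ * v))
    rwa [← mul_assoc k, mul_inv_cancel₀ hk, one_mul, ← pow_succ'] at this

theorem second_all (t v : F) : Commute (D.x 0 2 t) (D.x 1 2 v) := by
  have hω := ω.ne_zero
  have h0 : ∀ e ∈ E, Commute (D.x 0 2 1) (D.x 1 2 e) := fun e he => by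
    have := D.second e he
    rw [x02, x12]
    simp only [cc_apply, nc_apply]
    convert this using 1
    group
  refine D.spread (Q := fun t v => Commute (D.x 0 2 t) (D.x 1 2 v)) h0 (fun v v' a b => ?_)
    (fun v a => ?_) (fun v a => ?_) (k := (ω : F)⁻¹) (inv_ne_zero hω) (fun t v a => ?_)
    (fun v => ?_) ?_ t v
  · rw [← D.x_add (by decide)]; exact a.mul_right b
  · rw [← D.x_inv (by decide)]; exact a.inv_right
  · have e1 := D.act_mul (D.act_inv (inv_ne_zero hω) D.act_g02) (D.act_inv hω D.act_h02) 1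
    have e2 := D.act_mul (D.act_inv (by simp) D.act_g12) (D.act_inv (by simp) D.act_h12) v
    have := a.map (MulAut.conj (D.g⁻¹ * D.h⁻¹)).toMonoidHom
    simp only [MulEquiv.coe_toMonoidHom, MulAut.conj_apply, e1, e2] at this
    rw [show ((ω : F)⁻¹)⁻¹ * (ω : F)⁻¹ * 1 = 1 by field_simp,
      show ((ω : F) * ω)⁻¹⁻¹ * (ω : F)⁻¹⁻¹ * v = (ω : F) ^ 3 * v by
      rw [inv_inv, inv_inv]; ring] at this
    exact this
  · have := a.map (MulAut.conj D.h).toMonoidHom
    simpa only [MulEquiv.coe_toMonoidHom, MulAut.conj_apply, D.act_h02 t, D.act_h12 v] using this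
  · rw [D.x_zero (by decide)]; exact Commute.one_left _
  · rw [D.x_zero (by decide)]; exact Commute.one_right _

theorem prod_all (t v : F) : ⁅D.x 0 1 t, D.x 1 2 v⁆ = D.x 0 2 (t * v) := by
  have hω := ω.ne_zero
  have h0 : ∀ e ∈ E, ⁅D.x 0 1 1, D.x 1 2 e⁆ = D.x 0 2 (1 * e) := fun e he => by
    rw [x01, x12, x02, one_mul]
    simp only [cc_apply, nc_apply]
    rw [D.prod e he]
    group
  refine D.spread (Q := fun t v => ⁅D.x 0 1 t, D.x 1 2 v⁆ = D.x 0 2 (t * v)) h0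
    (fun v v' a b => ?_) (fun v a => ?_) (fun v a => ?_) (k := ((ω : F) * ω)⁻¹)
    (by simp) (fun t v a => ?_) (fun v => ?_) ?_ t v
  · have hc : Commute (D.x 1 2 v) (D.x 0 2 (1 * v')) := (D.second_all _ _).symm
    rw [← D.x_add (by decide) v v', commutatorElement_def] at *
    calc D.x 0 1 1 * (D.x 1 2 v * D.x 1 2 v') * (D.x 0 1 1)⁻¹ * (D.x 1 2 v * D.x 1 2 v')⁻¹
        = (D.x 0 1 1 * D.x 1 2 v * (D.x 0 1 1)⁻¹ * (D.x 1 2 v)⁻¹) * (D.x 1 2 v *
            (D.x 0 1 1 * D.x 1 2 v' * (D.x 0 1 1)⁻¹ * (D.x 1 2 v')⁻¹) * (D.x 1 2 v)⁻¹) := by group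
      _ = D.x 0 2 (1 * v) * (D.x 1 2 v * D.x 0 2 (1 * v') * (D.x 1 2 v)⁻¹) := by rw [a, b]
      _ = _ := by
        rw [hc.eq, mul_inv_cancel_right, D.x_add (by decide), mul_add]
  · have hc : Commute (D.x 1 2 (-v)) (D.x 0 2 (1 * v)) := (D.second_all _ _).symm
    rw [commutatorElement_def] at *
    have key : D.x 0 1 1 * D.x 1 2 v * (D.x 0 1 1)⁻¹ = D.x 0 2 (1 * v) * D.x 1 2 v := by
      rw [← a]; group
    calc D.x 0 1 1 * D.x 1 2 (-v) * (D.x 0 1 1)⁻¹ * (D.x 1 2 (-v))⁻¹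
        = (D.x 0 1 1 * D.x 1 2 v * (D.x 0 1 1)⁻¹)⁻¹ * D.x 1 2 v := by
          rw [← D.x_inv (by decide)]; group
      _ = D.x 1 2 (-v) * (D.x 0 2 (1 * v))⁻¹ * D.x 1 2 v := by
          rw [key, _root_.mul_inv_rev, D.x_inv (by decide) v]
      _ = _ := by
          rw [hc.inv_right.eq, mul_assoc, D.x_add (by decide), neg_add_cancel,
            D.x_zero (by decide), mul_one, D.x_inv (by decide), mul_neg]
  · have := congrArg (MulAut.conj (D.g⁻¹ * D.g⁻¹ * D.h)) a
    rw [map_commutatorElement] at this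
    simp only [MulAut.conj_apply] at this
    have e1 := D.act_mul (D.act_mul (D.act_inv hω D.act_g01) (D.act_inv hω D.act_g01)) D.act_h01 1
    have e2 := D.act_mul (D.act_mul (D.act_inv (by simp) D.act_g12)
      (D.act_inv (by simp) D.act_g12)) D.act_h12 v
    have e3 := D.act_mul (D.act_mul (D.act_inv (by simp) D.act_g02)
      (D.act_inv (by simp) D.act_g02)) D.act_h02 (1 * v)
    rw [e1, e2, e3,
      show (ω : F)⁻¹ * (ω : F)⁻¹ * ((ω : F) * ω) * 1 = 1 by field_simp,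
      show ((ω : F) * ω)⁻¹⁻¹ * ((ω : F) * ω)⁻¹⁻¹ * (ω : F)⁻¹ * v = (ω : F) ^ 3 * v by field_simp,
      show (ω : F)⁻¹⁻¹ * (ω : F)⁻¹⁻¹ * (ω : F) * (1 * v) = 1 * ((ω : F) ^ 3 * v) by
        simp only [inv_inv]; ring] at this
    exact this
  · have := congrArg (MulAut.conj D.g) a
    rw [map_commutatorElement] at this
    simp only [MulAut.conj_apply] at this
    rw [D.act_g01 t, D.act_g12 v, D.act_g02 (t * v)] at this
    rw [this]
    congr 1
    field_simp
  · rw [D.x_zero (by decide), zero_mul, D.x_zero (by decide), commutatorElement_one_left]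
  · rw [D.x_zero (by decide), mul_zero, D.x_zero (by decide), commutatorElement_one_right]

theorem act_h21 : D.Act D.h 2 1 (ω : F) := by
  have hω := ω.ne_zero
  have e : D.cc (D.h * D.g⁻¹)⁻¹ = D.h := by
    rw [← cc_ginv, ← cc_h, D.cc3]
  have := D.act_cc (i := 1) (j := 0) (by decide)
    (D.act_inv (by simp) (D.act_mul D.act_h10 (D.act_inv (inv_ne_zero hω) D.act_g10)))
  rw [e] at this
  intro t
  rw [show σ (1 : Fin 3) = 2 from rfl, show σ (0 : Fin 3) = 1 from rfl] at this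
  rw [this t]
  congr 1
  field_simp

theorem nn_a (k : ℕ) (hk : (ω : F) ^ k = -1) (hnn : D.n * D.n = (D.h ^ k)⁻¹) (t : F) :
    D.n⁻¹ * D.a t * D.n = D.nc (D.a t) := by
  have hp : ∀ i : ℕ, ∀ t, D.h ^ i * D.a t * (D.h ^ i)⁻¹ = D.a (((ω : F) * ω) ^ i * t) := by
    intro i
    induction i with
    | zero => simp
    | succ i ih =>
      intro t
      rw [pow_succ' ((ω : F) * ω), mul_assoc ((ω : F) * ω), ← D.h_a, ← ih, pow_succ']
      group
  have e := hp k t
  rw [mul_pow, hk, neg_mul_neg, one_mul, one_mul] at e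
  rw [show D.h ^ k = (D.n * D.n)⁻¹ by rw [hnn, inv_inv]] at e
  rw [nc_apply]
  calc D.n⁻¹ * D.a t * D.n = D.n * ((D.n * D.n)⁻¹ * D.a t * (D.n * D.n)⁻¹⁻¹) * D.n⁻¹ := by group
    _ = _ := by rw [e]

theorem nc_x12 (k : ℕ) (hk : (ω : F) ^ k = -1) (hnn : D.n * D.n = (D.h ^ k)⁻¹) (t : F) :
    D.nc (D.x 1 2 t) = D.x 0 2 t := by
  rw [x12, D.nc_cc, D.nn_a k hk hnn, x02]

theorem nc_x21 (t : F) : D.nc (D.x 2 1 t) = D.x 2 0 t := by
  rw [x21, D.nc_cc, x20]
  congr 2
  rw [nc_apply]; group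

theorem nc_x02 (k : ℕ) (hk : (ω : F) ^ k = -1) (hnn : D.n * D.n = (D.h ^ k)⁻¹) (t : F) :
    D.nc (D.x 0 2 t) = D.x 1 2 (-t) := by
  have hp : ∀ i : ℕ, D.Act (D.h ^ i) 2 1 ((ω : F) ^ i) := by
    intro i
    induction i with
    | zero => intro t; simp
    | succ i ih => rw [pow_succ, pow_succ]; exact D.act_mul ih D.act_h21
  have e := hp k (-t)
  rw [hk, neg_mul_neg, one_mul, show D.h ^ k = (D.n * D.n)⁻¹ by rw [hnn, inv_inv]] at e
  have e1 : D.n⁻¹ * D.x 2 1 (-t) * D.n = D.nc (D.x 2 1 t) := by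
    rw [nc_apply, ← e]; group
  rw [show D.x 0 2 t = D.cc (D.x 2 1 (-t)) by rw [x02, x21, neg_neg], D.nc_cc, e1, D.nc_x21,
    D.cc_x (by decide), D.cc_x (by decide)]
  simp [σ, sg]

theorem second_cases {i j l : Fin 3} (h : i ≠ j) (h' : j ≠ l) (hl : i ≠ l) (t v : F) :
    Commute (D.x i l t) (D.x j l v) := by
  have s0 : ∀ t v, Commute (D.x 0 2 t) (D.x 1 2 v) := D.second_all
  have s1 : ∀ t v, Commute (D.x 1 0 t) (D.x 2 0 v) := fun t v => by
    have := (s0 (-t) (-v)).map D.cc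
    rw [D.cc_x (by decide), D.cc_x (by decide)] at this
    simpa [σ, sg] using this
  have s2 : ∀ t v, Commute (D.x 2 1 t) (D.x 0 1 v) := fun t v => by
    have := (s1 t (-v)).map D.cc
    rw [D.cc_x (by decide), D.cc_x (by decide)] at this
    simpa [σ, sg] using this
  fin_cases i <;> fin_cases j <;> fin_cases l <;>
    first
    | exact absurd rfl h
    | exact absurd rfl h'
    | exact absurd rfl hl
    | exact s0 t v
    | exact (s0 v t).symm
    | exact s1 t v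
    | exact (s1 v t).symm
    | exact s2 t v
    | exact (s2 v t).symm

theorem first_cases {i j l : Fin 3} (h : i ≠ j) (h' : j ≠ l) (hl : i ≠ l) (t v : F) :
    Commute (D.x i j t) (D.x i l v) := by
  have f0 : ∀ t v, Commute (D.x 0 1 t) (D.x 0 2 v) := fun t v => by
    have e1 := D.prod_all t 1
    have e2 := D.prod_all v 1
    have e3 := D.prod_all (t + v) 1
    rw [mul_one] at e1 e2 e3
    rw [← D.x_add (by decide), ← D.x_add (by decide)] at e3
    have : D.x 0 1 t * D.x 0 2 v * (D.x 0 1 t)⁻¹ * D.x 0 2 t = D.x 0 2 t * D.x 0 2 v := by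
      rw [← e3, ← e2]
      conv_lhs => rw [← e1]
      simp only [commutatorElement_def]
      group
    rw [D.x_add (by decide) t v, add_comm, ← D.x_add (by decide), mul_left_inj,
      mul_inv_eq_iff_eq_mul] at this
    exact this
  have f1 : ∀ t v, Commute (D.x 1 2 t) (D.x 1 0 v) := fun t v => by
    have := (f0 t (-v)).map D.cc
    rw [D.cc_x (by decide), D.cc_x (by decide)] at this
    simpa [σ, sg] using this
  have f2 : ∀ t v, Commute (D.x 2 0 t) (D.x 2 1 v) := fun t v => by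
    have := (f1 (-t) v).map D.cc
    rw [D.cc_x (by decide), D.cc_x (by decide)] at this
    simpa [σ, sg] using this
  fin_cases i <;> fin_cases j <;> fin_cases l <;>
    first
    | exact absurd rfl h
    | exact absurd rfl h'
    | exact absurd rfl hl
    | exact f0 t v
    | exact (f0 v t).symm
    | exact f1 t v
    | exact (f1 v t).symm
    | exact f2 t v
    | exact (f2 v t).symm

theorem rel (k : ℕ) (hk : (ω : F) ^ k = -1) (hnn : D.n * D.n = (D.h ^ k)⁻¹) : StSL.Rel D.x where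
  add h t u := D.x_add h t u
  comm {i j k l} h h' hil hjk t v := by
    rcases eq_or_ne i k with rfl | hik
    · rcases eq_or_ne j l with rfl | hjl
      · show _ = _
        rw [D.x_add h, D.x_add h, add_comm]
      · exact D.first_cases h hjl h' t v
    · rcases eq_or_ne j l with rfl | hjl
      · exact D.second_cases hik h' h t v
      · omega
  prod {i j l} h h' hl t v := by
    have p0 : ∀ t v, ⁅D.x 0 1 t, D.x 1 2 v⁆ = D.x 0 2 (t * v) := D.prod_all
    have p1 : ∀ t v, ⁅D.x 1 2 t, D.x 2 0 v⁆ = D.x 1 0 (t * v) := fun t v => by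
      have := congrArg D.cc (p0 t (-v))
      rw [map_commutatorElement, D.cc_x (by decide), D.cc_x (by decide), D.cc_x (by decide)] at this
      simpa [σ, sg] using this
    have p2 : ∀ t v, ⁅D.x 2 0 t, D.x 0 1 v⁆ = D.x 2 1 (t * v) := fun t v => by
      have := congrArg D.cc (p1 (-t) (-v))
      rw [map_commutatorElement, D.cc_x (by decide), D.cc_x (by decide), D.cc_x (by decide)] at this
      simpa [σ, sg] using this
    have q0 : ∀ t v, ⁅D.x 1 0 t, D.x 0 2 v⁆ = D.x 1 2 (t * v) := fun t v => by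
      have := congrArg D.nc (p0 (-t) v)
      rw [map_commutatorElement, D.nc_x12 k hk hnn, D.nc_x02 k hk hnn, x01,
        show D.nc (D.a (-t)) = D.x 1 0 t from rfl] at this
      rw [this]
      congr 1
      ring
    have q1 : ∀ t v, ⁅D.x 2 1 t, D.x 1 0 v⁆ = D.x 2 0 (t * v) := fun t v => by
      have := congrArg D.cc (q0 t (-v))
      rw [map_commutatorElement, D.cc_x (by decide), D.cc_x (by decide), D.cc_x (by decide)] at this
      simpa [σ, sg] using this
    have q2 : ∀ t v, ⁅D.x 0 2 t, D.x 2 1 v⁆ = D.x 0 1 (t * v) := fun t v => by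
      have := congrArg D.cc (q1 (-t) v)
      rw [map_commutatorElement, D.cc_x (by decide), D.cc_x (by decide), D.cc_x (by decide)] at this
      simpa [σ, sg] using this
    fin_cases i <;> fin_cases j <;> fin_cases l <;>
      first
      | exact absurd rfl h
      | exact absurd rfl h'
      | exact absurd rfl hl
      | exact p0 t v
      | exact p1 t v
      | exact p2 t v
      | exact q0 t v
      | exact q1 t v
      | exact q2 t v

end Data

/-- The Weyl element of the first pair. -/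
def Nm : SpecialLinearGroup (Fin 3) F := StSL.tv 0 1 1 * StSL.tv 1 0 (-1) * StSL.tv 0 1 1

/-- The element of order three. -/
def Cm : SpecialLinearGroup (Fin 3) F :=
  Nm * (StSL.tv 1 2 1 * StSL.tv 2 1 (-1) * StSL.tv 1 2 1)

/-- The torus element of the first pair. -/
def Hm (ω : Fˣ) : SpecialLinearGroup (Fin 3) F :=
  StSL.tv 0 1 (ω : F) * StSL.tv 1 0 (-(ω : F)⁻¹) * StSL.tv 0 1 (ω : F) * Nm⁻¹

/-- The torus element acting on the first root subgroup by the generator. -/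
def Gm (ω : Fˣ) : SpecialLinearGroup (Fin 3) F := (Cm * Hm ω * Cm⁻¹)⁻¹

namespace Data

variable {ω : Fˣ} {E : List F} (D : Data F ω X E)

/-- The homomorphism. -/
theorem exists_hom [Finite F] (hω : ∀ u : Fˣ, ∃ i : ℕ, ω ^ i = u) :
    ∃ φ : SpecialLinearGroup (Fin 3) F →* X, φ (StSL.tv 0 1 1) = D.a 1 ∧ φ (Gm ω) = D.g ∧
      φ Nm = D.n ∧ φ Cm = D.c := by
  obtain ⟨-, -, -, k, hk, hnn⟩ := D.exists_sl2 hω
  obtain ⟨φ, hφ⟩ := StSL.exists_hom le_rfl (D.rel k hk hnn)
  have hN : φ Nm = D.n := by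
    rw [Nm, map_mul, map_mul, hφ _ _ (by decide), hφ _ _ (by decide), x01, x10, neg_neg, nc_apply]
    exact D.weyl.symm
  have hC : φ Cm = D.c := by
    rw [Cm, map_mul, hN, map_mul, map_mul, hφ _ _ (by decide), hφ _ _ (by decide), x12, x21,
      neg_neg, ← map_mul, ← map_mul, nc_apply, ← D.weyl, cc_apply]
    calc D.n * (D.c * D.n * D.c⁻¹) = (D.n * D.c * D.n) * D.c⁻¹ := by group
      _ = D.c * D.c * D.c⁻¹ := by rw [D.c_eq]
      _ = D.c := by group
  have hH : φ (Hm ω) = D.h := by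
    have e := D.weyl_pow 1
    rw [pow_one, pow_one] at e
    rw [Hm, map_mul, map_inv, hN, map_mul, map_mul, hφ _ _ (by decide), hφ _ _ (by decide), x01,
      x10, neg_neg, nc_apply, ← e, mul_inv_cancel_right]
  refine ⟨φ, hφ _ _ (by decide) 1, ?_, hN, hC⟩
  rw [Gm, map_inv, map_mul, map_mul, map_inv, hC, hH, ← cc_apply, cc_h, inv_inv]

end Data

end CfsgLib.Pres.SL3Short
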