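import Cfsg.Agent.Lib.Pres.SL3Short
import Cfsg.Agent.Lib.Pres.AltMonomial
import Cfsg.Agent.Lib.Pres.OnGens
import Cfsg.Agent.Lib.Pres.FieldAdd

/-!
`SL_3` over a finite field has a presentation with four generators and fourteen relations.
-/

set_option autoImplicit false

namespace CfsgLib.Pres.SL3Short

open Matrix
open scoped commutatorElement

variable {F : Type*} [Field F]

theorem Nm_val : (Nm (F := F)).1 = !![0, 1, 0; -1, 0, 0; 0, 0, 1] := by
  show (StSL.tv 0 1 (1 : F)).1 * (StSL.tv 1 0 (-1 : F)).1 * (StSL.tv 0 1 (1 : F)).1 = _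
  rw [StSL.tv_coe (by decide), StSL.tv_coe (by decide)]
  ext i j; fin_cases i <;> fin_cases j <;>
    simp [Matrix.transvection, Matrix.mul_apply, Fin.sum_univ_three, Matrix.single_apply,
      Matrix.one_apply]

theorem Cm_val : (Cm (F := F)).1 = !![0, 0, 1; -1, 0, 0; 0, -1, 0] := by
  show (Nm (F := F)).1 * ((StSL.tv 1 2 (1 : F)).1 * (StSL.tv 2 1 (-1 : F)).1 *
    (StSL.tv 1 2 (1 : F)).1) = _
  rw [Nm_val, StSL.tv_coe (by decide), StSL.tv_coe (by decide)]
  ext i j; fin_cases i <;> fin_cases j <;>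
    simp [Matrix.transvection, Matrix.mul_apply, Fin.sum_univ_three, Matrix.single_apply,
      Matrix.one_apply]

theorem dg_val (ω : Fˣ) (a b : Fin 3) :
    (AltMono.dg ω a b).1 = diagonal (AltMono.χ ω a b) := rfl

theorem Hm_eq (ω : Fˣ) : Hm ω = AltMono.dg ω 0 1 := by
  rw [Hm, mul_inv_eq_iff_eq_mul]
  refine Subtype.ext ?_
  show (StSL.tv 0 1 (ω : F)).1 * (StSL.tv 1 0 (-(ω : F)⁻¹)).1 * (StSL.tv 0 1 (ω : F)).1 =
    (AltMono.dg ω 0 1).1 * (Nm (F := F)).1
  have := ω.ne_zero
  rw [Nm_val, dg_val, StSL.tv_coe (by decide), StSL.tv_coe (by decide)]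
  ext i j; fin_cases i <;> fin_cases j <;>
    simp [Matrix.transvection, Matrix.mul_apply, Fin.sum_univ_three, Matrix.single_apply,
      Matrix.one_apply, AltMono.χ, this]

theorem Cm_dg01 (ω : Fˣ) : Cm * AltMono.dg ω 0 1 * Cm⁻¹ = AltMono.dg ω 1 2 := by
  rw [mul_inv_eq_iff_eq_mul]
  refine Subtype.ext ?_
  show (Cm (F := F)).1 * (AltMono.dg ω 0 1).1 = (AltMono.dg ω 1 2).1 * (Cm (F := F)).1
  rw [Cm_val, dg_val, dg_val]
  ext i j; fin_cases i <;> fin_cases j <;>
    simp [Matrix.mul_apply, Fin.sum_univ_three, AltMono.χ]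

theorem Cm_dg12 (ω : Fˣ) : Cm * AltMono.dg ω 1 2 * Cm⁻¹ = AltMono.dg ω 2 0 := by
  rw [mul_inv_eq_iff_eq_mul]
  refine Subtype.ext ?_
  show (Cm (F := F)).1 * (AltMono.dg ω 1 2).1 = (AltMono.dg ω 2 0).1 * (Cm (F := F)).1
  rw [Cm_val, dg_val, dg_val]
  ext i j; fin_cases i <;> fin_cases j <;>
    simp [Matrix.mul_apply, Fin.sum_univ_three, AltMono.χ]

theorem Nm_dg01 (ω : Fˣ) : Nm * AltMono.dg ω 0 1 * Nm⁻¹ = AltMono.dg ω 1 0 := by
  rw [mul_inv_eq_iff_eq_mul]
  refine Subtype.ext ?_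
  show (Nm (F := F)).1 * (AltMono.dg ω 0 1).1 = (AltMono.dg ω 1 0).1 * (Nm (F := F)).1
  rw [Nm_val, dg_val, dg_val]
  ext i j; fin_cases i <;> fin_cases j <;>
    simp [Matrix.mul_apply, Fin.sum_univ_three, AltMono.χ]

theorem Gm_eq (ω : Fˣ) : Gm ω = AltMono.dg ω 2 1 := by
  rw [Gm, Hm_eq, Cm_dg01, AltMono.dg_inv _ (by decide)]

theorem Nm_tv (t : F) : Nm * StSL.tv 0 1 t * Nm⁻¹ = StSL.tv 1 0 (-t) := by
  rw [mul_inv_eq_iff_eq_mul]
  refine Subtype.ext ?_
  show (Nm (F := F)).1 * (StSL.tv 0 1 t).1 = (StSL.tv 1 0 (-t)).1 * (Nm (F := F)).1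
  rw [Nm_val, StSL.tv_coe (by decide), StSL.tv_coe (by decide)]
  ext i j; fin_cases i <;> fin_cases j <;>
    simp [Matrix.transvection, Matrix.mul_apply, Fin.sum_univ_three, Matrix.single_apply,
      Matrix.one_apply]

theorem Cm_tv01 (t : F) : Cm * StSL.tv 0 1 t * Cm⁻¹ = StSL.tv 1 2 t := by
  rw [mul_inv_eq_iff_eq_mul]
  refine Subtype.ext ?_
  show (Cm (F := F)).1 * (StSL.tv 0 1 t).1 = (StSL.tv 1 2 t).1 * (Cm (F := F)).1
  rw [Cm_val, StSL.tv_coe (by decide), StSL.tv_coe (by decide)]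
  ext i j; fin_cases i <;> fin_cases j <;>
    simp [Matrix.transvection, Matrix.mul_apply, Fin.sum_univ_three, Matrix.single_apply,
      Matrix.one_apply]

theorem Cm_tv10 (t : F) : Cm * Cm * StSL.tv 1 0 t * (Cm * Cm)⁻¹ = StSL.tv 0 2 (-t) := by
  rw [mul_inv_eq_iff_eq_mul]
  refine Subtype.ext ?_
  show (Cm (F := F)).1 * (Cm (F := F)).1 * (StSL.tv 1 0 t).1 =
    (StSL.tv 0 2 (-t)).1 * ((Cm (F := F)).1 * (Cm (F := F)).1)
  rw [Cm_val, StSL.tv_coe (by decide), StSL.tv_coe (by decide)]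
  ext i j; fin_cases i <;> fin_cases j <;>
    simp [Matrix.transvection, Matrix.mul_apply, Fin.sum_univ_three, Matrix.single_apply,
      Matrix.one_apply]

theorem Cm_three : (Cm : SpecialLinearGroup (Fin 3) F) * Cm * Cm = 1 := by
  refine Subtype.ext ?_
  show (Cm (F := F)).1 * (Cm (F := F)).1 * (Cm (F := F)).1 = 1
  rw [Cm_val]
  ext i j; fin_cases i <;> fin_cases j <;> simp [Matrix.mul_apply, Fin.sum_univ_three]

theorem Cm_eq : (Cm : SpecialLinearGroup (Fin 3) F) * Cm = Nm * Cm * Nm := by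
  refine Subtype.ext ?_
  show (Cm (F := F)).1 * (Cm (F := F)).1 = (Nm (F := F)).1 * (Cm (F := F)).1 * (Nm (F := F)).1
  rw [Cm_val, Nm_val]
  ext i j; fin_cases i <;> fin_cases j <;> simp [Matrix.mul_apply, Fin.sum_univ_three]

variable [Fintype F]

/-- The translates of the chosen elements under the cubes span the field. -/
theorem exists_span {ω : Fˣ} (hω : ∀ u : Fˣ, ∃ i : ℕ, ω ^ i = u) :
    ∃ E : List ℕ, (Fintype.card F ≠ 4 → E = [0]) ∧ (Fintype.card F = 4 → E = [0, 1]) ∧
      ∀ (P : AddSubgroup F),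
        (∀ (i : ℕ), ∀ e ∈ E.map fun k => (ω : F) ^ k, ((ω : F) ^ 3) ^ i * e ∈ P) → ∀ t, t ∈ P := by
  classical
  have hgen : ∀ t : F, t ≠ 0 → ∃ i : ℕ, t = (ω : F) ^ i := fun t ht => by
    obtain ⟨i, hi⟩ := hω (Units.mk0 t ht)
    exact ⟨i, by simpa using (congrArg Units.val hi).symm⟩
  have hord : orderOf ω = Fintype.card F - 1 := by
    rw [orderOf_eq_card_of_forall_mem_zpowers fun c => by
      obtain ⟨i, rfl⟩ := hω c
      exact Subgroup.npow_mem_zpowers ω i, Nat.card_units, Nat.card_eq_fintype_card]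
  by_cases h4 : Fintype.card F = 4
  · refine ⟨[0, 1], fun h => absurd h4 h, fun _ => rfl, fun P hP t => ?_⟩
    have h0 : (1 : F) ∈ P := by simpa using hP 0 1 (by simp)
    have h1 : (ω : F) ∈ P := by simpa using hP 0 (ω : F) (by simp)
    have h3 : ω ^ 3 = 1 := by
      have := pow_orderOf_eq_one ω
      rwa [hord, h4] at this
    rcases eq_or_ne t 0 with rfl | ht
    · exact P.zero_mem
    obtain ⟨i, rfl⟩ := hgen t ht
    have hi : (ω : F) ^ i = (ω : F) ^ (i % 3) := by
      conv_lhs => rw [← Nat.div_add_mod i 3]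
      rw [pow_add, pow_mul, ← Units.val_pow_eq_pow_val ω 3, h3, Units.val_one, one_pow, one_mul]
    have hlt : i % 3 = 0 ∨ i % 3 = 1 ∨ i % 3 = 2 := by omega
    rw [hi]
    rcases hlt with h | h | h <;> rw [h]
    · simpa using h0
    · simpa using h1
    · have hne : (ω : F) ≠ 1 := fun e => by
        have e' : ω = 1 := Units.ext e
        rw [e', orderOf_one, h4] at hord
        omega
      have e : ((ω : F) - 1) * ((ω : F) ^ 2 + (ω : F) + 1) = 0 := by
        have h3' : (ω : F) ^ 3 = 1 := by rw [← Units.val_pow_eq_pow_val, h3, Units.val_one]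
        linear_combination h3'
      have e2 : (ω : F) ^ 2 = -(ω : F) + -1 := by
        linear_combination (mul_eq_zero.1 e).resolve_left (sub_ne_zero.2 hne)
      rw [e2]
      exact P.add_mem (P.neg_mem h1) (P.neg_mem h0)
  refine ⟨[0], fun _ => rfl, fun h => absurd h h4, fun P hP t => ?_⟩
  obtain ⟨p, hp⟩ := CharP.exists F
  have : Fact p.Prime := ⟨CharP.char_is_prime F p⟩
  obtain ⟨e, he⟩ : ∃ e : ℕ, Fintype.card F = p ^ e := by
    obtain ⟨n, -, hn⟩ := FiniteField.card F p
    exact ⟨n, hn⟩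
  rcases FieldSquares.fixed_or_surj p (by rw [Nat.card_eq_fintype_card]; exact he)
      ((ω : F) ^ 3) with hsurj | ⟨d, hd1, hd2, hd⟩
  · obtain ⟨f, rfl⟩ := hsurj t
    induction f using Polynomial.induction_on' with
    | add f g hf hg => rw [map_add]; exact P.add_mem hf hg
    | monomial i c =>
      rw [Polynomial.aeval_monomial, eq_intCast, ← zsmul_eq_mul]
      exact P.zsmul_mem (by simpa using hP i 1 (by simp)) c
  · exfalso
    have h2 : 2 ≤ p ^ d := by
      calc 2 ≤ p ^ 1 := by simpa using (Fact.out : p.Prime).two_le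
        _ ≤ p ^ d := Nat.pow_le_pow_right (Fact.out : p.Prime).one_lt.le hd1
    have hsq : p ^ d * p ^ d ≤ Fintype.card F := by
      rw [he, ← pow_add]
      exact Nat.pow_le_pow_right (Fact.out : p.Prime).one_lt.le (by omega)
    have h1 : ω ^ (3 * p ^ d) = ω ^ 3 := Units.ext (by
      rw [Units.val_pow_eq_pow_val, Units.val_pow_eq_pow_val, pow_mul, hd])
    have hdiv : orderOf ω ∣ 3 * (p ^ d - 1) := by
      rw [orderOf_dvd_iff_pow_eq_one]
      have e : 3 * p ^ d = 3 * (p ^ d - 1) + 3 := by omega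
      rw [e, pow_add, mul_eq_right] at h1
      exact h1
    have := Nat.le_of_dvd (by omega) hdiv
    rw [hord] at this
    rcases Nat.lt_or_ge (p ^ d) 3 with h | h
    · have hx : p ^ d = 2 := by omega
      rw [hx] at hsq this
      omega
    · have h5 : 3 * p ^ d ≤ p ^ d * p ^ d := Nat.mul_le_mul_right _ h
      omega

/-- The map from the additive part. -/
def τ : FreeGroup Bool →* FreeGroup (Fin 4) :=
  FreeGroup.lift fun b => FreeGroup.of (cond b 0 1)

theorem lift_τ {Y : Type*} [Group Y] (x : Fin 4 → Y) (w : FreeGroup Bool) :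
    FreeGroup.lift x (τ w) = FreeGroup.lift (fun b => cond b (x 0) (x 1)) w :=
  DFunLike.congr_fun (FreeGroup.ext_hom ((FreeGroup.lift x).comp τ)
    (FreeGroup.lift fun b => cond b (x 0) (x 1)) fun i => by cases i <;> simp [τ]) w

set_option maxHeartbeats 1600000 in
/-- Thirteen relations on four generators, the last of which has order three. -/
theorem presData_cyclic :
    ∃ (f : Fin 4 → SpecialLinearGroup (Fin 3) F) (L : List (FreeGroup (Fin 4))),
    L.length ≤ 13 ∧ f 3 = Cm ∧ (∀ w ∈ L, FreeGroup.lift f w = 1) ∧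
      Subgroup.closure (Set.range f) = ⊤ ∧
      ∀ (X : Type) [Group X] (x : Fin 4 → X), (∀ w ∈ L, FreeGroup.lift x w = 1) →
        x 3 * x 3 * x 3 = 1 → ∃ φ : SpecialLinearGroup (Fin 3) F →* X, ∀ i, φ (f i) = x i := by
  classical
  obtain ⟨ω, hω'⟩ := IsCyclic.exists_monoid_generator (α := Fˣ)
  have hω : ∀ u : Fˣ, ∃ i : ℕ, ω ^ i = u := fun u => Submonoid.mem_powers_iff _ _ |>.1 (hω' u)
  have hgen : ∀ t : F, t ≠ 0 → ∃ i : ℕ, t = (ω : F) ^ i := fun t ht => by
    obtain ⟨i, hi⟩ := hω (Units.mk0 t ht)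
    exact ⟨i, by simpa using (congrArg Units.val hi).symm⟩
  obtain ⟨E, hE4, hE4', hspan⟩ := exists_span hω
  -- the additive group
  obtain ⟨L₀, hlen, hhold₀, huniv₀⟩ : ∃ L₀ : List (FreeGroup Bool),
      L₀.length + 2 * E.length ≤ 7 ∧
      (∀ v ∈ L₀, FreeGroup.lift (cond · (StSL.tv (0 : Fin 3) 1 (1 : F)) (Gm ω)) v = 1) ∧
      ∀ (X : Type) [Group X] (u h : X), (∀ w ∈ L₀, FreeGroup.lift (cond · u h) w = 1) →
        ∃ a : F → X, (∀ t v, a t * a v = a (t + v)) ∧ a 1 = u ∧
          ∀ t, h * a t * h⁻¹ = a ((ω : F) * t) := by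
    have hact : ∀ t, Gm ω * StSL.tv (0 : Fin 3) 1 t * (Gm ω)⁻¹ =
        StSL.tv 0 1 ((ω : F) * t) := fun t => by
      rw [Gm_eq, AltMono.dg_tv _ _ _ (by decide)]
      simp [AltMono.χ]
    have hadd := (StSL.rel_tv (K := F) (n := 3)).add (show (0 : Fin 3) ≠ 1 by decide)
    obtain ⟨p, hp⟩ := CharP.exists F
    have : Fact p.Prime := ⟨CharP.char_is_prime F p⟩
    by_cases h4 : Fintype.card F = 4
    · have : CharP F 2 := by
        obtain ⟨n, -, hn⟩ := FiniteField.card F p
        have h22 : p = 2 := (Nat.prime_dvd_prime_iff_eq (Fact.out : p.Prime) Nat.prime_two).1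
          ((Fact.out : p.Prime).dvd_of_dvd_pow (show p ∣ 2 ^ 2 by
            rw [show (2 : ℕ) ^ 2 = p ^ (n : ℕ) by rw [← hn, h4]; norm_num]
            exact dvd_pow_self p n.ne_zero))
        rwa [h22] at hp
      have h3 : ω ^ 3 = 1 := by
        have := pow_card_eq_one (x := ω)
        rwa [Fintype.card_units, h4] at this
      obtain ⟨L, hL, h1, h2⟩ := FieldSquares.exists_rels_two (η := (ω : F)) hgen (s := 3)
        (by norm_num) (by rw [← Units.val_pow_eq_pow_val, h3, Units.val_one])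
      refine ⟨L, by rw [hE4' h4]; simp; omega, fun v hv => ?_, fun X _ u h hw => ?_⟩
      · refine h1 _ (fun t => StSL.tv 0 1 t) _ hadd hact ?_ ?_ v hv
        · have hd : ∀ k : ℕ, AltMono.dg ω (2 : Fin 3) 1 ^ k = AltMono.dg (ω ^ k) 2 1 := fun k => by
            induction k with
            | zero =>
              rw [pow_zero, pow_zero]
              exact Subtype.ext (by
                rw [dg_val]; ext i j; fin_cases i <;> fin_cases j <;> simp [AltMono.χ])
            | succ k ih =>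
              rw [pow_succ, ih]
              refine Subtype.ext ?_
              show (AltMono.dg (ω ^ k) 2 1).1 * (AltMono.dg ω 2 1).1 = _
              rw [dg_val, dg_val, dg_val]
              ext i j; fin_cases i <;> fin_cases j <;>
                simp [AltMono.χ, pow_succ, mul_comm]
          rw [Gm_eq, hd, h3]
          exact Subtype.ext (by
            rw [dg_val]; ext i j; fin_cases i <;> fin_cases j <;> simp [AltMono.χ])
        · intro h1'
          rw [Gm_eq, show ω = 1 from Units.ext h1']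
          exact Subtype.ext (by
            rw [dg_val]; ext i j; fin_cases i <;> fin_cases j <;> simp [AltMono.χ])
      · obtain ⟨a, b1, b2, b3, -⟩ := h2 X u h hw
        exact ⟨a, b1, b2, b3⟩
    · obtain ⟨L, hL, h1, h2⟩ := FieldAdd.exists_rels p hgen
      refine ⟨L, by rw [hE4 h4]; simp; omega,
        fun v hv => h1 _ (fun t => StSL.tv 0 1 t) _ hadd hact v hv, fun X _ u h hw => ?_⟩
      obtain ⟨a, b1, b2, -, b4⟩ := h2 X u h hw
      exact ⟨a, b1, b2, b4⟩
  let U : FreeGroup (Fin 4) := FreeGroup.of 0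
  let G : FreeGroup (Fin 4) := FreeGroup.of 1
  let N : FreeGroup (Fin 4) := FreeGroup.of 2
  let C : FreeGroup (Fin 4) := FreeGroup.of 3
  let H : FreeGroup (Fin 4) := C⁻¹ * G⁻¹ * C
  let aw : ℕ → FreeGroup (Fin 4) := fun k => G ^ k * U * (G ^ k)⁻¹
  let R1 : List (FreeGroup (Fin 4)) :=
    [C * C * (N * C * N)⁻¹, H * G⁻¹ * (C * G⁻¹ * C⁻¹), ⁅H, G⁆, N * H * N⁻¹ * H,
      H * U * H⁻¹ * (G * G * U * (G * G)⁻¹)⁻¹, N * (U * (N * U * N⁻¹) * U)⁻¹]
  let R2 : List (FreeGroup (Fin 4)) :=
    E.map fun k => ⁅C * C * (N * U * N⁻¹) * (C * C)⁻¹, C * aw k * C⁻¹⁆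
  let R3 : List (FreeGroup (Fin 4)) :=
    E.map fun k => ⁅U, C * aw k * C⁻¹⁆ * (C * C * (N * aw k * N⁻¹) * (C * C)⁻¹)⁻¹
  let f : Fin 4 → SpecialLinearGroup (Fin 3) F := ![StSL.tv 0 1 1, Gm ω, Nm, Cm]
  refine ⟨f, L₀.map τ ++ R1 ++ R2 ++ R3, by simp [R1, R2, R3]; omega, rfl, ?_, ?_, fun X _ x hx hx3 => ?_⟩
  · set g := FreeGroup.lift f
    have hU : g U = StSL.tv 0 1 1 := by simp [g, U, f]
    have hG : g G = Gm ω := by simp [g, G, f]
    have hN : g N = Nm := by simp [g, N, f]
    have hC : g C = Cm := by simp [g, C, f]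
    have hH : g H = AltMono.dg ω 0 1 := by
      rw [map_mul, map_mul, map_inv, map_inv, hG, hC, Gm, inv_inv, Hm_eq]; group
    have haw : ∀ k, g (aw k) = StSL.tv 0 1 ((ω : F) ^ k) := fun k => by
      rw [map_mul, map_mul, map_inv, map_pow, hU, hG]
      induction k with
      | zero => simp
      | succ k ih =>
        have h1 : Gm ω * StSL.tv (0 : Fin 3) 1 ((ω : F) ^ k) * (Gm ω)⁻¹ =
            StSL.tv 0 1 ((ω : F) ^ (k + 1)) := by
          rw [Gm_eq, AltMono.dg_tv _ _ _ (by decide)]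
          simp [AltMono.χ, pow_succ']
        rw [← h1, ← ih, pow_succ']
        group
    have R := StSL.rel_tv (K := F) (n := 3)
    refine List.forall_mem_append.2 ⟨List.forall_mem_append.2 ⟨List.forall_mem_append.2 ⟨?_, ?_⟩, ?_⟩, ?_⟩
    · intro w hw
      obtain ⟨v, hv, rfl⟩ := List.mem_map.1 hw
      rw [lift_τ]
      exact hhold₀ v hv
    · show ∀ w ∈ R1, g w = 1
      simp only [R1, List.forall_mem_cons, List.not_mem_nil, IsEmpty.forall_iff, implies_true,
        and_true, map_mul, map_inv, map_commutatorElement, hU, hG, hN, hC, hH,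
        commutatorElement_eq_one_iff_commute]
      refine ⟨?_, ?_, ?_, ?_, ?_, ?_⟩
      · rw [Cm_eq, mul_inv_cancel]
      · rw [Gm_eq, AltMono.dg_inv _ (by decide), Cm_dg12,
          AltMono.dg_mul_dg ω (by decide) (by decide) (by decide),
          ← AltMono.dg_inv ω (show (0 : Fin 3) ≠ 2 by decide), mul_inv_cancel]
      · rw [Gm_eq]; exact AltMono.dg_comm _ _ _ _ _
      · rw [Nm_dg01, ← AltMono.dg_inv ω (show (0 : Fin 3) ≠ 1 by decide), inv_mul_cancel]
      · rw [mul_inv_eq_one, AltMono.dg_tv _ _ _ (by decide), Gm_eq]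
        have e : ∀ t : F, AltMono.dg ω (2 : Fin 3) 1 * StSL.tv 0 1 t *
            (AltMono.dg ω 2 1)⁻¹ = StSL.tv 0 1 ((ω : F) * t) := fun t => by
          rw [AltMono.dg_tv _ _ _ (by decide)]; simp [AltMono.χ]
        have e2 : AltMono.dg ω (2 : Fin 3) 1 * AltMono.dg ω 2 1 * StSL.tv 0 1 (1 : F) *
            (AltMono.dg ω 2 1 * AltMono.dg ω 2 1)⁻¹ = StSL.tv 0 1 ((ω : F) * ((ω : F) * 1)) := by
          rw [← e, ← e]; group
        rw [e2]
        congr 1
        simp [AltMono.χ]
      · rw [Nm_tv, mul_inv_eq_one]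
        rfl
    · show ∀ w ∈ R2, g w = 1
      intro w hw
      obtain ⟨k, -, rfl⟩ := List.mem_map.1 hw
      simp only [map_commutatorElement, map_mul, map_inv, hU, hN, hC, haw,
        commutatorElement_eq_one_iff_commute]
      rw [Nm_tv, Cm_tv10, Cm_tv01]
      exact R.comm (by decide) (by decide) (by decide) (by decide) _ _
    · show ∀ w ∈ R3, g w = 1
      intro w hw
      obtain ⟨k, -, rfl⟩ := List.mem_map.1 hw
      simp only [map_commutatorElement, map_mul, map_inv, hU, hN, hC, haw, mul_inv_eq_one]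
      rw [Nm_tv, Cm_tv10, Cm_tv01, neg_neg, R.prod (by decide) (by decide) (by decide), one_mul]
  · -- generation
    set S := Subgroup.closure (Set.range f)
    have hu : StSL.tv 0 1 1 ∈ S := Subgroup.subset_closure ⟨0, rfl⟩
    have hg : Gm ω ∈ S := Subgroup.subset_closure ⟨1, rfl⟩
    have hn : Nm ∈ S := Subgroup.subset_closure ⟨2, rfl⟩
    have hc : Cm ∈ S := Subgroup.subset_closure ⟨3, rfl⟩
    have cj : ∀ {a b}, a ∈ S → b ∈ S → a * b * a⁻¹ ∈ S := fun ha hb =>
      mul_mem (mul_mem ha hb) (inv_mem ha)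
    have R := StSL.rel_tv (K := F) (n := 3)
    have h01 : ∀ t : F, StSL.tv (0 : Fin 3) 1 t ∈ S := fun t => by
      rcases eq_or_ne t 0 with rfl | ht
      · rw [R.zero (by decide)]; exact one_mem _
      obtain ⟨i, rfl⟩ := hgen t ht
      induction i with
      | zero => simpa using hu
      | succ i ih =>
        have := cj hg (ih (pow_ne_zero _ ω.ne_zero))
        rw [Gm_eq, AltMono.dg_tv _ _ _ (by decide)] at this
        simpa [AltMono.χ, pow_succ'] using this
    have h10 : ∀ t : F, StSL.tv (1 : Fin 3) 0 t ∈ S := fun t => by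
      have := cj hn (h01 (-t)); rwa [Nm_tv, neg_neg] at this
    have h12 : ∀ t : F, StSL.tv (1 : Fin 3) 2 t ∈ S := fun t => by
      have := cj hc (h01 t); rwa [Cm_tv01] at this
    have h02 : ∀ t : F, StSL.tv (0 : Fin 3) 2 t ∈ S := fun t => by
      have := cj (mul_mem hc hc) (h10 (-t)); rwa [Cm_tv10, neg_neg] at this
    have h20 : ∀ t : F, StSL.tv (2 : Fin 3) 0 t ∈ S := fun t => by
      have e : Cm * StSL.tv 1 2 (-t) * Cm⁻¹ = StSL.tv 2 0 t := by
        rw [mul_inv_eq_iff_eq_mul]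
        refine Subtype.ext ?_
        show (Cm (F := F)).1 * (StSL.tv 1 2 (-t)).1 = (StSL.tv 2 0 t).1 * (Cm (F := F)).1
        rw [Cm_val, StSL.tv_coe (by decide), StSL.tv_coe (by decide)]
        ext i j; fin_cases i <;> fin_cases j <;>
          simp [Matrix.transvection, Matrix.mul_apply, Fin.sum_univ_three, Matrix.single_apply,
            Matrix.one_apply]
      exact e ▸ cj hc (h12 (-t))
    have h21 : ∀ t : F, StSL.tv (2 : Fin 3) 1 t ∈ S := fun t => by
      have := mul_mem (mul_mem (mul_mem (h20 t) (h01 1)) (inv_mem (h20 t))) (inv_mem (h01 1))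
      rw [← commutatorElement_def, R.prod (by decide) (by decide) (by decide), mul_one] at this
      exact this
    refine CfsgLib.Classical.eq_top_of_transvection_mem _ fun i j h t => ?_
    rw [← StSL.tv_eq h]
    fin_cases i <;> fin_cases j <;> first
      | exact absurd rfl h
      | exact h01 t
      | exact h02 t
      | exact h10 t
      | exact h12 t
      | exact h20 t
      | exact h21 t
  · set g := FreeGroup.lift x
    obtain ⟨a, aadd, a1, ag⟩ := huniv₀ X (x 0) (x 1) fun w hw => by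
      rw [← hx (τ w) (List.mem_append_left _ (List.mem_append_left _ (List.mem_append_left _
        (List.mem_map_of_mem hw)))), lift_τ]
    have hU : g U = a 1 := by simp [g, U, a1]
    have hG : g G = x 1 := by simp [g, G]
    have hN : g N = x 2 := by simp [g, N]
    have hC : g C = x 3 := by simp [g, C]
    have hH : g H = (x 3)⁻¹ * (x 1)⁻¹ * x 3 := by simp [H, hG, hC]
    have haw : ∀ k, g (aw k) = a ((ω : F) ^ k) := fun k => by
      rw [map_mul, map_mul, map_inv, map_pow, hU, hG]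
      induction k with
      | zero => simp
      | succ k ih => rw [pow_succ' (ω : F), ← ag, ← ih, pow_succ']; group
    have h1 : ∀ w ∈ R1, g w = 1 := fun w hw =>
      hx w (List.mem_append_left _ (List.mem_append_left _ (List.mem_append_right _ hw)))
    have h2 : ∀ k ∈ E, Commute (x 3 * x 3 * (x 2 * a 1 * (x 2)⁻¹) * (x 3 * x 3)⁻¹)
        (x 3 * a ((ω : F) ^ k) * (x 3)⁻¹) := fun k hk => by
      have : g _ = 1 := hx _ (List.mem_append_left _ (List.mem_append_right _
        (List.mem_map.2 ⟨k, hk, rfl⟩)))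
      simpa only [map_commutatorElement, map_mul, map_inv, hU, hN, hC, haw,
        commutatorElement_eq_one_iff_commute] using this
    have h3 : ∀ k ∈ E, ⁅a 1, x 3 * a ((ω : F) ^ k) * (x 3)⁻¹⁆ =
        x 3 * x 3 * (x 2 * a ((ω : F) ^ k) * (x 2)⁻¹) * (x 3 * x 3)⁻¹ := fun k hk => by
      have : g _ = 1 := hx _ (List.mem_append_right _ (List.mem_map.2 ⟨k, hk, rfl⟩))
      simpa only [map_commutatorElement, map_mul, map_inv, hU, hN, hC, haw, mul_inv_eq_one]
        using this
    simp only [R1, List.forall_mem_cons, List.not_mem_nil, IsEmpty.forall_iff, implies_true,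
      and_true, map_mul, map_inv, map_commutatorElement, hU, hG, hN, hC, hH,
      commutatorElement_eq_one_iff_commute] at h1
    obtain ⟨r2, r3, r4, r5, r6, r7⟩ := h1
    have r1 := hx3
    rw [mul_inv_eq_one] at r2 r6 r7
    let D : Data F ω X (E.map fun k => (ω : F) ^ k) :=
      { a := a, g := x 1, n := x 2, c := x 3, gen := hgen, span := hspan, a_add := aadd, a_g := ag
        c_three := r1, c_eq := r2, prodT := r3, tcomm := r4
        n_h := eq_inv_of_mul_eq_one_left r5
        h_act := r6, weyl := r7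
        second := fun e he => by
          obtain ⟨k, hk, rfl⟩ := List.mem_map.1 he
          exact h2 k hk
        prod := fun e he => by
          obtain ⟨k, hk, rfl⟩ := List.mem_map.1 he
          exact h3 k hk }
    obtain ⟨φ, e0, e1, e2, e3⟩ := D.exists_hom hω
    refine ⟨φ, fun i => ?_⟩
    fin_cases i
    · exact e0.trans a1
    · exact e1
    · exact e2
    · exact e3

/-- Fourteen relations on four generators. -/
theorem presData : ∃ (f : Fin 4 → SpecialLinearGroup (Fin 3) F) (L : List (FreeGroup (Fin 4))),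
    L.length ≤ 14 ∧ PresData f L := by
  obtain ⟨f, L, hL, h3, hhold, hgen, huniv⟩ := presData_cyclic (F := F)
  refine ⟨f, FreeGroup.of 3 * FreeGroup.of 3 * FreeGroup.of 3 :: L,
    by rw [List.length_cons]; omega, ?_, hgen, fun X _ x hx _ => ?_⟩
  · intro w hw
    rcases List.mem_cons.1 hw with rfl | hw
    · simp only [map_mul, FreeGroup.lift_apply_of, h3, Cm_three]
    · exact hhold w hw
  · have h := hx _ (List.mem_cons_self ..)
    simp only [map_mul, FreeGroup.lift_apply_of] at h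
    exact huniv X x (fun w hw => hx w (List.mem_cons_of_mem _ hw)) h

end CfsgLib.Pres.SL3Short
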