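import Cfsg.Agent.Lib.Pres.AltMonomial
import Cfsg.Agent.Lib.StSL.Enum

/-!
A bounded set of conditions on the alternating group, one root subgroup and one torus element which
gives a homomorphism on `SL_n`, `n ≥ 4`.
-/

set_option autoImplicit false

namespace CfsgLib.Pres.SLData

open Equiv
open scoped commutatorElement

variable {m : ℕ}

/-- first index -/
abbrev P0 : Fin (m + 4) := ⟨0, by omega⟩
/-- second index -/
abbrev P1 : Fin (m + 4) := ⟨1, by omega⟩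
/-- third index -/
abbrev P2 : Fin (m + 4) := ⟨2, by omega⟩
/-- fourth index -/
abbrev P3 : Fin (m + 4) := ⟨3, by omega⟩

/-- The group acting on the indices. -/
abbrev K (m : ℕ) := alternatingGroup (Fin (m + 4))

/-- The underlying map of an element. -/
abbrev act (σ : K m) (i : Fin (m + 4)) : Fin (m + 4) := (σ : Perm (Fin (m + 4))) i

theorem act_mul (σ τ : K m) (i : Fin (m + 4)) : act (σ * τ) i = act σ (act τ i) := rfl

theorem act_inv {σ : K m} {i j : Fin (m + 4)} (h : act σ i = j) : act σ⁻¹ j = i := by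
  subst h
  simp [act]

theorem act_inj (σ : K m) {i j : Fin (m + 4)} (h : act σ i = act σ j) : i = j :=
  (σ : Perm (Fin (m + 4))).injective h

theorem exists_four {p q r s a b c d : Fin (m + 4)} (hp : [p, q, r, s].Nodup)
    (ha : [a, b, c, d].Nodup) :
    ∃ σ : K m, act σ p = a ∧ act σ q = b ∧
      ((act σ r = c ∧ act σ s = d) ∨ (act σ r = d ∧ act σ s = c)) := by
  obtain ⟨τ, h1, h2, h3, h4⟩ := AltMono.exists_perm4 hp ha
  simp only [List.nodup_cons, List.mem_cons, List.not_mem_nil, or_false, not_or] at hp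
  rcases AltMono.even_or τ (p := r) (q := s) hp.2.2.1 with hτ | hτ
  · exact ⟨⟨τ, hτ⟩, h1, h2, Or.inl ⟨h3, h4⟩⟩
  · refine ⟨⟨_, hτ⟩, ?_, ?_, Or.inr ⟨?_, ?_⟩⟩
    · simp [act, swap_apply_of_ne_of_ne hp.1.2.1 hp.1.2.2, h1]
    · simp [act, swap_apply_of_ne_of_ne hp.2.1.1 hp.2.1.2, h2]
    · simp [act, h4]
    · simp [act, h3]

theorem exists_two {p q a b : Fin (m + 4)} (hp : p ≠ q) (ha : a ≠ b) :
    ∃ σ : K m, act σ p = a ∧ act σ q = b := by
  obtain ⟨r, s, hrs⟩ : ∃ r s, [p, q, r, s].Nodup := by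
    have h : 2 ≤ (({p, q} : Finset (Fin (m + 4)))ᶜ).card := by
      rw [Finset.card_compl, Fintype.card_fin, Finset.card_pair hp]; omega
    obtain ⟨r, hr, s, hs, hrs⟩ := Finset.one_lt_card.1 h
    simp only [Finset.mem_compl, Finset.mem_insert, Finset.mem_singleton, not_or] at hr hs
    exact ⟨r, s, by simp [hp, Ne.symm hr.1, Ne.symm hs.1, Ne.symm hr.2, Ne.symm hs.2, hrs]⟩
  obtain ⟨τ, h1, h2⟩ := AltMono.exists_perm2 hp ha
  simp only [List.nodup_cons, List.mem_cons, List.not_mem_nil, or_false, not_or] at hrs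
  rcases AltMono.even_or τ (p := r) (q := s) hrs.2.2.1 with hτ | hτ
  · exact ⟨⟨τ, hτ⟩, h1, h2⟩
  · exact ⟨⟨_, hτ⟩, by simp [act, swap_apply_of_ne_of_ne hrs.1.2.1 hrs.1.2.2, h1],
      by simp [act, swap_apply_of_ne_of_ne hrs.2.1.1 hrs.2.1.2, h2]⟩

/-- Three distinct indices come from a standard triple, up to a chosen transposition. -/
theorem exists_three {p q r u v a b c : Fin (m + 4)} (hp : [p, q, r].Nodup) (ha : [a, b, c].Nodup)
    (huv : u ≠ v) :
    ∃ σ : K m, act σ (swap u v p) = a ∧ act σ (swap u v q) = b ∧ act σ (swap u v r) = c ∨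
      act σ p = a ∧ act σ q = b ∧ act σ r = c := by
  obtain ⟨τ, h1, h2, h3⟩ := AltMono.exists_perm3 hp ha
  rcases AltMono.even_or τ (p := u) (q := v) huv with hτ | hτ
  · exact ⟨⟨τ, hτ⟩, Or.inr ⟨h1, h2, h3⟩⟩
  · exact ⟨⟨_, hτ⟩, Or.inl ⟨by simp [act, h1], by simp [act, h2], by simp [act, h3]⟩⟩

/-- A chosen element moving a standard pair to a given one. -/
noncomputable def mv (p q a b : Fin (m + 4)) : K m := by
  classical exact if h : p ≠ q ∧ a ≠ b then (exists_two h.1 h.2).choose else 1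

theorem mv_spec {p q a b : Fin (m + 4)} (hp : p ≠ q) (ha : a ≠ b) :
    act (mv p q a b) p = a ∧ act (mv p q a b) q = b := by
  classical
  rw [mv, dif_pos ⟨hp, ha⟩]
  exact (exists_two hp ha).choose_spec

variable {X : Type*} [Group X]

/-- The conjugates of the torus element. -/
noncomputable def H (ψ : K m → X) (h : X) (a b : Fin (m + 4)) : X :=
  ψ (mv P0 P2 a b) * h * (ψ (mv P0 P2 a b))⁻¹

/-- The conjugates of a root element. -/
noncomputable def Xc (ψ : K m → X) (u : X) (a b : Fin (m + 4)) : X :=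
  ψ (mv P0 P1 a b) * u * (ψ (mv P0 P1 a b))⁻¹

variable {F : Type*} [Field F]

/-- The data and the conditions. -/
structure Data (F : Type*) [Field F] (ω : Fˣ) (m : ℕ) (X : Type*) [Group X] where
  ψ : K m →* X
  a : F → X
  h : X
  gen : ∀ t : F, t ≠ 0 → ∃ i : ℕ, t = (ω : F) ^ i
  a_add : ∀ t v, a t * a v = a (t + v)
  a_pow : ∀ i : ℕ, a ((ω : F) ^ i) = h ^ i * a 1 * (h ^ i)⁻¹
  a_h : ∀ t, h * a t * h⁻¹ = a (ω * t)
  st_u : ∀ σ : K m, act σ P0 = P0 → act σ P1 = P1 → ψ σ * a 1 * (ψ σ)⁻¹ = a 1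
  st_h : ∀ σ : K m, act σ P0 = P0 → act σ P2 = P2 → ψ σ * h * (ψ σ)⁻¹ = h
  rev : ∃ σ : K m, act σ P0 = P2 ∧ act σ P2 = P0 ∧ ψ σ * h * (ψ σ)⁻¹ = h⁻¹
  prodH : h = H ψ h P0 P1 * H ψ h P1 P2
  tc : Commute (H ψ h P0 P1) h
  da : Commute (H ψ h P2 P3) (a 1)
  col : Commute (h * H ψ h P1 P2) (a 1)
  cd1 : Commute (a 1) (Xc ψ (a 1) P2 P3)
  cd2 : Commute (a 1) (Xc ψ (a ω) P2 P3)
  cd3 : Commute (a 1) (Xc ψ (a 1) P3 P2)
  cd4 : Commute (a 1) (Xc ψ (a ω) P3 P2)
  cf : Commute (a 1) (Xc ψ (a 1) P0 P2)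
  cs : Commute (a 1) (Xc ψ (a 1) P2 P1)
  p1 : ⁅a 1, Xc ψ (a 1) P1 P2⁆ = Xc ψ (a 1) P0 P2
  p2 : ⁅a 1, Xc ψ (a 1) P1 P3⁆ = Xc ψ (a 1) P0 P3

namespace Data

variable {ω : Fˣ} (D : Data F ω m X)

theorem a_zero : D.a 0 = 1 := by
  have := D.a_add 0 0
  rwa [add_zero, mul_eq_left] at this

/-- conjugation by an element of the alternating group -/
def cj (σ : K m) : X →* X := (MulAut.conj (D.ψ σ)).toMonoidHom

theorem cj_apply (σ : K m) (y : X) : D.cj σ y = D.ψ σ * y * (D.ψ σ)⁻¹ := rfl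

theorem cj_cj (σ τ : K m) (y : X) : D.cj σ (D.cj τ y) = D.cj (σ * τ) y := by
  rw [cj_apply, cj_apply, cj_apply, map_mul]
  group

/-- all conjugates of the torus element -/
noncomputable def hh (i j : Fin (m + 4)) : X := H D.ψ D.h i j

/-- all root elements -/
noncomputable def x (i j : Fin (m + 4)) (t : F) : X := D.cj (mv P0 P1 i j) (D.a t)

theorem hh_eq (i j : Fin (m + 4)) : D.hh i j = D.cj (mv P0 P2 i j) D.h := rfl

theorem p02 : (P0 : Fin (m + 4)) ≠ P2 := by simp [Fin.ext_iff]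
theorem p01 : (P0 : Fin (m + 4)) ≠ P1 := by simp [Fin.ext_iff]

theorem act_ne {σ : K m} {i j : Fin (m + 4)} (h : i ≠ j) : act σ i ≠ act σ j :=
  fun e => h (act_inj σ e)

theorem hh_equiv (σ : K m) {i j : Fin (m + 4)} (h : i ≠ j) :
    D.cj σ (D.hh i j) = D.hh (act σ i) (act σ j) := by
  obtain ⟨a1, a2⟩ := mv_spec (p02 (m := m)) h
  obtain ⟨b1, b2⟩ := mv_spec (p02 (m := m)) (act_ne (σ := σ) h)
  set u := mv P0 P2 i j
  set v := mv P0 P2 (act σ i) (act σ j)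
  have key := D.st_h (v⁻¹ * (σ * u)) (by rw [act_mul, act_mul, a1, act_inv b1])
    (by rw [act_mul, act_mul, a2, act_inv b2])
  rw [hh_eq, hh_eq, cj_cj]
  show D.cj (σ * u) D.h = D.cj v D.h
  conv_lhs => rw [show σ * u = v * (v⁻¹ * (σ * u)) by group, ← cj_cj]
  rw [D.cj_apply (v⁻¹ * (σ * u)), key]

theorem hh02 : D.hh P0 P2 = D.h :=
  D.st_h _ (mv_spec p02 p02).1 (mv_spec p02 p02).2

theorem hh_inv {i j : Fin (m + 4)} (h : i ≠ j) : D.hh j i = (D.hh i j)⁻¹ := by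
  obtain ⟨r, r0, r2, hr⟩ := D.rev
  obtain ⟨σ, s0, s2⟩ := exists_two (p02 (m := m)) h
  have e : D.hh P2 P0 = D.h⁻¹ := by
    have := D.hh_equiv r (p02 (m := m))
    rw [r0, r2, hh02] at this
    rw [← this, cj_apply, hr]
  rw [← s2, ← s0, ← D.hh_equiv σ p02.symm, ← D.hh_equiv σ p02, e, hh02, map_inv]

theorem hh_prod {i j l : Fin (m + 4)} (h : i ≠ j) (h' : j ≠ l) (hl : i ≠ l) :
    D.hh i l = D.hh i j * D.hh j l := by
  have e : D.hh P0 P2 = D.hh P0 P1 * D.hh P1 P2 := D.hh02.trans D.prodH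
  have e' : D.hh P2 P0 = D.hh P2 P1 * D.hh P1 P0 := by
    rw [D.hh_inv (i := P0) (j := P2) (by simp [Fin.ext_iff]),
      D.hh_inv (i := P1) (j := P2) (by simp [Fin.ext_iff]),
      D.hh_inv (i := P0) (j := P1) (by simp [Fin.ext_iff]), e, _root_.mul_inv_rev]
  obtain ⟨σ, hσ⟩ := exists_three (p := P0) (q := P1) (r := P2) (u := P0) (v := P2)
    (by simp [Fin.ext_iff]) (a := i) (b := j) (c := l) (by simp [h, h', hl])
    (by simp [Fin.ext_iff])
  rw [swap_apply_left, swap_apply_right,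
    swap_apply_of_ne_of_ne (by simp [Fin.ext_iff]) (by simp [Fin.ext_iff])] at hσ
  rcases hσ with ⟨a, b, c⟩ | ⟨a, b, c⟩
  · have := congrArg (D.cj σ) e'
    rwa [map_mul, D.hh_equiv σ (by simp [Fin.ext_iff]), D.hh_equiv σ (by simp [Fin.ext_iff]),
      D.hh_equiv σ (by simp [Fin.ext_iff]), a, b, c] at this
  · have := congrArg (D.cj σ) e
    rwa [map_mul, D.hh_equiv σ (by simp [Fin.ext_iff]), D.hh_equiv σ (by simp [Fin.ext_iff]),
      D.hh_equiv σ (by simp [Fin.ext_iff]), a, b, c] at this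

theorem hh_comm_first {i j l : Fin (m + 4)} (h : i ≠ j) (h' : j ≠ l) (hl : i ≠ l) :
    Commute (D.hh i j) (D.hh i l) := by
  have e : Commute (D.hh P0 P1) (D.hh P0 P2) := by rw [hh02]; exact D.tc
  obtain ⟨σ, hσ⟩ := exists_three (p := P0) (q := P1) (r := P2) (u := P1) (v := P2)
    (by simp [Fin.ext_iff]) (a := i) (b := j) (c := l) (by simp [h, h', hl])
    (by simp [Fin.ext_iff])
  rw [swap_apply_left, swap_apply_right,
    swap_apply_of_ne_of_ne (by simp [Fin.ext_iff]) (by simp [Fin.ext_iff])] at hσ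
  have := e.map (D.cj σ)
  rw [D.hh_equiv σ (by simp [Fin.ext_iff]), D.hh_equiv σ (by simp [Fin.ext_iff])] at this
  rcases hσ with ⟨a, b, c⟩ | ⟨a, b, c⟩
  · rw [a, b, c] at this; exact this.symm
  · rw [a, b, c] at this; exact this

theorem hh_comm_second {i j l : Fin (m + 4)} (h : i ≠ j) (h' : j ≠ l) (hl : i ≠ l) :
    Commute (D.hh i l) (D.hh j l) := by
  rw [D.hh_inv (i := l) (j := i) hl.symm, D.hh_inv (i := l) (j := j) h'.symm]
  exact (D.hh_comm_first hl.symm h h'.symm).inv_inv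

theorem hh_comm_mid {i j l : Fin (m + 4)} (h : i ≠ j) (h' : j ≠ l) (hl : i ≠ l) :
    Commute (D.hh i j) (D.hh j l) := by
  rw [D.hh_inv (i := j) (j := i) h.symm]
  exact (D.hh_comm_first h.symm hl h').inv_left

theorem hh_comm02 {i j : Fin (m + 4)} (h : i ≠ j) : Commute (D.hh i j) D.h := by
  rw [← hh02]
  rcases eq_or_ne i P0 with rfl | i0
  · rcases eq_or_ne j P2 with rfl | j2
    · exact Commute.refl _
    · exact D.hh_comm_first h j2 p02
  rcases eq_or_ne i P2 with rfl | i2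
  · rcases eq_or_ne j P0 with rfl | j0
    · rw [D.hh_inv p02]; exact (Commute.refl _).inv_left
    · exact (D.hh_comm_mid p02 h (Ne.symm j0)).symm
  rcases eq_or_ne j P0 with rfl | j0
  · exact D.hh_comm_mid h p02 i2
  rcases eq_or_ne j P2 with rfl | j2
  · exact D.hh_comm_second i0 p02 h
  rw [D.hh_prod (j := P2) i2 (Ne.symm j2) h]
  exact (D.hh_comm_second i0 p02 i2).mul_left ((D.hh_comm_mid p02 (Ne.symm j2) (Ne.symm j0)).symm)

/-- Elements commuting with the torus element act on the root subgroup by a scalar. -/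
theorem scale {z : X} (hz : Commute z D.h) {c : F} (hc : z * D.a 1 * z⁻¹ = D.a c) (t : F) :
    z * D.a t * z⁻¹ = D.a (c * t) := by
  rcases eq_or_ne t 0 with rfl | ht
  · rw [mul_zero, D.a_zero, mul_one, mul_inv_cancel]
  obtain ⟨i, rfl⟩ := D.gen t ht
  have hp : ∀ i : ℕ, ∀ v, D.h ^ i * D.a v * (D.h ^ i)⁻¹ = D.a ((ω : F) ^ i * v) := by
    intro i
    induction i with
    | zero => simp
    | succ i ih =>
      intro v
      rw [pow_succ' (ω : F), mul_assoc (ω : F), ← D.a_h, ← ih, pow_succ']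
      group
  rw [D.a_pow, mul_comm c, ← hp i c, ← hc]
  have hzi : z * D.h ^ i = D.h ^ i * z := (hz.pow_right i).eq
  calc z * (D.h ^ i * D.a 1 * (D.h ^ i)⁻¹) * z⁻¹
      = (z * D.h ^ i) * D.a 1 * (z * D.h ^ i)⁻¹ := by group
    _ = (D.h ^ i * z) * D.a 1 * (D.h ^ i * z)⁻¹ := by rw [hzi]
    _ = D.h ^ i * (z * D.a 1 * z⁻¹) * (D.h ^ i)⁻¹ := by group

theorem fix_of {z : X} (hz : Commute z D.h) (hc : Commute z (D.a 1)) (t : F) :
    z * D.a t * z⁻¹ = D.a t := by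
  simpa using D.scale hz (c := 1) (mul_inv_eq_iff_eq_mul.2 hc.eq) t

theorem act_disj {i j : Fin (m + 4)} (h : i ≠ j) (i0 : i ≠ P0) (i1 : i ≠ P1) (j0 : j ≠ P0)
    (j1 : j ≠ P1) (t : F) : D.hh i j * D.a t * (D.hh i j)⁻¹ = D.a t := by
  refine D.fix_of (D.hh_comm02 h) ?_ t
  obtain ⟨σ, s0, s1, hs⟩ := exists_four (p := P0) (q := P1) (r := P2) (s := P3)
    (by simp [Fin.ext_iff]) (a := P0) (b := P1) (c := i) (d := j)
    (by simp only [List.nodup_cons, List.mem_cons, List.not_mem_nil, or_false, not_or,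
        not_false_eq_true, List.nodup_nil, and_true]
        exact ⟨⟨p01, Ne.symm i0, Ne.symm j0⟩, ⟨Ne.symm i1, Ne.symm j1⟩, h⟩)
  have e : Commute (D.cj σ (D.hh P2 P3)) (D.cj σ (D.a 1)) := (show Commute (D.hh P2 P3) (D.a 1) from
    D.da).map _
  rw [D.hh_equiv σ (by simp [Fin.ext_iff]), D.cj_apply σ (D.a 1), D.st_u σ s0 s1] at e
  rcases hs with ⟨a, b⟩ | ⟨a, b⟩ <;> rw [a, b] at e
  · exact e
  · rw [D.hh_inv h.symm]; exact e.inv_left

theorem act_first {d : Fin (m + 4)} (d0 : d ≠ P0) (d1 : d ≠ P1) (t : F) :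
    D.hh P0 d * D.a t * (D.hh P0 d)⁻¹ = D.a (ω * t) := by
  rcases eq_or_ne d P2 with rfl | d2
  · rw [hh02, D.a_h]
  have e := D.hh_prod (i := P0) (j := d) (l := P2) (Ne.symm d0) d2 p02
  rw [hh02] at e
  have := D.act_disj d2 d0 d1 (by simp [Fin.ext_iff]) (by simp [Fin.ext_iff]) t
  rw [← D.a_h, e]
  conv_lhs => rw [← this]
  group

theorem act_col {d : Fin (m + 4)} (d0 : d ≠ P0) (d1 : d ≠ P1) (t : F) :
    D.hh P1 d * D.a t * (D.hh P1 d)⁻¹ = D.a ((ω : F)⁻¹ * t) := by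
  have h12 : ∀ t, D.hh P1 P2 * D.a t * (D.hh P1 P2)⁻¹ = D.a ((ω : F)⁻¹ * t) := by
    intro t
    have hc : Commute (D.h * D.hh P1 P2) D.h :=
      (Commute.refl D.h).mul_left (D.hh_comm02 (by simp [Fin.ext_iff]))
    have := D.fix_of hc D.col ((ω : F)⁻¹ * t)
    have e : D.a ((ω : F)⁻¹ * t) = D.h⁻¹ * D.a t * D.h := by
      have := D.a_h ((ω : F)⁻¹ * t)
      rw [← mul_assoc (ω : F), mul_inv_cancel₀ ω.ne_zero, one_mul] at this
      rw [← this]; group
    have h2 := D.fix_of hc D.col t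
    rw [e]
    calc D.hh P1 P2 * D.a t * (D.hh P1 P2)⁻¹
        = D.h⁻¹ * ((D.h * D.hh P1 P2) * D.a t * (D.h * D.hh P1 P2)⁻¹) * D.h := by group
      _ = _ := by rw [h2]
  rcases eq_or_ne d P2 with rfl | d2
  · exact h12 t
  have e := D.hh_prod (i := P1) (j := P2) (l := d) (by simp [Fin.ext_iff]) (Ne.symm d2)
    (Ne.symm d1)
  rw [e, ← h12]
  conv_rhs => rw [← D.act_disj (Ne.symm d2) (by simp [Fin.ext_iff]) (by simp [Fin.ext_iff]) d0 d1 t]
  group

theorem st_a (σ : K m) (s0 : act σ P0 = P0) (s1 : act σ P1 = P1) (t : F) :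
    D.cj σ (D.a t) = D.a t := by
  rcases eq_or_ne t 0 with rfl | ht
  · rw [D.a_zero, map_one]
  obtain ⟨i, rfl⟩ := D.gen t ht
  have hd0 : act σ P2 ≠ P0 := fun e => p02 (act_inj σ (s0.trans e.symm))
  have hd1 : act σ P2 ≠ P1 := fun e =>
    (by simp [Fin.ext_iff] : (P1 : Fin (m + 4)) ≠ P2) (act_inj σ (s1.trans e.symm))
  have hcu : D.cj σ (D.a 1) = D.a 1 := D.st_u σ s0 s1
  conv_lhs => rw [D.a_pow, map_mul, map_mul, map_inv, map_pow, hcu, ← D.hh02,
    D.hh_equiv σ p02, s0]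
  induction i with
  | zero => simp
  | succ i ih =>
    rw [pow_succ' (ω : F), ← D.act_first hd0 hd1, ← ih (pow_ne_zero _ ω.ne_zero), pow_succ']
    group

theorem x01 (t : F) : D.x P0 P1 t = D.a t := D.st_a _ (mv_spec p01 p01).1 (mv_spec p01 p01).2 t

theorem x_equiv (σ : K m) {i j : Fin (m + 4)} (h : i ≠ j) (t : F) :
    D.cj σ (D.x i j t) = D.x (act σ i) (act σ j) t := by
  obtain ⟨a1, a2⟩ := mv_spec (p01 (m := m)) h
  obtain ⟨b1, b2⟩ := mv_spec (p01 (m := m)) (act_ne (σ := σ) h)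
  simp only [x]
  set u := mv P0 P1 i j
  set v := mv P0 P1 (act σ i) (act σ j)
  rw [cj_cj]
  conv_lhs => rw [show σ * u = v * (v⁻¹ * (σ * u)) by group, ← cj_cj]
  rw [D.st_a _ (by rw [act_mul, act_mul, a1, act_inv b1]) (by rw [act_mul, act_mul, a2, act_inv b2])]

theorem conj_x {p q i j : Fin (m + 4)} (hpq : p ≠ q) (σ : K m) (s0 : act σ P0 = i)
    (s1 : act σ P1 = j) {c : F} (h : ∀ t, D.hh p q * D.a t * (D.hh p q)⁻¹ = D.a (c * t)) (t : F) :
    D.hh (act σ p) (act σ q) * D.x i j t * (D.hh (act σ p) (act σ q))⁻¹ = D.x i j (c * t) := by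
  rw [← D.hh_equiv σ hpq, ← s0, ← s1, ← D.x_equiv σ p01, ← D.x_equiv σ p01, x01, x01,
    ← map_inv, ← map_mul, ← map_mul, h]

theorem act_il {i j l : Fin (m + 4)} (h : i ≠ j) (h' : l ≠ j) (hl : i ≠ l) (t : F) :
    D.hh i l * D.x i j t * (D.hh i l)⁻¹ = D.x i j (ω * t) := by
  obtain ⟨σ, s0, s1⟩ := exists_two (p01 (m := m)) h
  have e0 : act σ⁻¹ l ≠ P0 := fun e => hl (by rw [← s0, ← e, ← act_mul, mul_inv_cancel]; rfl)
  have e1 : act σ⁻¹ l ≠ P1 := fun e => h' (by rw [← s1, ← e, ← act_mul, mul_inv_cancel]; rfl)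
  have := D.conj_x (Ne.symm e0) σ s0 s1 (D.act_first e0 e1) t
  rwa [← act_mul, mul_inv_cancel, s0] at this

theorem act_jl {i j l : Fin (m + 4)} (h : i ≠ j) (h' : l ≠ j) (hl : i ≠ l) (t : F) :
    D.hh j l * D.x i j t * (D.hh j l)⁻¹ = D.x i j ((ω : F)⁻¹ * t) := by
  obtain ⟨σ, s0, s1⟩ := exists_two (p01 (m := m)) h
  have e0 : act σ⁻¹ l ≠ P0 := fun e => hl (by rw [← s0, ← e, ← act_mul, mul_inv_cancel]; rfl)
  have e1 : act σ⁻¹ l ≠ P1 := fun e => h' (by rw [← s1, ← e, ← act_mul, mul_inv_cancel]; rfl)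
  have := D.conj_x (Ne.symm e1) σ s0 s1 (D.act_col e0 e1) t
  rwa [← act_mul, mul_inv_cancel, s1] at this

theorem act_out {i j p q : Fin (m + 4)} (h : i ≠ j) (hpq : p ≠ q) (pi : p ≠ i) (pj : p ≠ j)
    (qi : q ≠ i) (qj : q ≠ j) (t : F) :
    D.hh p q * D.x i j t * (D.hh p q)⁻¹ = D.x i j t := by
  obtain ⟨σ, s0, s1⟩ := exists_two (p01 (m := m)) h
  have hs : ∀ z : Fin (m + 4), act σ (act σ⁻¹ z) = z := fun z => by
    rw [← act_mul, mul_inv_cancel]; rfl
  have a1 : act σ⁻¹ p ≠ P0 := fun e => pi (by rw [← s0, ← e, hs])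
  have a2 : act σ⁻¹ p ≠ P1 := fun e => pj (by rw [← s1, ← e, hs])
  have b1 : act σ⁻¹ q ≠ P0 := fun e => qi (by rw [← s0, ← e, hs])
  have b2 : act σ⁻¹ q ≠ P1 := fun e => qj (by rw [← s1, ← e, hs])
  have := D.conj_x (act_ne hpq) σ s0 s1 (c := 1)
    (fun t => by rw [one_mul]; exact D.act_disj (act_ne hpq) a1 a2 b1 b2 t) t
  rwa [hs, hs, one_mul] at this

theorem act_li {i j l : Fin (m + 4)} (h : i ≠ j) (h' : l ≠ j) (hl : i ≠ l) (t : F) :
    D.hh l i * D.x i j t * (D.hh l i)⁻¹ = D.x i j ((ω : F)⁻¹ * t) := by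
  have e := D.act_il h h' hl ((ω : F)⁻¹ * t)
  rw [← mul_assoc (ω : F), mul_inv_cancel₀ ω.ne_zero, one_mul] at e
  rw [D.hh_inv hl, ← e]
  group

theorem act_lj {i j l : Fin (m + 4)} (h : i ≠ j) (h' : l ≠ j) (hl : i ≠ l) (t : F) :
    D.hh l j * D.x i j t * (D.hh l j)⁻¹ = D.x i j (ω * t) := by
  have e := D.act_jl h h' hl (ω * t)
  rw [← mul_assoc, inv_mul_cancel₀ ω.ne_zero, one_mul] at e
  rw [D.hh_inv h'.symm, ← e]
  group

include D in
theorem all_step {c : F} (hc : c = ω ∨ c = (ω : F)⁻¹) {Q : F → Prop}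
    (h1 : Q 1) (hs : ∀ t, Q t → Q (c * t)) (t : F) (ht : t ≠ 0) : Q t := by
  have hp : ∀ i : ℕ, Q (c ^ i) := by
    intro i
    induction i with
    | zero => simpa using h1
    | succ i ih => rw [pow_succ']; exact hs _ ih
  rcases hc with rfl | rfl
  · obtain ⟨i, rfl⟩ := D.gen t ht; exact hp i
  · obtain ⟨i, hi⟩ := D.gen t⁻¹ (inv_ne_zero ht)
    have := hp i
    rwa [inv_pow, ← hi, inv_inv] at this

theorem x_zero (i j : Fin (m + 4)) : D.x i j 0 = 1 := by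
  rw [x, D.a_zero, map_one]

theorem x_add (i j : Fin (m + 4)) (t v : F) : D.x i j t * D.x i j v = D.x i j (t + v) := by
  simp only [x]; rw [← map_mul, D.a_add]

/-- spreading a commutation relation along a torus element -/
theorem comm_step {z : X} {i j k l : Fin (m + 4)} {c c' t v : F}
    (h1 : ∀ t, z * D.x i j t * z⁻¹ = D.x i j (c * t))
    (h2 : ∀ t, z * D.x k l t * z⁻¹ = D.x k l (c' * t)) (h : Commute (D.x i j t) (D.x k l v)) :
    Commute (D.x i j (c * t)) (D.x k l (c' * v)) := by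
  have := h.map (MulAut.conj z).toMonoidHom
  simpa [h1, h2] using this

theorem comm_all {i j k l : Fin (m + 4)} {z₁ z₂ : X} {c₁ c₂ : F}
    (hc₁ : c₁ = ω ∨ c₁ = (ω : F)⁻¹) (hc₂ : c₂ = ω ∨ c₂ = (ω : F)⁻¹)
    (a1 : ∀ t, z₁ * D.x i j t * z₁⁻¹ = D.x i j (c₁ * t))
    (a2 : ∀ t, z₁ * D.x k l t * z₁⁻¹ = D.x k l t)
    (b1 : ∀ t, z₂ * D.x i j t * z₂⁻¹ = D.x i j t)
    (b2 : ∀ t, z₂ * D.x k l t * z₂⁻¹ = D.x k l (c₂ * t))
    (h : Commute (D.x i j 1) (D.x k l 1)) (t v : F) : Commute (D.x i j t) (D.x k l v) := by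
  rcases eq_or_ne t 0 with rfl | ht
  · rw [x_zero]; exact Commute.one_left _
  rcases eq_or_ne v 0 with rfl | hv
  · rw [x_zero]; exact Commute.one_right _
  refine D.all_step hc₁ (Q := fun t => Commute (D.x i j t) (D.x k l v)) ?_ (fun t ht' => ?_) t ht
  · refine D.all_step hc₂ (Q := fun v => Commute (D.x i j 1) (D.x k l v)) h (fun v hv' => ?_) v hv
    simpa using D.comm_step (c := 1) (fun t => by simpa using b1 t) b2 hv'
  · simpa using D.comm_step (c' := 1) a1 (fun t => by simpa using a2 t) ht'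

theorem comm_first {i j l : Fin (m + 4)} (h : i ≠ j) (h' : j ≠ l) (hl : i ≠ l) (t v : F) :
    Commute (D.x i j t) (D.x i l v) := by
  have base : ∀ t v, Commute (D.x P0 P1 t) (D.x P0 P2 v) := by
    refine D.comm_all (z₁ := D.hh P1 P3) (z₂ := D.hh P2 P3) (Or.inr rfl) (Or.inr rfl)
      (D.act_jl (by simp [Fin.ext_iff]) (by simp [Fin.ext_iff]) (by simp [Fin.ext_iff]))
      (D.act_out ?_ ?_ ?_ ?_ ?_ ?_) (D.act_out ?_ ?_ ?_ ?_ ?_ ?_)
      (D.act_jl (by simp [Fin.ext_iff]) (by simp [Fin.ext_iff]) (by simp [Fin.ext_iff]))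
      (by rw [x01]; exact D.cf) <;> simp [Fin.ext_iff]
  obtain ⟨σ, hσ⟩ := exists_three (p := P0) (q := P1) (r := P2) (u := P1) (v := P2)
    (by simp [Fin.ext_iff]) (a := i) (b := j) (c := l) (by simp [h, h', hl])
    (by simp [Fin.ext_iff])
  rw [swap_apply_left, swap_apply_right,
    swap_apply_of_ne_of_ne (by simp [Fin.ext_iff]) (by simp [Fin.ext_iff])] at hσ
  rcases hσ with ⟨a, b, c⟩ | ⟨a, b, c⟩
  · have := (base v t).map (D.cj σ)
    rw [D.x_equiv σ (by simp [Fin.ext_iff]), D.x_equiv σ (by simp [Fin.ext_iff]), a, b, c] at this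
    exact this.symm
  · have := (base t v).map (D.cj σ)
    rwa [D.x_equiv σ (by simp [Fin.ext_iff]), D.x_equiv σ (by simp [Fin.ext_iff]), a, b, c] at this

theorem comm_second {i j l : Fin (m + 4)} (h : i ≠ j) (h' : j ≠ l) (hl : i ≠ l) (t v : F) :
    Commute (D.x i l t) (D.x j l v) := by
  have base : ∀ t v, Commute (D.x P0 P1 t) (D.x P2 P1 v) := by
    refine D.comm_all (z₁ := D.hh P0 P3) (z₂ := D.hh P2 P3) (Or.inl rfl) (Or.inl rfl)
      (D.act_il (by simp [Fin.ext_iff]) (by simp [Fin.ext_iff]) (by simp [Fin.ext_iff]))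
      (D.act_out ?_ ?_ ?_ ?_ ?_ ?_) (D.act_out ?_ ?_ ?_ ?_ ?_ ?_)
      (D.act_il (by simp [Fin.ext_iff]) (by simp [Fin.ext_iff]) (by simp [Fin.ext_iff]))
      (by rw [x01]; exact D.cs) <;> simp [Fin.ext_iff]
  obtain ⟨σ, hσ⟩ := exists_three (p := P0) (q := P2) (r := P1) (u := P0) (v := P2)
    (by simp [Fin.ext_iff]) (a := i) (b := j) (c := l) (by simp [h, h', hl])
    (by simp [Fin.ext_iff])
  rw [swap_apply_left, swap_apply_right,
    swap_apply_of_ne_of_ne (by simp [Fin.ext_iff]) (by simp [Fin.ext_iff])] at hσ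
  rcases hσ with ⟨a, b, c⟩ | ⟨a, b, c⟩
  · have := (base v t).map (D.cj σ)
    rw [D.x_equiv σ (by simp [Fin.ext_iff]), D.x_equiv σ (by simp [Fin.ext_iff]), a, b, c] at this
    exact this.symm
  · have := (base t v).map (D.cj σ)
    rwa [D.x_equiv σ (by simp [Fin.ext_iff]), D.x_equiv σ (by simp [Fin.ext_iff]), a, b, c] at this

theorem comm_disj_base {k l : Fin (m + 4)} (hkl : k ≠ l) (k0 : k ≠ P0) (k1 : k ≠ P1)
    (l0 : l ≠ P0) (l1 : l ≠ P1) (h1 : Commute (D.a 1) (D.x k l 1))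
    (h2 : Commute (D.a 1) (D.x k l ω)) (t v : F) : Commute (D.a t) (D.x k l v) := by
  rw [← x01] at h1 h2 ⊢
  have A1 : ∀ t, D.hh P0 l * D.x P0 P1 t * (D.hh P0 l)⁻¹ = D.x P0 P1 (ω * t) :=
    D.act_il p01 l1 l0.symm
  have A2 : ∀ t, D.hh P0 l * D.x k l t * (D.hh P0 l)⁻¹ = D.x k l (ω * t) :=
    D.act_lj hkl l0.symm k0
  have B1 : ∀ t, D.hh P0 k * D.x P0 P1 t * (D.hh P0 k)⁻¹ = D.x P0 P1 (ω * t) :=
    D.act_il p01 k1 k0.symm
  have B2 : ∀ t, D.hh P0 k * D.x k l t * (D.hh P0 k)⁻¹ = D.x k l ((ω : F)⁻¹ * t) :=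
    D.act_li hkl l0.symm k0
  have sq : ∀ v, Commute (D.x P0 P1 1) (D.x k l v) →
      Commute (D.x P0 P1 1) (D.x k l ((ω : F) * ω * v)) := by
    intro v hv
    have h3 := D.comm_step A1 A2 hv
    rw [mul_one] at h3
    have h4 := h3.map (MulAut.conj (D.hh P0 k)⁻¹).toMonoidHom
    have i1 : (D.hh P0 k)⁻¹ * D.x P0 P1 ω * D.hh P0 k = D.x P0 P1 1 := by
      rw [← mul_one (ω : F), ← B1]; group
    have i2 : (D.hh P0 k)⁻¹ * D.x k l (ω * v) * D.hh P0 k = D.x k l ((ω : F) * ω * v) := by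
      rw [show (ω : F) * v = (ω : F)⁻¹ * (ω * ω * v) by field_simp, ← B2]; group
    simp only [MulEquiv.coe_toMonoidHom, MulAut.conj_apply, inv_inv] at h4
    rwa [i1, i2] at h4
  have one : ∀ v, Commute (D.x P0 P1 1) (D.x k l v) := by
    have hp : ∀ i : ℕ, Commute (D.x P0 P1 1) (D.x k l ((ω : F) ^ i)) := by
      intro i
      induction i using Nat.twoStepInduction with
      | zero => simpa using h1
      | one => simpa using h2
      | more i ih _ =>
        have := sq _ ih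
        rwa [show (ω : F) * ω * ω ^ i = ω ^ (i + 2) by ring] at this
    intro v
    rcases eq_or_ne v 0 with rfl | hv
    · rw [x_zero]; exact Commute.one_right _
    · obtain ⟨i, rfl⟩ := D.gen v hv; exact hp i
  rcases eq_or_ne t 0 with rfl | ht
  · rw [x_zero]; exact Commute.one_left _
  refine D.all_step (Or.inl rfl) (Q := fun t => ∀ v, Commute (D.x P0 P1 t) (D.x k l v)) one
    (fun t ht' v => ?_) t ht v
  have := D.comm_step A1 A2 (ht' ((ω : F)⁻¹ * v))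
  rwa [← mul_assoc, mul_inv_cancel₀ ω.ne_zero, one_mul] at this

theorem comm_disj {i j k l : Fin (m + 4)} (hd : [i, j, k, l].Nodup) (t v : F) :
    Commute (D.x i j t) (D.x k l v) := by
  obtain ⟨σ, s0, s1, hs⟩ := exists_four (p := P0) (q := P1) (r := P2) (s := P3)
    (by simp [Fin.ext_iff]) hd
  have hkl : k ≠ l := by simp at hd; exact hd.2.2
  rcases hs with ⟨a, b⟩ | ⟨a, b⟩
  · have := (D.comm_disj_base (k := P2) (l := P3) (by simp [Fin.ext_iff]) (by simp [Fin.ext_iff])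
      (by simp [Fin.ext_iff]) (by simp [Fin.ext_iff]) (by simp [Fin.ext_iff]) D.cd1 D.cd2 t v).map
      (D.cj σ)
    rwa [← x01, D.x_equiv σ p01, D.x_equiv σ (by simp [Fin.ext_iff]), s0, s1, a, b] at this
  · have := (D.comm_disj_base (k := P3) (l := P2) (by simp [Fin.ext_iff]) (by simp [Fin.ext_iff])
      (by simp [Fin.ext_iff]) (by simp [Fin.ext_iff]) (by simp [Fin.ext_iff]) D.cd3 D.cd4 t v).map
      (D.cj σ)
    rwa [← x01, D.x_equiv σ p01, D.x_equiv σ (by simp [Fin.ext_iff]), s0, s1, a, b] at this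

theorem prod_step {z : X} {i j l : Fin (m + 4)} {c c' t v : F}
    (h1 : ∀ t, z * D.x i j t * z⁻¹ = D.x i j (c * t))
    (h2 : ∀ t, z * D.x j l t * z⁻¹ = D.x j l (c' * t))
    (h3 : ∀ t, z * D.x i l t * z⁻¹ = D.x i l (c * c' * t))
    (h : ⁅D.x i j t, D.x j l v⁆ = D.x i l (t * v)) :
    ⁅D.x i j (c * t), D.x j l (c' * v)⁆ = D.x i l (c * t * (c' * v)) := by
  have := congrArg (MulAut.conj z) h
  rw [map_commutatorElement, MulAut.conj_apply, MulAut.conj_apply, MulAut.conj_apply, h1, h2, h3]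
    at this
  rw [this]; congr 1; ring

theorem prod_base {k d : Fin (m + 4)} (hkd : k ≠ d) (k0 : k ≠ P0) (k1 : k ≠ P1) (d0 : d ≠ P0)
    (d1 : d ≠ P1) (h : ⁅D.a 1, D.x P1 k 1⁆ = D.x P0 k 1) (t v : F) :
    ⁅D.a t, D.x P1 k v⁆ = D.x P0 k (t * v) := by
  rw [← x01] at h ⊢
  rcases eq_or_ne t 0 with rfl | ht
  · rw [x_zero, zero_mul, x_zero, commutatorElement_one_left]
  rcases eq_or_ne v 0 with rfl | hv
  · rw [x_zero, mul_zero, x_zero, commutatorElement_one_right]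
  refine D.all_step (Or.inl rfl)
    (Q := fun t => ⁅D.x P0 P1 t, D.x P1 k v⁆ = D.x P0 k (t * v)) ?_ (fun t ht' => ?_) t ht
  · refine D.all_step (Or.inr rfl)
      (Q := fun v => ⁅D.x P0 P1 1, D.x P1 k v⁆ = D.x P0 k (1 * v)) (by simpa using h)
      (fun v hv' => ?_) v hv
    have := D.prod_step (z := D.hh k d) (c := 1) (c' := (ω : F)⁻¹)
      (fun t => by rw [one_mul]; exact D.act_out p01 hkd k0 k1 d0 d1 t)
      (D.act_jl k1.symm hkd.symm d1.symm)
      (fun t => by rw [one_mul]; exact D.act_jl k0.symm hkd.symm d0.symm t) hv'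
    simpa using this
  · have := D.prod_step (z := D.hh P0 d) (c := ω) (c' := 1)
      (D.act_il p01 d1 d0.symm)
      (fun t => by
        rw [one_mul]; exact D.act_out k1.symm d0.symm p01 k0.symm d1 hkd.symm t)
      (fun t => by rw [mul_one]; exact D.act_il k0.symm hkd.symm d0.symm t) ht'
    simpa using this

theorem prod {i j l : Fin (m + 4)} (h : i ≠ j) (h' : j ≠ l) (hl : i ≠ l) (t v : F) :
    ⁅D.x i j t, D.x j l v⁆ = D.x i l (t * v) := by
  obtain ⟨σ, hσ⟩ := exists_three (p := P0) (q := P1) (r := P2) (u := P2) (v := P3)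
    (by simp [Fin.ext_iff]) (a := i) (b := j) (c := l) (by simp [h, h', hl])
    (by simp [Fin.ext_iff])
  rw [swap_apply_left, swap_apply_of_ne_of_ne (by simp [Fin.ext_iff]) (by simp [Fin.ext_iff]),
    swap_apply_of_ne_of_ne (by simp [Fin.ext_iff]) (by simp [Fin.ext_iff])] at hσ
  rcases hσ with ⟨a, b, c⟩ | ⟨a, b, c⟩
  · have := congrArg (D.cj σ) (D.prod_base (k := P3) (d := P2) (by simp [Fin.ext_iff])
      (by simp [Fin.ext_iff]) (by simp [Fin.ext_iff]) (by simp [Fin.ext_iff])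
      (by simp [Fin.ext_iff]) D.p2 t v)
    rwa [← x01, map_commutatorElement, D.x_equiv σ p01, D.x_equiv σ (by simp [Fin.ext_iff]),
      D.x_equiv σ (by simp [Fin.ext_iff]), a, b, c] at this
  · have := congrArg (D.cj σ) (D.prod_base (k := P2) (d := P3) (by simp [Fin.ext_iff])
      (by simp [Fin.ext_iff]) (by simp [Fin.ext_iff]) (by simp [Fin.ext_iff])
      (by simp [Fin.ext_iff]) D.p1 t v)
    rwa [← x01, map_commutatorElement, D.x_equiv σ p01, D.x_equiv σ (by simp [Fin.ext_iff]),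
      D.x_equiv σ (by simp [Fin.ext_iff]), a, b, c] at this

theorem rel : StSL.Rel D.x where
  add _ t v := D.x_add _ _ t v
  comm {i j k l} h h' hil hjk t v := by
    rcases eq_or_ne i k with rfl | hik
    · rcases eq_or_ne j l with rfl | hjl
      · show _ = _
        rw [D.x_add, D.x_add, add_comm]
      · exact D.comm_first h hjl h' t v
    · rcases eq_or_ne j l with rfl | hjl
      · exact D.comm_second hik h' h t v
      · refine D.comm_disj ?_ t v
        simp [h, h', hil, hjk, hik, hjl]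
  prod := D.prod

include D in
/-- The homomorphism. -/
theorem exists_hom [Finite F] :
    ∃ φ : Matrix.SpecialLinearGroup (Fin (m + 4)) F →* X,
      ∀ i j, i ≠ j → ∀ t, φ (StSL.tv i j t) = D.x i j t :=
  StSL.exists_hom (by omega) D.rel

end Data

end CfsgLib.Pres.SLData
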