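import Cfsg.Agent.Lib.Pres.OnGens
import Cfsg.Agent.S2530

/-!
The Coxeter presentation of a symmetric group, as presentation data.
-/

set_option autoImplicit false

namespace CfsgLib.Pres.SymSmall

open Equiv

theorem presData_cox (m : ℕ) : ∃ (f : Fin m → Perm (Fin (m + 1))) (L : List (FreeGroup (Fin m))),
    L.length ≤ m * m ∧ PresData f L := by
  obtain ⟨cs, -⟩ := Cfsg.Agent.S2530.result m
  refine ⟨cs.simple, (Finset.univ : Finset (Fin m × Fin m)).toList.map (fun ij =>
    (FreeGroup.of ij.1 * FreeGroup.of ij.2) ^ CoxeterMatrix.A m ij.1 ij.2), by simp,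
    fun w hw => ?_, ?_, fun X _ x hx _ => ?_⟩
  · obtain ⟨ij, -, rfl⟩ := List.mem_map.1 hw
    rw [map_pow, map_mul, FreeGroup.lift_apply_of, FreeGroup.lift_apply_of]
    exact cs.simple_mul_simple_pow ij.1 ij.2
  · exact cs.subgroup_closure_range_simple
  · have hlift : ∀ i j, (x i * x j) ^ CoxeterMatrix.A m i j = 1 := fun i j => by
      have := hx _ (List.mem_map.2 ⟨(i, j), by simp, rfl⟩)
      simpa using this
    exact ⟨cs.lift ⟨x, hlift⟩, fun i => cs.lift_apply_simple hlift i⟩

end CfsgLib.Pres.SymSmall
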