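import Cfsg.Agent.Lib.Pres.OnGens

/-!
A presentation on two prescribed generators, with two more relations.
-/

set_option autoImplicit false

namespace CfsgLib.Pres

variable {G : Type*} [Group G] {ι : Type}

theorem PresData.two {f : ι → G} {L : List (FreeGroup ι)} (h : PresData f L) {a b : G}
    (hab : Subgroup.closure {a, b} = ⊤) :
    ∃ L' : List (FreeGroup (Fin 2)), L'.length = L.length + 2 ∧ PresData ![a, b] L' := by
  have hr : Set.range ![a, b] = {a, b} := by simp [Matrix.range_cons, Matrix.range_empty, Set.pair_comm]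
  have hgen : Subgroup.closure (Set.range ![a, b]) = ⊤ := by rw [hr, hab]
  choose w hw using fun i => exists_word hgen (f i)
  choose u hu using fun j : Fin 2 => exists_word h.2.1 (![a, b] j)
  let σ : FreeGroup ι →* FreeGroup (Fin 2) := FreeGroup.lift w
  have hσf : ∀ v, FreeGroup.lift ![a, b] (σ v) = FreeGroup.lift f v := fun v =>
    DFunLike.congr_fun (FreeGroup.ext_hom ((FreeGroup.lift ![a, b]).comp σ) (FreeGroup.lift f)
      fun i => by simp [σ, hw]) v
  refine ⟨L.map σ ++ [σ (u 0) * (FreeGroup.of 0)⁻¹, σ (u 1) * (FreeGroup.of 1)⁻¹], by simp,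
    fun v hv => ?_, hgen, fun X _ x hx hc => ?_⟩
  · rcases List.mem_append.1 hv with hv | hv
    · obtain ⟨v', hv', rfl⟩ := List.mem_map.1 hv
      rw [hσf, h.1 v' hv']
    · simp only [List.mem_cons, List.not_mem_nil, or_false] at hv
      rcases hv with rfl | rfl <;> simp [hσf, hu]
  · have hσx : ∀ v, FreeGroup.lift x (σ v) = FreeGroup.lift (fun i => FreeGroup.lift x (w i)) v :=
      fun v => DFunLike.congr_fun (FreeGroup.ext_hom ((FreeGroup.lift x).comp σ)
        (FreeGroup.lift fun i => FreeGroup.lift x (w i)) fun i => by simp [σ]) v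
    obtain ⟨φ, hφ⟩ := h.lift X (fun i => FreeGroup.lift x (w i))
      (fun v hv => by rw [← hσx]; exact hx _ (List.mem_append_left _ (List.mem_map_of_mem hv)))
    refine ⟨φ, fun j => ?_⟩
    have e : φ (![a, b] j) = FreeGroup.lift x (σ (u j)) := by
      rw [hσx, ← hu j]
      exact DFunLike.congr_fun (FreeGroup.ext_hom (φ.comp (FreeGroup.lift f))
        (FreeGroup.lift fun i => FreeGroup.lift x (w i)) fun i => by simp [hφ]) (u j)
    have hj := hx (σ (u j) * (FreeGroup.of j)⁻¹) (List.mem_append_right _ (by fin_cases j <;> simp))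
    rw [map_mul, map_inv, FreeGroup.lift_apply_of, mul_inv_eq_one] at hj
    rw [e, hj]

end CfsgLib.Pres
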