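import Cfsg.Agent.Lib.Pres.SLWords
import Cfsg.Agent.S2530
import Cfsg.Agent.Lib.Pres.SymAll

/-!
A presentation of `SL_3` with the symmetric group on three letters acting on the root subgroups.
-/

set_option autoImplicit false

namespace CfsgLib.Pres.SLThree

open Equiv Matrix
open scoped commutatorElement

/-- The Coxeter presentation of the symmetric group. -/
theorem hasPres_perm_succ (k : ℕ) : HasPres (Perm (Fin (k + 1))) (k * k) := by
  obtain ⟨cs, hcs⟩ := Cfsg.Agent.S2530.result k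
  let rw' : Fin k × Fin k → FreeGroup (Fin k) := fun e =>
    (FreeGroup.of e.1 * FreeGroup.of e.2) ^ CoxeterMatrix.A k e.1 e.2
  have hlift : ∀ {Y : Type} [Group Y] (x : Fin k → Y) (e : Fin k × Fin k),
      FreeGroup.lift x (rw' e) = (x e.1 * x e.2) ^ CoxeterMatrix.A k e.1 e.2 := fun x e => by
    simp [rw', map_pow]
  refine hasPres_of (fun i : Fin k => swap i.castSucc i.succ)
    ((Finset.univ : Finset (Fin k × Fin k)).toList.map rw') (by simp) ?_
    (SymAll.closure_adj k) fun X _ x hx _ => ?_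
  · intro w hw
    obtain ⟨e, -, rfl⟩ := List.mem_map.1 hw
    rw [hlift, ← hcs, ← hcs]
    exact cs.simple_mul_simple_pow e.1 e.2
  · have hl : CoxeterMatrix.IsLiftable (CoxeterMatrix.A k) x := fun i j => by
      have := hx (rw' (i, j)) (List.mem_map.2 ⟨(i, j), by simp, rfl⟩)
      rwa [hlift] at this
    exact ⟨cs.lift ⟨x, hl⟩, fun i => by rw [← hcs]; exact cs.lift_apply_simple hl i⟩

/-- The group acting on the indices. -/
abbrev K := Perm (Fin 3)

theorem exists_move {p q a b : Fin 3} (hp : p ≠ q) (ha : a ≠ b) : ∃ σ : K, σ p = a ∧ σ q = b :=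
  AltMono.exists_perm2 hp ha

/-- Two values determine a permutation of three letters. -/
theorem eq_one_of_two {σ : K} {p q : Fin 3} (hpq : p ≠ q) (hp : σ p = p) (hq : σ q = q) :
    σ = 1 := by
  revert p q σ
  decide

/-- A chosen element moving a standard pair to a given one. -/
noncomputable def mv (p q a b : Fin 3) : K := by
  classical exact if h : p ≠ q ∧ a ≠ b then (exists_move h.1 h.2).choose else 1

theorem mv_spec {p q a b : Fin 3} (hp : p ≠ q) (ha : a ≠ b) :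
    mv p q a b p = a ∧ mv p q a b q = b := by
  classical
  rw [mv, dif_pos ⟨hp, ha⟩]
  exact (exists_move hp ha).choose_spec

theorem mv_eq {p q a b : Fin 3} (hp : p ≠ q) (ha : a ≠ b) {σ : K} (h1 : σ p = a) (h2 : σ q = b) :
    mv p q a b = σ := by
  obtain ⟨e1, e2⟩ := mv_spec hp ha
  have := eq_one_of_two (σ := σ⁻¹ * mv p q a b) hp (by simp only [Perm.mul_apply, e1]; simp [← h1]) (by simp only [Perm.mul_apply, e2]; simp [← h2])
  rwa [inv_mul_eq_one, eq_comm] at this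

variable {X : Type*} [Group X]

/-- The conjugates of the torus element. -/
noncomputable def H (ψ : K → X) (h : X) (a b : Fin 3) : X :=
  ψ (mv 0 2 a b) * h * (ψ (mv 0 2 a b))⁻¹

/-- The conjugates of a root element. -/
noncomputable def Xc (ψ : K → X) (u : X) (a b : Fin 3) : X :=
  ψ (mv 0 1 a b) * u * (ψ (mv 0 1 a b))⁻¹

theorem map_H {Y Z : Type*} [Group Y] [Group Z] (g : Y →* Z) (ψ : K → Y) (h : Y) (a b : Fin 3) :
    g (H ψ h a b) = H (fun k => g (ψ k)) (g h) a b := by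
  simp [H]

theorem map_Xc {Y Z : Type*} [Group Y] [Group Z] (g : Y →* Z) (ψ : K → Y) (u : Y) (a b : Fin 3) :
    g (Xc ψ u a b) = Xc (fun k => g (ψ k)) (g u) a b := by
  simp [Xc]

variable {F : Type*} [Field F]

/-- The data and the conditions. -/
structure Data (F : Type*) [Field F] (ω : Fˣ) (X : Type*) [Group X] where
  ψ : K →* X
  a : F → X
  h : X
  gen : ∀ t : F, t ≠ 0 → ∃ i : ℕ, t = (ω : F) ^ i
  a_add : ∀ t v, a t * a v = a (t + v)
  a_pow : ∀ i : ℕ, a ((ω : F) ^ i) = h ^ i * a 1 * (h ^ i)⁻¹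
  a_h : ∀ t, h * a t * h⁻¹ = a (ω * t)
  rev : ψ (swap 0 2) * h * (ψ (swap 0 2))⁻¹ = h⁻¹
  prodH : h = H ψ h 0 1 * H ψ h 1 2
  tc : Commute (H ψ h 0 1) h
  col : Commute (h * H ψ h 1 2) (a 1)
  cf : ∀ i < 3, Commute (a 1) (Xc ψ (a ((ω : F) ^ i)) 0 2)
  cs : ∀ i < 3, Commute (a 1) (Xc ψ (a ((ω : F) ^ i)) 2 1)
  pr : ∀ i < 3, ⁅a 1, Xc ψ (a ((ω : F) ^ i)) 1 2⁆ = Xc ψ (a ((ω : F) ^ i)) 0 2

namespace Data

variable {ω : Fˣ} (D : Data F ω X)

/-- conjugation by a permutation -/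
def cj (σ : K) : X →* X := (MulAut.conj (D.ψ σ)).toMonoidHom

theorem cj_apply (σ : K) (y : X) : D.cj σ y = D.ψ σ * y * (D.ψ σ)⁻¹ := rfl

theorem cj_cj (σ τ : K) (y : X) : D.cj σ (D.cj τ y) = D.cj (σ * τ) y := by
  rw [cj_apply, cj_apply, cj_apply, map_mul]
  group

theorem cj_one (y : X) : D.cj 1 y = y := by simp [cj_apply]

/-- all conjugates of the torus element -/
noncomputable def hh (i j : Fin 3) : X := H D.ψ D.h i j

/-- all root elements -/
noncomputable def x (i j : Fin 3) (t : F) : X := D.cj (mv 0 1 i j) (D.a t)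

theorem hh_equiv (σ : K) {i j : Fin 3} (h : i ≠ j) : D.cj σ (D.hh i j) = D.hh (σ i) (σ j) := by
  obtain ⟨e1, e2⟩ := mv_spec (p := 0) (q := 2) (by decide) h
  show D.cj σ (D.cj (mv 0 2 i j) D.h) = D.cj (mv 0 2 (σ i) (σ j)) D.h
  rw [cj_cj, mv_eq (σ := σ * mv 0 2 i j) (by decide) (fun e => h (σ.injective e)) (by simp [e1])
    (by simp [e2])]

theorem x_equiv (σ : K) {i j : Fin 3} (h : i ≠ j) (t : F) :
    D.cj σ (D.x i j t) = D.x (σ i) (σ j) t := by
  obtain ⟨e1, e2⟩ := mv_spec (p := 0) (q := 1) (by decide) h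
  show D.cj σ (D.cj (mv 0 1 i j) _) = D.cj (mv 0 1 (σ i) (σ j)) _
  rw [cj_cj, mv_eq (σ := σ * mv 0 1 i j) (by decide) (fun e => h (σ.injective e)) (by simp [e1])
    (by simp [e2])]

theorem hh02 : D.hh 0 2 = D.h := by
  show D.cj (mv 0 2 0 2) D.h = D.h
  rw [mv_eq (p := (0 : Fin 3)) (q := 2) (a := 0) (b := 2) (σ := 1) (by decide) (by decide) rfl rfl,
    cj_one]

theorem x01 (t : F) : D.x 0 1 t = D.a t := by
  show D.cj (mv 0 1 0 1) (D.a t) = D.a t
  rw [mv_eq (p := (0 : Fin 3)) (q := 1) (a := 0) (b := 1) (σ := 1) (by decide) (by decide) rfl rfl,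
    cj_one]

theorem hh20 : D.hh 2 0 = D.h⁻¹ := by
  show D.cj (mv 0 2 2 0) D.h = D.h⁻¹
  rw [mv_eq (σ := swap 0 2) (by decide) (by decide) (by decide) (by decide), cj_apply]
  exact D.rev

theorem hh_inv {i j : Fin 3} (h : i ≠ j) : D.hh j i = (D.hh i j)⁻¹ := by
  obtain ⟨σ, s0, s2⟩ := exists_move (p := 0) (q := 2) (by decide) h
  rw [← s2, ← s0, ← D.hh_equiv σ (by decide), ← D.hh_equiv σ (by decide), hh20, hh02, map_inv]

theorem hh_prod : D.hh 0 2 = D.hh 0 1 * D.hh 1 2 := D.hh02.trans D.prodH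

theorem a_zero : D.a 0 = 1 := by
  have := D.a_add 0 0
  rwa [add_zero, mul_eq_left] at this

theorem scale {z : X} (hz : Commute z D.h) {c : F} (hc : z * D.a 1 * z⁻¹ = D.a c) (t : F) :
    z * D.a t * z⁻¹ = D.a (c * t) := by
  rcases eq_or_ne t 0 with rfl | ht
  · rw [mul_zero, D.a_zero, mul_one, mul_inv_cancel]
  obtain ⟨i, rfl⟩ := D.gen t ht
  have hp : ∀ i : ℕ, ∀ v, D.h ^ i * D.a v * (D.h ^ i)⁻¹ = D.a ((ω : F) ^ i * v) := by
    intro i
    induction i with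
    | zero => simp
    | succ i ih =>
      intro v
      rw [pow_succ' (ω : F), mul_assoc (ω : F), ← D.a_h, ← ih, pow_succ']
      group
  rw [D.a_pow, mul_comm c, ← hp i c, ← hc]
  have hzi : z * D.h ^ i = D.h ^ i * z := (hz.pow_right i).eq
  calc z * (D.h ^ i * D.a 1 * (D.h ^ i)⁻¹) * z⁻¹
      = (z * D.h ^ i) * D.a 1 * (z * D.h ^ i)⁻¹ := by group
    _ = (D.h ^ i * z) * D.a 1 * (D.h ^ i * z)⁻¹ := by rw [hzi]
    _ = D.h ^ i * (z * D.a 1 * z⁻¹) * (D.h ^ i)⁻¹ := by group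

theorem h12_comm : Commute (D.hh 1 2) D.h := by
  have h1 : Commute (D.hh 0 1) D.h := D.tc
  have e : D.hh 1 2 = (D.hh 0 1)⁻¹ * D.h := by
    rw [← D.hh02, D.hh_prod, inv_mul_cancel_left]
  rw [e]
  exact h1.inv_left.mul_left (Commute.refl _)

theorem act02 (t : F) : D.hh 0 2 * D.x 0 1 t * (D.hh 0 2)⁻¹ = D.x 0 1 (ω * t) := by
  rw [hh02, x01, x01, D.a_h]

theorem act12 (t : F) : D.hh 1 2 * D.x 0 1 t * (D.hh 1 2)⁻¹ = D.x 0 1 ((ω : F)⁻¹ * t) := by
  rw [x01, x01]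
  have hc : D.h * D.hh 1 2 * D.a t * (D.h * D.hh 1 2)⁻¹ = D.a t := by
    simpa using D.scale (z := D.h * D.hh 1 2) ((Commute.refl D.h).mul_left D.h12_comm) (c := 1)
      (mul_inv_eq_iff_eq_mul.2 D.col.eq) t
  have := D.a_h ((ω : F)⁻¹ * t)
  rw [← mul_assoc (ω : F), mul_inv_cancel₀ ω.ne_zero, one_mul] at this
  calc D.hh 1 2 * D.a t * (D.hh 1 2)⁻¹
      = D.h⁻¹ * (D.h * D.hh 1 2 * D.a t * (D.h * D.hh 1 2)⁻¹) * D.h := by group
    _ = D.h⁻¹ * D.a t * D.h := by rw [hc]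
    _ = D.a ((ω : F)⁻¹ * t) := by rw [← this]; group

theorem act01 (t : F) : D.hh 0 1 * D.x 0 1 t * (D.hh 0 1)⁻¹ = D.x 0 1 ((ω : F) * ω * t) := by
  have e : D.hh 0 1 = D.hh 0 2 * (D.hh 1 2)⁻¹ := by rw [D.hh_prod, mul_inv_cancel_right]
  have h12 := D.act12 ((ω : F) * t)
  rw [← mul_assoc (ω : F)⁻¹, inv_mul_cancel₀ ω.ne_zero, one_mul] at h12
  calc D.hh 0 1 * D.x 0 1 t * (D.hh 0 1)⁻¹
      = D.hh 0 2 * ((D.hh 1 2)⁻¹ * D.x 0 1 t * D.hh 1 2) * (D.hh 0 2)⁻¹ := by rw [e]; group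
    _ = D.hh 0 2 * D.x 0 1 (ω * t) * (D.hh 0 2)⁻¹ := by
        conv_lhs => rw [← h12]
        group
    _ = D.x 0 1 ((ω : F) * ω * t) := by rw [act02, mul_assoc]

theorem conj_x (σ : K) {p q i j a b : Fin 3} (hpq : p ≠ q) (si : σ 0 = i) (sj : σ 1 = j)
    (sp : σ p = a) (sq : σ q = b) {c : F}
    (h : ∀ t, D.hh p q * D.x 0 1 t * (D.hh p q)⁻¹ = D.x 0 1 (c * t)) (t : F) :
    D.hh a b * D.x i j t * (D.hh a b)⁻¹ = D.x i j (c * t) := by
  rw [← sp, ← sq, ← si, ← sj, ← D.hh_equiv σ hpq, ← D.x_equiv σ (by decide),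
    ← D.x_equiv σ (by decide), ← map_inv, ← map_mul, ← map_mul, h]

theorem inv_act {z : X} {i j : Fin 3} {c : F} (hc : c ≠ 0)
    (h : ∀ t, z * D.x i j t * z⁻¹ = D.x i j (c * t)) (t : F) :
    z⁻¹ * D.x i j t * z⁻¹⁻¹ = D.x i j (c⁻¹ * t) := by
  have := h (c⁻¹ * t)
  rw [← mul_assoc, mul_inv_cancel₀ hc, one_mul] at this
  rw [← this]; group

theorem mul_act {y z : X} {i j : Fin 3} {c d : F}
    (h : ∀ t, y * D.x i j t * y⁻¹ = D.x i j (c * t))
    (h' : ∀ t, z * D.x i j t * z⁻¹ = D.x i j (d * t)) (t : F) :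
    y * z * D.x i j t * (y * z)⁻¹ = D.x i j (c * d * t) := by
  rw [mul_assoc c, ← h, ← h']; group

theorem x_zero (i j : Fin 3) : D.x i j 0 = 1 := by
  rw [x, D.a_zero, map_one]

theorem x_add (i j : Fin 3) (t v : F) : D.x i j t * D.x i j v = D.x i j (t + v) := by
  simp only [x]; rw [← map_mul, D.a_add]

include D in
/-- Spreading from three cases. -/
theorem spread {Q : F → F → Prop} (h0 : ∀ i < 3, Q 1 ((ω : F) ^ i)) {c : F} (hc : c ≠ 0)
    (hs : ∀ t v, Q t v → Q t ((ω : F) ^ 3 * v)) (ht' : ∀ t v, Q t v → Q (ω * t) (c * v))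
    (z1 : ∀ v, Q 0 v) (z2 : ∀ t, Q t 0) (t v : F) : Q t v := by
  have hp : ∀ k : ℕ, Q 1 ((ω : F) ^ k) := by
    intro k
    induction k using Nat.strong_induction_on with
    | _ k ih =>
      rcases Nat.lt_or_ge k 3 with hk | hk
      · exact h0 k hk
      · have := hs _ _ (ih (k - 3) (by omega))
        rwa [← pow_add, show 3 + (k - 3) = k by omega] at this
  have one : ∀ v, Q 1 v := fun v => by
    rcases eq_or_ne v 0 with rfl | hv
    · exact z2 1
    · obtain ⟨k, rfl⟩ := D.gen v hv; exact hp k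
  rcases eq_or_ne t 0 with rfl | ht
  · exact z1 v
  obtain ⟨k, rfl⟩ := D.gen t ht
  clear ht
  induction k generalizing v with
  | zero => simpa using one v
  | succ k ih =>
    have := ht' _ _ (ih (c⁻¹ * v))
    rwa [← mul_assoc c, mul_inv_cancel₀ hc, one_mul, ← pow_succ'] at this

theorem comm_step {z : X} {i j k l : Fin 3} {c c' t v : F}
    (h1 : ∀ t, z * D.x i j t * z⁻¹ = D.x i j (c * t))
    (h2 : ∀ t, z * D.x k l t * z⁻¹ = D.x k l (c' * t)) (h : Commute (D.x i j t) (D.x k l v)) :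
    Commute (D.x i j (c * t)) (D.x k l (c' * v)) := by
  have := h.map (MulAut.conj z).toMonoidHom
  simpa [h1, h2] using this

theorem comm_spread {k l : Fin 3} {z₁ z₂ : X} {c₂ d₁ d₂ : F}
    (a1 : ∀ t, z₁ * D.x 0 1 t * z₁⁻¹ = D.x 0 1 (d₁ * t)) (hd₁ : d₁ = 1)
    (a2 : ∀ t, z₁ * D.x k l t * z₁⁻¹ = D.x k l (d₂ * t)) (hd₂ : d₂ = (ω : F) ^ 3)
    (b1 : ∀ t, z₂ * D.x 0 1 t * z₂⁻¹ = D.x 0 1 ((ω : F) * t))
    (b2 : ∀ t, z₂ * D.x k l t * z₂⁻¹ = D.x k l (c₂ * t)) (hc₂ : c₂ ≠ 0)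
    (h0 : ∀ i < 3, Commute (D.a 1) (Xc D.ψ (D.a ((ω : F) ^ i)) k l)) (t v : F) :
    Commute (D.x 0 1 t) (D.x k l v) := by
  subst hd₁ hd₂
  refine D.spread (Q := fun t v => Commute (D.x 0 1 t) (D.x k l v))
    (fun i hi => by rw [x01]; exact h0 i hi) hc₂
    (fun t v h => by simpa using D.comm_step a1 a2 h) (fun t v h => D.comm_step b1 b2 h)
    (fun v => by rw [x_zero]; exact Commute.one_left _)
    (fun t => by rw [x_zero]; exact Commute.one_right _) t v

theorem comm_first {i j l : Fin 3} (h : i ≠ j) (h' : j ≠ l) (hl : i ≠ l) (t v : F) :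
    Commute (D.x i j t) (D.x i l v) := by
  have hω := ω.ne_zero
  have b2 : ∀ t, D.hh 0 2 * D.x 0 2 t * (D.hh 0 2)⁻¹ = D.x 0 2 ((ω : F) * ω * t) :=
    D.conj_x (p := 0) (q := 1) (swap 1 2) (by decide) (by decide) (by decide) (by decide)
      (by decide) D.act01
  have c2 : ∀ t, D.hh 0 1 * D.x 0 2 t * (D.hh 0 1)⁻¹ = D.x 0 2 ((ω : F) * t) :=
    D.conj_x (p := 0) (q := 2) (swap 1 2) (by decide) (by decide) (by decide) (by decide)
      (by decide) D.act02
  have base : ∀ t v, Commute (D.x 0 1 t) (D.x 0 2 v) :=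
    D.comm_spread (z₁ := D.hh 0 2 * D.hh 0 2 * (D.hh 0 1)⁻¹) (z₂ := D.hh 0 2)
      (D.mul_act (D.mul_act D.act02 D.act02) (D.inv_act (by simp) D.act01)) (by field_simp)
      (D.mul_act (D.mul_act b2 b2) (D.inv_act hω c2)) (by field_simp)
      D.act02 b2 (by simp) D.cf
  obtain ⟨σ, s0, s1, s2⟩ := AltMono.exists_perm3 (p := (0 : Fin 3)) (q := 1) (r := 2) (by decide)
    (a := i) (b := j) (c := l) (by simp [h, h', hl])
  have := (base t v).map (D.cj σ)
  rwa [D.x_equiv σ (by decide), D.x_equiv σ (by decide), s0, s1, s2] at this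

theorem comm_second {i j l : Fin 3} (h : i ≠ j) (h' : j ≠ l) (hl : i ≠ l) (t v : F) :
    Commute (D.x i l t) (D.x j l v) := by
  have hω := ω.ne_zero
  have b20 : ∀ t, D.hh 2 0 * D.x 2 1 t * (D.hh 2 0)⁻¹ = D.x 2 1 ((ω : F) * t) :=
    D.conj_x (p := 0) (q := 2) (swap 0 2) (by decide) (by decide) (by decide) (by decide)
      (by decide) D.act02
  have b21 : ∀ t, D.hh 2 1 * D.x 2 1 t * (D.hh 2 1)⁻¹ = D.x 2 1 ((ω : F) * ω * t) :=
    D.conj_x (p := 0) (q := 1) (swap 0 2) (by decide) (by decide) (by decide) (by decide)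
      (by decide) D.act01
  have base : ∀ t v, Commute (D.x 0 1 t) (D.x 2 1 v) :=
    D.comm_spread (z₁ := (D.hh 0 2 * D.hh 1 2)⁻¹) (z₂ := D.hh 0 2)
      (D.inv_act (by simp) (D.mul_act D.act02 D.act12)) (by field_simp)
      (d₂ := ((ω : F)⁻¹ * ((ω : F) * ω)⁻¹)⁻¹)
      (by
        have e : D.hh 0 2 * D.hh 1 2 = (D.hh 2 0)⁻¹ * (D.hh 2 1)⁻¹ := by
          rw [D.hh_inv (i := 2) (j := 0) (by decide), D.hh_inv (i := 2) (j := 1) (by decide)]
        rw [e]
        exact D.inv_act (by simp) (D.mul_act (D.inv_act hω b20) (D.inv_act (by simp) b21)))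
      (by field_simp) (c₂ := (ω : F)⁻¹)
      D.act02 (by rw [D.hh_inv (i := 2) (j := 0) (by decide)]; exact D.inv_act hω b20) (by simp)
      D.cs
  obtain ⟨σ, s0, s1, s2⟩ := AltMono.exists_perm3 (p := (0 : Fin 3)) (q := 2) (r := 1) (by decide)
    (a := i) (b := j) (c := l) (by simp [h, h', hl])
  have := (base t v).map (D.cj σ)
  rwa [D.x_equiv σ (by decide), D.x_equiv σ (by decide), s0, s1, s2] at this

theorem prod_step {z : X} {i j l : Fin 3} {c c' c'' t v : F}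
    (h1 : ∀ t, z * D.x i j t * z⁻¹ = D.x i j (c * t))
    (h2 : ∀ t, z * D.x j l t * z⁻¹ = D.x j l (c' * t))
    (h3 : ∀ t, z * D.x i l t * z⁻¹ = D.x i l (c'' * t)) (hc : c'' = c * c')
    (h : ⁅D.x i j t, D.x j l v⁆ = D.x i l (t * v)) :
    ⁅D.x i j (c * t), D.x j l (c' * v)⁆ = D.x i l (c * t * (c' * v)) := by
  subst hc
  have := congrArg (MulAut.conj z) h
  rw [map_commutatorElement, MulAut.conj_apply, MulAut.conj_apply, MulAut.conj_apply, h1, h2, h3]
    at this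
  rw [this]; congr 1; ring

theorem prod {i j l : Fin 3} (h : i ≠ j) (h' : j ≠ l) (hl : i ≠ l) (t v : F) :
    ⁅D.x i j t, D.x j l v⁆ = D.x i l (t * v) := by
  have hω := ω.ne_zero
  have b02 : ∀ t, D.hh 0 2 * D.x 0 2 t * (D.hh 0 2)⁻¹ = D.x 0 2 ((ω : F) * ω * t) :=
    D.conj_x (p := 0) (q := 1) (swap 1 2) (by decide) (by decide) (by decide) (by decide)
      (by decide) D.act01
  have b01 : ∀ t, D.hh 0 1 * D.x 0 2 t * (D.hh 0 1)⁻¹ = D.x 0 2 ((ω : F) * t) :=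
    D.conj_x (p := 0) (q := 2) (swap 1 2) (by decide) (by decide) (by decide) (by decide)
      (by decide) D.act02
  have c02 : ∀ t, D.hh 0 2 * D.x 1 2 t * (D.hh 0 2)⁻¹ = D.x 1 2 ((ω : F) * t) := by
    have := D.conj_x (p := 1) (q := 2) (i := 1) (j := 2) (a := 2) (b := 0)
      (swap 0 1 * swap 1 2) (by decide) (by decide) (by decide) (by decide) (by decide) D.act12
    rw [D.hh_inv (i := 2) (j := 0) (by decide)]
    intro t
    rw [D.inv_act (inv_ne_zero hω) this, inv_inv]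
  have c01 : ∀ t, D.hh 0 1 * D.x 1 2 t * (D.hh 0 1)⁻¹ = D.x 1 2 ((ω : F)⁻¹ * t) := by
    have := D.conj_x (p := 0) (q := 2) (i := 1) (j := 2) (a := 1) (b := 0)
      (swap 0 1 * swap 1 2) (by decide) (by decide) (by decide) (by decide) (by decide) D.act02
    rw [D.hh_inv (i := 1) (j := 0) (by decide)]
    exact D.inv_act hω this
  have base : ∀ t v, ⁅D.x 0 1 t, D.x 1 2 v⁆ = D.x 0 2 (t * v) := by
    refine D.spread (Q := fun t v => ⁅D.x 0 1 t, D.x 1 2 v⁆ = D.x 0 2 (t * v))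
      (fun i hi => by rw [x01, one_mul]; exact D.pr i hi) hω (fun t v h => ?_)
      (fun t v h => D.prod_step D.act02 c02 b02 rfl h)
      (fun v => by rw [x_zero, zero_mul, x_zero, commutatorElement_one_left])
      (fun t => by rw [x_zero, mul_zero, x_zero, commutatorElement_one_right])
    have := D.prod_step (D.mul_act (D.mul_act D.act02 D.act02) (D.inv_act (by simp) D.act01))
      (D.mul_act (D.mul_act c02 c02) (D.inv_act (inv_ne_zero hω) c01))
      (D.mul_act (D.mul_act b02 b02) (D.inv_act hω b01)) (by field_simp) h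
    rw [show (ω : F) * ω * ((ω : F) * ω)⁻¹ * t = t by field_simp,
      show (ω : F) * ω * ((ω : F)⁻¹)⁻¹ * v = (ω : F) ^ 3 * v by rw [inv_inv]; ring] at this
    exact this
  obtain ⟨σ, s0, s1, s2⟩ := AltMono.exists_perm3 (p := (0 : Fin 3)) (q := 1) (r := 2) (by decide)
    (a := i) (b := j) (c := l) (by simp [h, h', hl])
  have := congrArg (D.cj σ) (base t v)
  rwa [map_commutatorElement, D.x_equiv σ (by decide), D.x_equiv σ (by decide),
    D.x_equiv σ (by decide), s0, s1, s2] at this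

theorem rel : StSL.Rel D.x where
  add _ t v := D.x_add _ _ t v
  comm {i j k l} h h' hil hjk t v := by
    rcases eq_or_ne i k with rfl | hik
    · rcases eq_or_ne j l with rfl | hjl
      · show _ = _
        rw [D.x_add, D.x_add, add_comm]
      · exact D.comm_first h hjl h' t v
    · rcases eq_or_ne j l with rfl | hjl
      · exact D.comm_second hik h' h t v
      · omega
  prod := D.prod

include D in
/-- The homomorphism. -/
theorem exists_hom [Finite F] : ∃ φ : SpecialLinearGroup (Fin 3) F →* X,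
    ∀ i j, i ≠ j → ∀ t, φ (StSL.tv i j t) = D.x i j t :=
  StSL.exists_hom le_rfl D.rel

end Data

end CfsgLib.Pres.SLThree
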