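import Cfsg.Agent.Lib.Pres.SLData
import Cfsg.Agent.Lib.Pres.FieldAdd

/-!
Presentations of `SL_n`, `n ≥ 4`, with twenty-four relations more than the alternating group.
-/

set_option autoImplicit false

namespace CfsgLib.Pres.SLWords

open Equiv Matrix CfsgLib.Pres.SLData
open scoped commutatorElement

variable {m : ℕ}

theorem map_H {Y Z : Type*} [Group Y] [Group Z] (g : Y →* Z) (ψ : K m → Y) (h : Y)
    (a b : Fin (m + 4)) : g (H ψ h a b) = H (fun k => g (ψ k)) (g h) a b := by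
  simp [H]

theorem map_Xc {Y Z : Type*} [Group Y] [Group Z] (g : Y →* Z) (ψ : K m → Y) (u : Y)
    (a b : Fin (m + 4)) : g (Xc ψ u a b) = Xc (fun k => g (ψ k)) (g u) a b := by
  simp [Xc]

theorem dg_commute_tv {F : Type*} [Field F] {n : ℕ} (c : Fˣ) (a b : Fin n) {i j : Fin n}
    (h : i ≠ j) (hi : AltMono.χ c a b i = AltMono.χ c a b j) (t : F) :
    Commute (AltMono.dg c a b) (StSL.tv i j t) := by
  have := AltMono.dg_tv c a b h t
  have hne : AltMono.χ c a b j ≠ 0 := by simp only [AltMono.χ]; split_ifs <;> simp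
  rw [hi, div_self hne, one_mul, mul_inv_eq_iff_eq_mul] at this
  exact this

variable {F : Type*} [Field F] [Finite F]

set_option maxHeartbeats 1600000 in
/-- The presentation. -/
theorem hasPres_sl {r : ℕ} (hK : HasPres (alternatingGroup (Fin (m + 4))) r) :
    HasPres (SpecialLinearGroup (Fin (m + 4)) F) (r + 24) := by
  classical
  obtain ⟨ω, hω⟩ := IsCyclic.exists_monoid_generator (α := Fˣ)
  have hgen : ∀ t : F, t ≠ 0 → ∃ i : ℕ, t = (ω : F) ^ i := fun t ht => by
    obtain ⟨i, hi⟩ := Submonoid.mem_powers_iff _ _ |>.1 (hω (Units.mk0 t ht))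
    exact ⟨i, by simpa using (congrArg Units.val hi).symm⟩
  obtain ⟨p, hp⟩ := CharP.exists F
  have : Fact p.Prime := ⟨CharP.char_is_prime F p⟩
  obtain ⟨L₀, hL₀, hhold₀, huniv₀⟩ := FieldAdd.exists_rels p hgen
  obtain ⟨ι, _, f, L, hL, hhold, hgenK, huniv⟩ := exists_data hK
  choose wd hwd using exists_word hgenK
  choose lg hlg using hgen
  have hcard : 4 ≤ Fintype.card (Fin (m + 4)) := by simp
  obtain ⟨su1, su2, su10, su11, su20, su21, hsu⟩ :=
    AltMono.exists_stab_two hcard (p := (P0 : Fin (m + 4))) (q := P1) Data.p01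
  obtain ⟨sh1, sh2, sh10, sh11, sh20, sh21, hsh⟩ :=
    AltMono.exists_stab_two hcard (p := (P0 : Fin (m + 4))) (q := P2) Data.p02
  obtain ⟨r0, r00, r02⟩ := exists_two (Data.p02 (m := m)) Data.p02.symm
  obtain ⟨g1, g2, hg12⟩ := AltMono.exists_gen_two (α := Fin (m + 4)) (by simp)
  -- transvections generate
  let T := Fin (m + 4) × Fin (m + 4) × F
  let tvv : T → SpecialLinearGroup (Fin (m + 4)) F := fun e => StSL.tv e.1 e.2.1 e.2.2
  have hT : Subgroup.closure (Set.range tvv) = ⊤ :=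
    CfsgLib.Classical.eq_top_of_transvection_mem _ fun i j h t =>
      Subgroup.subset_closure ⟨(i, j, t), StSL.tv_eq h t⟩
  choose V hV using exists_word hT
  -- words
  let σ : FreeGroup ι →* FreeGroup (ι ⊕ Bool) :=
    FreeGroup.lift fun i => FreeGroup.of (Sum.inl i)
  let τ : FreeGroup Bool →* FreeGroup (ι ⊕ Bool) :=
    FreeGroup.lift fun i => FreeGroup.of (Sum.inr i)
  let U : FreeGroup (ι ⊕ Bool) := FreeGroup.of (Sum.inr true)
  let Hw : FreeGroup (ι ⊕ Bool) := FreeGroup.of (Sum.inr false)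
  let ψw : K m → FreeGroup (ι ⊕ Bool) := fun k => σ (wd k)
  let aw : F → FreeGroup (ι ⊕ Bool) := fun t =>
    if ht : t = 0 then 1 else Hw ^ lg t ht * U * (Hw ^ lg t ht)⁻¹
  let sub : FreeGroup T →* FreeGroup (ι ⊕ Bool) :=
    FreeGroup.lift fun e => if e.1 = e.2.1 then 1 else Xc ψw (aw e.2.2) e.1 e.2.1
  let R1 : List (FreeGroup (ι ⊕ Bool)) :=
    [ψw su1 * U * (ψw su1)⁻¹ * U⁻¹, ψw su2 * U * (ψw su2)⁻¹ * U⁻¹,
      ψw sh1 * Hw * (ψw sh1)⁻¹ * Hw⁻¹, ψw sh2 * Hw * (ψw sh2)⁻¹ * Hw⁻¹,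
      ψw r0 * Hw * (ψw r0)⁻¹ * Hw, Hw * (H ψw Hw P0 P1 * H ψw Hw P1 P2)⁻¹,
      ⁅H ψw Hw P0 P1, Hw⁆, ⁅H ψw Hw P2 P3, U⁆, ⁅Hw * H ψw Hw P1 P2, U⁆,
      ⁅U, Xc ψw U P2 P3⁆, ⁅U, Xc ψw (Hw * U * Hw⁻¹) P2 P3⁆,
      ⁅U, Xc ψw U P3 P2⁆, ⁅U, Xc ψw (Hw * U * Hw⁻¹) P3 P2⁆,
      ⁅U, Xc ψw U P0 P2⁆, ⁅U, Xc ψw U P2 P1⁆,
      ⁅U, Xc ψw U P1 P2⁆ * (Xc ψw U P0 P2)⁻¹, ⁅U, Xc ψw U P1 P3⁆ * (Xc ψw U P0 P3)⁻¹,
      ψw g1 * (sub (V (AltMono.μ g1)))⁻¹, ψw g2 * (sub (V (AltMono.μ g2)))⁻¹,
      Hw * (sub (V (AltMono.dg ω P0 P2)))⁻¹]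
  let F₀ : ι ⊕ Bool → SpecialLinearGroup (Fin (m + 4)) F :=
    Sum.elim (fun i => AltMono.μ (f i))
      (cond · (StSL.tv P0 P1 1) (AltMono.dg ω P0 P2))
  refine hasPres_of F₀ (L.map σ ++ L₀.map τ ++ R1) (by simp [R1]; omega) ?_ ?_
    fun X _ x hx _ => ?_
  rotate_left 2
  · -- universality
    set g := FreeGroup.lift x with hg
    obtain ⟨ψ, hψ⟩ := huniv X (fun i => x (Sum.inl i)) fun w hw => by
      rw [← hx (σ w) (List.mem_append_left _ (List.mem_append_left _ (List.mem_map_of_mem hw)))]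
      exact DFunLike.congr_fun (FreeGroup.ext_hom (FreeGroup.lift fun i => x (Sum.inl i))
        (g.comp σ) fun i => by simp [σ, g]) w
    obtain ⟨a, aadd, a1, apow, ah⟩ := huniv₀ X (x (Sum.inr true)) (x (Sum.inr false)) fun w hw => by
      rw [← hx (τ w) (List.mem_append_left _ (List.mem_append_right _ (List.mem_map_of_mem hw)))]
      exact DFunLike.congr_fun (FreeGroup.ext_hom
        (FreeGroup.lift fun b => cond b (x (Sum.inr true)) (x (Sum.inr false))) (g.comp τ)
        fun i => by cases i <;> simp [τ, g]) w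
    set h := x (Sum.inr false)
    have hgψ : ∀ k, g (ψw k) = ψ k := fun k => by
      conv_rhs => rw [← hwd k]
      exact DFunLike.congr_fun (FreeGroup.ext_hom (g.comp σ) (ψ.comp (FreeGroup.lift f))
        fun i => by simp [σ, g, hψ]) (wd k)
    have hgU : g U = a 1 := by simp [g, U, a1]
    have hgH : g Hw = h := by simp [g, Hw, h]
    have hgaw : ∀ t, g (aw t) = a t := fun t => by
      simp only [aw]
      split_ifs with ht
      · subst ht
        rw [map_one]
        have := aadd 0 0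
        rw [add_zero, mul_eq_left] at this
        exact this.symm
      · rw [map_mul, map_mul, map_inv, map_pow, hgU, hgH, a1, ← apow, ← hlg]
    have hgω : h * a 1 * h⁻¹ = a ω := by rw [ah, mul_one]
    have hR : ∀ w ∈ R1, g w = 1 := fun w hw => hx w (List.mem_append_right _ hw)
    simp only [R1, List.forall_mem_cons, List.not_mem_nil, IsEmpty.forall_iff, implies_true,
      and_true, map_mul, map_inv, map_commutatorElement, map_H, map_Xc, hgψ, hgU, hgH, hgω,
      mul_inv_eq_one, commutatorElement_eq_one_iff_commute] at hR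
    obtain ⟨eu1, eu2, eh1, eh2, er, eprod, etc, eda, ecol, e1, e2, e3, e4, ef, es, ep1, ep2, eg1,
      eg2, egh⟩ := hR
    have stu : ∀ s : K m, act s P0 = P0 → act s P1 = P1 → ψ s * a 1 * (ψ s)⁻¹ = a 1 := by
      intro s s0 s1
      have hs := hsu s s0 s1
      clear s0 s1
      induction hs using Subgroup.closure_induction with
      | mem y hy => rcases hy with rfl | rfl; exacts [eu1, eu2]
      | one => simp
      | mul y z _ _ hy hz =>
        rw [map_mul, _root_.mul_inv_rev,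
          show ψ y * ψ z * a 1 * ((ψ z)⁻¹ * (ψ y)⁻¹) =
            ψ y * (ψ z * a 1 * (ψ z)⁻¹) * (ψ y)⁻¹ by group, hz, hy]
      | inv y _ hy => rw [map_inv, inv_inv]; conv_lhs => rw [← hy]
                      group
    have sth : ∀ s : K m, act s P0 = P0 → act s P2 = P2 → ψ s * h * (ψ s)⁻¹ = h := by
      intro s s0 s2
      have hs := hsh s s0 s2
      clear s0 s2
      induction hs using Subgroup.closure_induction with
      | mem y hy => rcases hy with rfl | rfl; exacts [eh1, eh2]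
      | one => simp
      | mul y z _ _ hy hz =>
        rw [map_mul, _root_.mul_inv_rev,
          show ψ y * ψ z * h * ((ψ z)⁻¹ * (ψ y)⁻¹) =
            ψ y * (ψ z * h * (ψ z)⁻¹) * (ψ y)⁻¹ by group, hz, hy]
      | inv y _ hy => rw [map_inv, inv_inv]; conv_lhs => rw [← hy]
                      group
    let D : Data F ω m X :=
      { ψ := ψ, a := a, h := h, gen := fun t ht => ⟨lg t ht, hlg t ht⟩, a_add := aadd
        a_pow := fun i => by rw [apow, a1]
        a_h := ah
        st_u := stu, st_h := sth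
        rev := ⟨r0, r00, r02, eq_inv_of_mul_eq_one_left er⟩
        prodH := eprod, tc := etc, da := eda, col := ecol
        cd1 := e1, cd2 := e2, cd3 := e3, cd4 := e4, cf := ef, cs := es, p1 := ep1, p2 := ep2 }
    obtain ⟨φ, hφ⟩ := D.exists_hom
    have hsub : ∀ y, g (sub (V y)) = φ y := fun y => by
      conv_rhs => rw [← hV y]
      exact DFunLike.congr_fun (FreeGroup.ext_hom (g.comp sub) (φ.comp (FreeGroup.lift tvv))
        fun e => by
          simp only [MonoidHom.comp_apply, sub, FreeGroup.lift_apply_of, tvv]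
          split_ifs with he
          · rw [map_one, StSL.tv, dif_neg (fun h' => h' he), map_one]
          · rw [map_Xc, hgaw, hφ _ _ he]
            simp only [hgψ]
            rfl) (V y)
    rw [hsub] at eg1 eg2 egh
    have hμ : ∀ k, φ (AltMono.μ k) = ψ k := DFunLike.congr_fun
      (show φ.comp AltMono.μ = ψ from MonoidHom.eq_of_eqOn_dense hg12 (by
        rintro _ (rfl | rfl)
        exacts [eg1.symm, eg2.symm]))
    refine ⟨φ, fun i => ?_⟩
    rcases i with i | i
    · show φ (AltMono.μ (f i)) = _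
      rw [hμ, hψ]
    · cases i
      · exact egh.symm
      · show φ (StSL.tv P0 P1 1) = _
        rw [hφ _ _ Data.p01]
        show D.x P0 P1 1 = _
        rw [D.x01]
        exact a1
  all_goals set g := FreeGroup.lift F₀ with hg
  all_goals
    have hgσ : ∀ w, g (σ w) = AltMono.μ (FreeGroup.lift f w) := fun w =>
      DFunLike.congr_fun (FreeGroup.ext_hom (g.comp σ) (AltMono.μ.comp (FreeGroup.lift f))
        fun i => by simp [σ, g, F₀]) w
    have hgψ : ∀ k, g (ψw k) = AltMono.μ k := fun k => by simp only [ψw, hgσ, hwd]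
    have hgU : g U = StSL.tv P0 P1 1 := by simp [g, U, F₀]
    have hgH : g Hw = AltMono.dg ω P0 P2 := by simp [g, Hw, F₀]
    have hχ : AltMono.χ ω (P0 : Fin (m + 4)) P2 P0 / AltMono.χ ω (P0 : Fin (m + 4)) P2 P1 = ω := by
      simp [AltMono.χ, Fin.ext_iff]
    have hdg : ∀ t, AltMono.dg ω P0 P2 * StSL.tv (P0 : Fin (m + 4)) P1 t *
        (AltMono.dg ω P0 P2)⁻¹ = StSL.tv P0 P1 ((ω : F) * t) := fun t => by
      rw [AltMono.dg_tv _ _ _ Data.p01, hχ]
    have hgaw : ∀ t, g (aw t) = StSL.tv P0 P1 t := fun t => by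
      simp only [aw]
      split_ifs with ht
      · subst ht
        rw [map_one, (StSL.rel_tv (K := F) (n := m + 4)).zero Data.p01]
      · rw [map_mul, map_mul, map_inv, map_pow, hgU, hgH]
        have : ∀ i : ℕ, (AltMono.dg ω P0 P2) ^ i * StSL.tv (P0 : Fin (m + 4)) P1 1 *
            ((AltMono.dg ω P0 P2) ^ i)⁻¹ = StSL.tv P0 P1 ((ω : F) ^ i) := by
          intro i
          induction i with
          | zero => simp
          | succ i ih =>
            rw [pow_succ' (ω : F), ← hdg, ← ih, pow_succ']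
            group
        rw [this, ← hlg]
    have hXc : ∀ {a b : Fin (m + 4)}, a ≠ b → ∀ t : F,
        Xc (fun k => AltMono.μ k) (StSL.tv P0 P1 t) a b = StSL.tv a b t := fun {a b} hab t => by
      obtain ⟨e1, e2⟩ := mv_spec (Data.p01 (m := m)) hab
      rw [Xc, AltMono.μ_tv _ Data.p01]
      exact congrArg₂ (fun u v => StSL.tv u v t) e1 e2
    have hsub : ∀ y, g (sub (V y)) = y := fun y => by
      conv_rhs => rw [← hV y]
      exact DFunLike.congr_fun (FreeGroup.ext_hom (g.comp sub) (FreeGroup.lift tvv)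
        fun e => by
          simp only [MonoidHom.comp_apply, sub, FreeGroup.lift_apply_of, tvv]
          split_ifs with he
          · rw [map_one, StSL.tv, dif_neg (fun h' => h' he)]
          · rw [map_Xc, hgaw]
            simp only [hgψ]
            rw [hXc he]) (V y)
  · -- the relations hold
    have hH : ∀ {a b : Fin (m + 4)}, a ≠ b →
        H (fun k => AltMono.μ k) (AltMono.dg ω P0 P2) a b = AltMono.dg ω a b := fun {a b} hab => by
      obtain ⟨e1, e2⟩ := mv_spec (Data.p02 (m := m)) hab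
      rw [H, AltMono.μ_dg]
      exact congrArg₂ (AltMono.dg ω) e1 e2
    refine List.forall_mem_append.2 ⟨List.forall_mem_append.2 ⟨?_, ?_⟩, ?_⟩
    · intro w hw
      obtain ⟨v, hv, rfl⟩ := List.mem_map.1 hw
      show g (σ v) = 1
      rw [hgσ, hhold v hv, map_one]
    · intro w hw
      obtain ⟨v, hv, rfl⟩ := List.mem_map.1 hw
      have := hhold₀ (SpecialLinearGroup (Fin (m + 4)) F) (fun t => StSL.tv P0 P1 t)
        (AltMono.dg ω P0 P2) ((StSL.rel_tv).add Data.p01) hdg v hv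
      rw [← this]
      exact DFunLike.congr_fun (FreeGroup.ext_hom (g.comp τ) (FreeGroup.lift fun b =>
        cond b (StSL.tv (P0 : Fin (m + 4)) P1 1) (AltMono.dg ω P0 P2))
        fun i => by simp [τ, g, F₀]) v
    · have ne : ∀ {a b : Fin (m + 4)}, (a : ℕ) ≠ b → a ≠ b := fun h e => h (by rw [e])
      have sU : ∀ k : K m, act k P0 = P0 → act k P1 = P1 →
          AltMono.μ k * StSL.tv (P0 : Fin (m + 4)) P1 (1 : F) * (AltMono.μ k)⁻¹ =
            StSL.tv P0 P1 1 := fun k k0 k1 => by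
        rw [AltMono.μ_tv _ Data.p01]
        exact congrArg₂ (fun u v => StSL.tv u v (1 : F)) k0 k1
      have sH : ∀ k : K m, act k P0 = P0 → act k P2 = P2 →
          AltMono.μ k * AltMono.dg ω P0 P2 * (AltMono.μ k)⁻¹ = AltMono.dg ω P0 P2 := fun k k0 k2 => by
        rw [AltMono.μ_dg]
        exact congrArg₂ (AltMono.dg ω) k0 k2
      have hrev : AltMono.μ r0 * AltMono.dg ω P0 P2 * (AltMono.μ r0)⁻¹ =
          (AltMono.dg ω P0 P2)⁻¹ := by
        rw [AltMono.μ_dg, AltMono.dg_inv _ Data.p02]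
        exact congrArg₂ (AltMono.dg ω) r00 r02
      have hc : Commute (AltMono.dg ω (P0 : Fin (m + 4)) P2 * AltMono.dg ω P1 P2)
          (StSL.tv P0 P1 1) := by
        have h1 := hdg ((ω : F)⁻¹)
        have h2 := AltMono.dg_tv ω (P1 : Fin (m + 4)) P2 Data.p01 (1 : F)
        rw [show AltMono.χ ω (P1 : Fin (m + 4)) P2 P0 / AltMono.χ ω (P1 : Fin (m + 4)) P2 P1 =
          (ω : F)⁻¹ by simp [AltMono.χ, Fin.ext_iff], mul_one] at h2
        rw [mul_inv_cancel₀ ω.ne_zero] at h1
        show _ = _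
        rw [← mul_inv_eq_iff_eq_mul]
        conv_rhs => rw [← h1, ← h2]
        group
      show ∀ w ∈ R1, g w = 1
      simp only [R1, List.forall_mem_cons, List.not_mem_nil, IsEmpty.forall_iff, implies_true,
        and_true, map_mul, map_inv, map_commutatorElement, map_H, map_Xc, hgψ, hgU, hgH, hdg,
        mul_one, mul_inv_eq_one, commutatorElement_eq_one_iff_commute, hsub]
      rw [hH (ne (by simp)), hH (ne (by simp)), hH (ne (by simp)), hXc (ne (by simp)),
        hXc (ne (by simp)), hXc (ne (by simp)), hXc (ne (by simp)), hXc (ne (by simp)),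
        hXc (ne (by simp)), hXc (ne (by simp)), hXc (ne (by simp)), hXc (ne (by simp))]
      have R := StSL.rel_tv (K := F) (n := m + 4)
      refine ⟨sU _ su10 su11, sU _ su20 su21, sH _ sh10 sh11, sH _ sh20 sh21,
        by rw [hrev, inv_mul_cancel], (AltMono.dg_mul_dg ω ?_ ?_ ?_).symm, AltMono.dg_comm _ _ _ _ _,
        ?_, hc, R.comm ?_ ?_ ?_ ?_ _ _, R.comm ?_ ?_ ?_ ?_ _ _, R.comm ?_ ?_ ?_ ?_ _ _,
        R.comm ?_ ?_ ?_ ?_ _ _, R.comm ?_ ?_ ?_ ?_ _ _, R.comm ?_ ?_ ?_ ?_ _ _, ?_, ?_⟩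

      all_goals first
        | exact ne (by simp)
        | refine dg_commute_tv _ _ _ Data.p01 (by simp [AltMono.χ, Fin.ext_iff]) _
        | (rw [R.prod (ne (by simp)) (ne (by simp)) (ne (by simp)), mul_one])
  · -- generation
    rw [← FreeGroup.range_lift_eq_closure, eq_top_iff]
    exact fun y _ => ⟨sub (V y), hsub y⟩

end CfsgLib.Pres.SLWords
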