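import Cfsg.Agent.Lib.Pres.OnGens

/-!
A generating part of the generators carries a presentation with equally many relations.
-/

set_option autoImplicit false

namespace CfsgLib.Pres

variable {G : Type*} [Group G] {ι κ : Type}

/-- Some of the generators are enough. -/
theorem PresData.subGens {f : ι → G} {L : List (FreeGroup ι)} (h : PresData f L) (g : κ → ι)
    (hg : Function.Injective g) (hgen : Subgroup.closure (Set.range (f ∘ g)) = ⊤) :
    ∃ L' : List (FreeGroup κ), L'.length = L.length ∧ PresData (f ∘ g) L' := by
  classical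
  choose wd hwd using fun i => exists_word hgen (f i)
  let s : ι → FreeGroup κ := fun i => if hi : ∃ k, g k = i then FreeGroup.of hi.choose else wd i
  have hs : ∀ k, s (g k) = FreeGroup.of k := fun k => by
    have hi : ∃ k', g k' = g k := ⟨k, rfl⟩
    simp only [s, dif_pos hi]
    exact congrArg _ (hg hi.choose_spec)
  have hfs : ∀ i, FreeGroup.lift (f ∘ g) (s i) = f i := fun i => by
    simp only [s]
    split_ifs with hi
    · rw [FreeGroup.lift_apply_of]; exact congrArg f hi.choose_spec
    · exact hwd i
  refine ⟨L.map (FreeGroup.lift s), List.length_map .., fun w hw => ?_, hgen, fun X _ x hx _ => ?_⟩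
  · obtain ⟨v, hv, rfl⟩ := List.mem_map.1 hw
    rw [← h.1 v hv]
    exact DFunLike.congr_fun (FreeGroup.ext_hom ((FreeGroup.lift (f ∘ g)).comp (FreeGroup.lift s))
      (FreeGroup.lift f) fun i => by simp [hfs]) v
  · obtain ⟨φ, hφ⟩ := h.lift X (fun i => FreeGroup.lift x (s i)) fun w hw => by
      rw [← hx (FreeGroup.lift s w) (List.mem_map_of_mem hw)]
      exact DFunLike.congr_fun (FreeGroup.ext_hom (FreeGroup.lift fun i => FreeGroup.lift x (s i))
        ((FreeGroup.lift x).comp (FreeGroup.lift s)) fun i => by simp) w
    exact ⟨φ, fun k => by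
      show φ (f (g k)) = x k
      rw [hφ, hs, FreeGroup.lift_apply_of]⟩

end CfsgLib.Pres
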