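import Cfsg.Agent.Lib.Pres.SpEnum

/-!
The three cells are closed under multiplication on the left by all root elements.
-/

set_option autoImplicit false

namespace CfsgLib.Pres.SpR

open Matrix CfsgLib.Classical CfsgLib.Steinberg CfsgLib.Steinberg.R1Data
open scoped MatrixGroups commutatorElement

variable {l : Type*} [Fintype l] [DecidableEq l] {F : Type*} [Field F] {Y : Type*} [Group Y]

theorem le_stable {T : Y → Prop} {H : Subgroup Y} (h : ∀ m ∈ H, ∀ y, T y → T (m * y)) :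
    H ≤ Stable T := fun m hm => ⟨h m hm, h m⁻¹ (inv_mem hm)⟩

omit [Fintype l] in
theorem ix_zi (i k : l) (a : l ⊕ l) : ix (zi i k a) = Equiv.swap i k (ix a) := by
  cases a <;> rfl

omit [Fintype l] in
theorem swap_notMem {s : Finset l} {i k m : l} (hi : i ∉ s) (hk : k ∉ s) (hm : m ∉ s) :
    Equiv.swap i k m ∉ s := by
  rw [Equiv.swap_apply_def]; split_ifs <;> assumption

omit [Fintype l] in
theorem zi_eq_inr {i k : l} {a : l ⊕ l} : zi i k a = Sum.inr i ↔ a = Sum.inr k := by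
  rcases a with a | a <;> simp [zi, Equiv.swap_apply_eq_iff]

theorem wS_dg (d : Fˣ) : dg d * (wS : SL(2, F)) = wS * dg d⁻¹ := by
  refine Subtype.ext ?_
  rw [sl_coe_mul, sl_coe_mul]
  ext i j
  fin_cases i <;> fin_cases j <;> simp [Matrix.mul_apply, Fin.sum_univ_two]

namespace Setup

variable (S : Setup l F Y) {s : Finset l} {j k : l}

theorem D_comm (hj : j ∉ s) (hk : k ∉ s) (hjk : j ≠ k) (h : SL(2, F)) (h' : SL(2, F)) :
    Commute (S.φl j h) (S.φl k h') :=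
  S.commute_Ys (s := s) h (S.φl_mem_Ys (by simp [hjk.symm, hk]) h')

theorem D_mem_P (hk : k ∉ s) (hjk : j ≠ k) (h : SL(2, F)) : S.φl k h ∈ S.P s j :=
  S.Ys_le_P (S.φl_mem_Ys (by simp [hjk.symm, hk]) h)

theorem φs_one (i k : l) : S.φs i k (up 0) = 1 := by rw [up_zero, map_one]

theorem gZ {g p : Y} (hg : g ∈ S.Ys (insert j s)) (hp : p ∈ S.P s j) :
    S.T s j k (g * S.Z j k * p) :=
  Or.inr ⟨g, hg, 0, p, hp, by rw [S.φs_one, mul_one]⟩

theorem mem_TQ_k (hk : k ∉ s) : Sum.inr k ∈ insert (Sum.inr k : l ⊕ l) (TQ0 s j k) :=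
  Set.mem_insert _ _

omit [Fintype l] [DecidableEq l] in
theorem TQ_subset : TQ s j ⊆ insert (Sum.inr k) (TQ0 s j k) := fun c hc => by
  by_cases h : c = Sum.inr k
  · exact Set.mem_insert_iff.2 (Or.inl h)
  · exact Set.mem_insert_iff.2 (Or.inr ⟨hc.1, hc.2, h⟩)

theorem split_Q (hj : j ∉ s) (hjk : j ≠ k) {q : Y} (hq : q ∈ S.QT j (TQ s j)) :
    ∃ a, ∃ q0 ∈ S.QT j (TQ0 s j k), q = S.φs j k (up a) * q0 := by
  obtain ⟨a, q0, h0, rfl⟩ := S.QT_insert (c := Sum.inr k) (T := TQ0 s j k) (by simp [hjk.symm])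
    (fun b hb => hb.1) (show (Sum.inl j : l ⊕ l) ∈ TQ0 s j k from ⟨by simp, by simpa using hj, by simp⟩) (S.QT_mono TQ_subset hq)
  exact ⟨a, q0, h0, by rw [S.φs_up j k hjk]⟩

theorem x1_mem_Q (hk : k ∉ s) (hjk : j ≠ k) (c : F) : S.φs j k (up c) ∈ S.QT j (TQ s j) := by
  rw [S.φs_up j k hjk]; exact S.x_mem_QT (T := TQ s j) ⟨by simp [hjk.symm], by simpa using hk⟩ c

theorem x1_norm_Q0 (hj : j ∉ s) (hjk : j ≠ k) (c : F) {q : Y} (hq : q ∈ S.QT j (TQ0 s j k)) :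
    S.φs j k (up c) * q * (S.φs j k (up c))⁻¹ ∈ S.QT j (TQ0 s j k) := by
  rw [S.φs_up j k hjk]
  exact S.x_norm_QT (by simp [hjk.symm]) (fun b hb => hb.1) (show (Sum.inl j : l ⊕ l) ∈ TQ0 s j k from ⟨by simp, by simpa using hj, by simp⟩) c hq

theorem x1_inv (c : F) : (S.φs j k (up c))⁻¹ = S.φs j k (up (-c)) := by
  rw [inv_eq_iff_mul_eq_one, ← map_mul, show up c * up (-c) = (1 : SL(2, F)) by
    refine Subtype.ext ?_
    rw [sl_coe_mul]
    ext i j
    fin_cases i <;> fin_cases j <;> simp [Matrix.mul_apply, Fin.sum_univ_two], map_one]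

theorem Z_Q0' (hj : j ∉ s) (hk : k ∉ s) (hjk : j ≠ k) {q : Y} (hq : q ∈ S.QT j (TQ0 s j k)) :
    (S.Z j k)⁻¹ * q * S.Z j k ∈ S.P s j := by
  have := conj_closure_le (z := (S.Z j k)⁻¹) (H := S.P s j) ?_ hq
  · simpa using this
  rintro _ ⟨c, t, ⟨h1, h2, h3⟩, rfl⟩
  rw [inv_inv]
  refine S.Z_le' hjk (a := Sum.inl j) h1 (fun u => ?_) t
  refine S.x_mem_P (zi_ok h1) ?_ ?_ ?_ ?_ u
  · rw [ix_zi]; exact swap_notMem hj hk (by simpa using hj)
  · rw [ix_zi]; exact swap_notMem hj hk h2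
  · simp [zi]
  · exact fun e => h3 (zi_eq_inr.1 e)

theorem Q_stable (hj : j ∉ s) (hk : k ∉ s) (hjk : j ≠ k) :
    S.QT j (TQ s j) ≤ Stable (S.T s j k) := by
  refine le_stable fun m hm y hy => ?_
  rcases hy with (⟨q, hq, c, p, hp, rfl⟩ | ⟨c, p, hp, rfl⟩) | ⟨g, hg, c, p, hp, rfl⟩
  · exact Or.inl (Or.inl ⟨m * q, mul_mem hm hq, c, p, hp, by group⟩)
  · refine Or.inl (Or.inr ⟨c, (S.D j c)⁻¹ * m * S.D j c * p, mul_mem (S.QT_le_P hj ?_) hp,
      by group⟩)
    have := S.D_norm (i := j) (c := c⁻¹) (fun b (hb : b ∈ TQ s j) => hb.1) hm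
    rwa [← S.D_inv, inv_inv] at this
  · obtain ⟨a, q0, h0, e⟩ := S.split_Q (k := k) hj hjk (S.Ys_norm_QT hj (inv_mem hg) hm)
    refine Or.inr ⟨g, hg, a + c, (S.Z j k)⁻¹ *
      (S.φs j k (up (-c)) * q0 * (S.φs j k (up (-c)))⁻¹) * S.Z j k * p,
      mul_mem (S.Z_Q0' hj hk hjk (S.x1_norm_Q0 hj hjk _ h0)) hp, ?_⟩
    have hm' : m = g * (S.φs j k (up a) * q0) * g⁻¹ := by rw [← e]; group
    have hup : S.φs j k (up (a + c)) = S.φs j k (up a) * S.φs j k (up c) := by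
      rw [← map_mul, show up a * up c = (up (a + c) : SL(2, F)) by
        refine Subtype.ext ?_
        rw [sl_coe_mul]
        ext i j
        fin_cases i <;> fin_cases j <;> simp [Matrix.mul_apply, Fin.sum_univ_two, add_comm]]
    rw [hm', hup, ← S.x1_inv]
    group

theorem Ys_stable (hj : j ∉ s) : S.Ys (insert j s) ≤ Stable (S.T s j k) := by
  refine le_stable fun m hm y hy => ?_
  rcases hy with (⟨q, hq, c, p, hp, rfl⟩ | ⟨c, p, hp, rfl⟩) | ⟨g, hg, c, p, hp, rfl⟩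
  · refine Or.inl (Or.inl ⟨m * q * m⁻¹, S.Ys_norm_QT hj hm hq, c, m * p,
      mul_mem (S.Ys_le_P hm) hp, ?_⟩)
    have hc : Commute (S.W j * S.D j c) m := by
      rw [W, D, ← map_mul]; exact S.commute_Ys _ hm
    calc m * (q * S.W j * S.D j c * p) = m * q * m⁻¹ * (m * (S.W j * S.D j c)) * p := by group
      _ = _ := by rw [← hc.eq]; group
  · refine Or.inl (Or.inr ⟨c, m * p, mul_mem (S.Ys_le_P hm) hp, ?_⟩)
    rw [← mul_assoc, ← mul_assoc, D, (S.commute_Ys _ hm).eq]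
  · exact Or.inr ⟨m * g, mul_mem hm hg, c, p, hp, by group⟩

theorem D_stable (hj : j ∉ s) (hk : k ∉ s) (hjk : j ≠ k) (d : Fˣ) :
    S.D j d ∈ Stable (S.T s j k) := by
  have key : ∀ (d : Fˣ) y, S.T s j k y → S.T s j k (S.D j d * y) := by
    intro d y hy
    rcases hy with (⟨q, hq, c, p, hp, rfl⟩ | ⟨c, p, hp, rfl⟩) | ⟨g, hg, c, p, hp, rfl⟩
    · refine Or.inl (Or.inl ⟨S.D j d * q * (S.D j d)⁻¹,
        S.D_norm (fun b hb => hb.1) hq, d⁻¹ * c, p, hp, ?_⟩)
      have : S.D j d * S.W j = S.W j * S.D j d⁻¹ := by rw [D, D, W, ← map_mul, ← map_mul, wS_dg]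
      rw [← S.D_mul]
      calc S.D j d * (q * S.W j * S.D j c * p)
          = S.D j d * q * (S.D j d)⁻¹ * (S.D j d * S.W j) * S.D j c * p := by group
        _ = _ := by rw [this]; group
    · exact Or.inl (Or.inr ⟨d * c, p, hp, by rw [← S.D_mul, mul_assoc]⟩)
    · obtain ⟨u, hu⟩ := S.tor' j d (a := Sum.inl j) (b := Sum.inr k) (by simp [hjk.symm]) c
      rw [← S.φs_up j k hjk, ← S.φs_up j k hjk] at hu
      obtain ⟨h', hh'⟩ := S.Z_φl' hjk (dg d)
      refine Or.inr ⟨g, hg, u, S.φl k h' * p, mul_mem (S.D_mem_P hk hjk h') hp, ?_⟩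
      have hgd : S.D j d * g = g * S.D j d := (S.commute_Ys _ hg).eq
      rw [hh', ← hu]
      calc S.D j d * (g * S.φs j k (up c) * S.Z j k * p)
          = (S.D j d * g) * S.φs j k (up c) * S.Z j k * p := by group
        _ = _ := by rw [hgd]; simp only [D]; group
  exact ⟨key d, fun y hy => by rw [S.D_inv]; exact key _ y hy⟩

theorem x1_stable (hj : j ∉ s) (hk : k ∉ s) (hjk : j ≠ k) (c : F) :
    S.φs j k (up c) ∈ Stable (S.T s j k) := S.Q_stable hj hk hjk (S.x1_mem_Q hk hjk c)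

theorem ZD {p : Y} (hk : k ∉ s) (hjk : j ≠ k) (d : Fˣ) (hp : p ∈ S.P s j) :
    S.T s j k (S.Z j k * S.D j d * p) := by
  obtain ⟨h', hh'⟩ := S.Z_φl hjk (dg d)
  have := S.gZ (s := s) (k := k) (g := S.φl k h') (S.φl_mem_Ys (by simp [hjk.symm, hk]) h') hp
  rw [hh'] at this
  simp only [D]
  convert this using 1
  group

theorem phi_mem (hj : j ∉ s) (hk : k ∉ s) (hjk : j ≠ k) (h : SL(2, F)) (d : Fˣ) {p : Y}
    (hp : p ∈ S.P s j) : S.T s j k (S.φs j k h * S.D j d * p) := by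
  have hc : ∀ e : Fˣ, S.D k e * S.D j d = S.D j d * S.D k e :=
    fun e => (S.D_comm hj hk hjk _ _).symm.eq
  by_cases h0 : h 1 0 = 0
  · obtain ⟨a, e, rfl⟩ := cases_upper h h0
    have := (S.x1_stable hj hk hjk a).1 _ (Or.inl (Or.inr ⟨e * d, S.D k e⁻¹ * p,
      mul_mem (S.D_mem_P hk hjk _) hp, rfl⟩) : S.T s j k (S.D j (e * d) * (S.D k e⁻¹ * p)))
    convert this using 1
    rw [map_mul, S.diag j k hjk, ← S.D_mul]
    have := hc e⁻¹
    simp only [D] at this ⊢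
    simp only [mul_assoc]
    rw [← mul_assoc (S.φl k (dg e⁻¹)), this, mul_assoc]
  · obtain ⟨a, b, e, rfl⟩ := cases_lower h h0
    obtain ⟨u, hu⟩ := S.tor' j d⁻¹ (a := Sum.inl j) (b := Sum.inr k) (by simp [hjk.symm]) b
    rw [← S.φs_up j k hjk, ← S.φs_up j k hjk, S.D_inv, inv_inv] at hu
    have := (S.x1_stable hj hk hjk a).1 _ (S.ZD hk hjk (e * d) (mul_mem
      (mul_mem (S.D_mem_P hk hjk (dg e⁻¹)) (S.QT_le_P hj (S.x1_mem_Q hk hjk u))) hp))
    convert this using 1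
    rw [map_mul, map_mul, map_mul, S.diag j k hjk, ← S.D_mul, ← hu, ← S.D_inv]
    have := hc e⁻¹
    simp only [D] at this ⊢
    simp only [mul_assoc, Z]
    rw [← mul_assoc (S.φl j (dg d)) (S.φl k (dg e⁻¹)), ← this]
    group

theorem rZP (hj : j ∉ s) (hk : k ∉ s) (hjk : j ≠ k) (v : F) {p : Y} (hp : p ∈ S.P s j) :
    S.T s j k (S.x (Sum.inr j) (Sum.inr k) v * S.Z j k * p) := by
  have hok : (Sum.inr k : l ⊕ l) ≠ (Sum.inr j : l ⊕ l).swap := by simp
  obtain ⟨h, hh⟩ : (S.W k)⁻¹ * S.x (Sum.inr j) (Sum.inr k) v * S.W k ∈ (S.φs j k).range := by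
    refine S.W_le' hok (fun u => MonoidHom.mem_range.2 ⟨dn u, ?_⟩) v
    rw [S.φs_dn j k hjk, S.symm (by simp [hjk, hjk.symm])]
    simp [wi, hjk]
  have hr : S.x (Sum.inr j) (Sum.inr k) v = S.W k * S.φs j k h * (S.W k)⁻¹ := by rw [hh]; group
  have hWk : S.W k ∈ S.Ys (insert j s) := S.φl_mem_Ys (by simp [hjk.symm, hk]) wS
  have hplus : ∀ a, S.W k * S.φs j k (up a) * (S.W k)⁻¹ ∈ S.QT j (TQ s j) := fun a => by
    rw [S.φs_up j k hjk]
    obtain ⟨u, hu⟩ := S.W_conj k (a := Sum.inl j) (b := Sum.inr k) (by simp [hjk.symm]) a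
    rw [show S.W k = S.φl k wS from rfl, hu]
    have e1 : wi k (Sum.inl j : l ⊕ l) = Sum.inl j := by simp [wi, hjk]
    have e2 : wi k (Sum.inr k : l ⊕ l) = Sum.inl k := by simp [wi]
    rw [e1, e2]
    exact S.x_mem_QT (T := TQ s j) ⟨by simp, by simpa using hk⟩ u
  by_cases h0 : h 1 0 = 0
  · obtain ⟨a, e, rfl⟩ := cases_upper h h0
    have hg : S.W k * S.D k e⁻¹ * (S.W k)⁻¹ ∈ S.Ys (insert j s) :=
      mul_mem (mul_mem hWk (S.φl_mem_Ys (by simp [hjk.symm, hk]) _)) (inv_mem hWk)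
    have := (mul_mem (S.Q_stable hj hk hjk (hplus a)) (S.D_stable hj hk hjk e)).1 _
      (S.gZ (k := k) hg hp)
    convert this using 1
    rw [hr, map_mul, S.diag j k hjk]
    have hc : S.D j e * S.W k = S.W k * S.D j e := (S.D_comm hj hk hjk _ _).eq
    simp only [D] at hc ⊢
    calc _ = S.W k * S.φs j k (up a) * (S.φl j (dg e) * S.φl k (dg e⁻¹) * (S.W k)⁻¹) *
          S.Z j k * p := by group
      _ = S.W k * S.φs j k (up a) * (S.W k)⁻¹ * ((S.W k * S.φl j (dg e)) * S.φl k (dg e⁻¹) *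
          (S.W k)⁻¹) * S.Z j k * p := by group
      _ = _ := by rw [← hc]; group
  · obtain ⟨a, b, e, rfl⟩ := cases_lower h h0
    have hp' : (S.Z j k)⁻¹ * (S.W k * S.φs j k (up b) * (S.W k)⁻¹) * S.Z j k * p ∈ S.P s j := by
      refine mul_mem ?_ hp
      obtain ⟨u, hu⟩ := S.W_conj k (a := Sum.inl j) (b := Sum.inr k) (by simp [hjk.symm]) b
      rw [S.φs_up j k hjk, show S.W k = S.φl k wS from rfl, hu]
      have e1 : wi k (Sum.inl j : l ⊕ l) = Sum.inl j := by simp [wi, hjk]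
      have e2 : wi k (Sum.inr k : l ⊕ l) = Sum.inl k := by simp [wi]
      rw [e1, e2]
      refine S.Z_le' hjk (by simp) (fun w => ?_) u
      simp only [zi, Sum.map_inl, Equiv.swap_apply_left, Equiv.swap_apply_right]
      exact S.x_mem_P (by simp) (by simpa using hk) (by simpa using hj) (by simp) (by simp) w
    obtain ⟨h1, hh1⟩ := S.Z_φl_symm hjk (dg e⁻¹ * wS⁻¹)
    obtain ⟨h2, hh2⟩ := S.Z_φl hjk (dg e)
    obtain ⟨h3, hh3⟩ : ∃ h3, S.φl j h1 * S.D j (-1) = S.φl j h3 := ⟨_, (map_mul _ _ _).symm⟩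
    have hG : S.φl k h2 ∈ S.Ys (insert j s) := S.φl_mem_Ys (by simp [hjk.symm, hk]) _
    have := (mul_mem (mul_mem (S.Q_stable hj hk hjk (hplus a)) (S.Ys_stable (k := k) hj hWk))
      (S.Ys_stable (k := k) hj hG)).1 _
      (Or.inl (S.AC_φl hj h3 (mul_mem (S.D_mem_P hk hjk (dg (-1))) hp')) :
        S.T s j k (S.φl j h3 * (S.φl k (dg (-1)) * _)))
    convert this using 1
    rw [← hh3, hr, map_mul, map_mul, map_mul, S.diag j k hjk]
    have hc1 : S.φl j h1 * S.φl k h2 = S.φl k h2 * S.φl j h1 := (S.D_comm hj hk hjk _ _).eq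
    have hc2 : S.φl j (dg e) * S.φl k (dg e⁻¹ * wS⁻¹) =
        S.φl k (dg e⁻¹ * wS⁻¹) * S.φl j (dg e) := (S.D_comm hj hk hjk _ _).eq
    have hsq := S.Z_sq hjk
    rw [map_mul, map_inv] at hh1 hc2
    simp only [D, W, Z] at hsq hh1 hh2 hc2 ⊢
    calc _ = S.φl k wS * S.φs j k (up a) * (S.φl k wS)⁻¹ * S.φl k wS * S.φs j k wS *
          (S.φl j (dg e) * (S.φl k (dg e⁻¹) * (S.φl k wS)⁻¹)) *
          (S.φl k wS * S.φs j k (up b) * (S.φl k wS)⁻¹) * S.φs j k wS * p := by group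
      _ = S.φl k wS * S.φs j k (up a) * (S.φl k wS)⁻¹ * S.φl k wS *
          ((S.φl j h1 * S.φl k h2) * (S.φs j k wS * S.φs j k wS)) *
          ((S.φs j k wS)⁻¹ * (S.φl k wS * S.φs j k (up b) * (S.φl k wS)⁻¹) * S.φs j k wS * p) := by
        rw [hc2, hh1, hh2]; group
      _ = _ := by rw [hc1, hsq]; group

theorem push_P (hj : j ∉ s) (hk : k ∉ s) (hjk : j ≠ k) (c : F) {p : Y}
    (hp : p ∈ S.P (insert j s) k) :
    (S.φs j k (up c) * S.Z j k)⁻¹ * p * (S.φs j k (up c) * S.Z j k) ∈ S.P s j := by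
  have := conj_closure_le (z := (S.φs j k (up c) * S.Z j k)⁻¹) (H := S.P s j) ?_ hp
  · rwa [inv_inv] at this
  rintro _ ⟨a, b, t, hok, ha, hb, ha', hb', rfl⟩
  simp only [Finset.mem_insert, not_or] at ha hb
  have hr : S.x a b t ∈ S.Ys (insert j s) := S.x_mem_Ys hok (by simp [ha]) (by simp [hb]) t
  obtain ⟨v, q0, h0, e⟩ := S.split_Q (k := k) hj hjk
    (S.Ys_norm_QT hj (inv_mem hr) (inv_mem (S.x1_mem_Q hk hjk c)))
  rw [inv_inv] at e
  have hfix : ∀ m : l ⊕ l, m ≠ a.swap → m ≠ b.swap →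
      (S.π (S.x a b t)).1 *ᵥ (bv m : l ⊕ l → F) = bv m := fun m h1 h2 => by
    rw [S.hπ hok]; exact E_apply_of_swap_ne hok t h1 h2
  have hfixq : (S.π q0).1 *ᵥ (bv (Sum.inl k) : l ⊕ l → F) = bv (Sum.inl k) := by
    clear e
    induction h0 using Subgroup.closure_induction with
    | mem y hy =>
      obtain ⟨c', u, ⟨h1, -, h3⟩, rfl⟩ := hy
      rw [S.hπ (a := Sum.inl j) h1]
      exact E_apply_of_swap_ne h1 u (by simp) fun e => h3 (by
        simpa using (congrArg Sum.swap e).symm)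
    | one => rw [map_one]; exact sp_one_mulVec _
    | mul y z _ _ hy hz => rw [map_mul, sp_mul_mulVec, hz, hy]
    | inv y _ hy =>
      rw [map_inv]
      conv_lhs => rw [← hy]
      exact sp_inv_mulVec _ _
  have hx : ∀ c : F, (S.π (S.φs j k (up c))).1 *ᵥ (bv (Sum.inl k) : l ⊕ l → F) =
      bv (Sum.inl k) + c • bv (Sum.inl j) := fun c => by
    rw [S.φs_up j k hjk, S.hπ (by simp [hjk.symm]), E_mulVec_ne (by simp) (by simp [hjk.symm]),
      sbil_bv_inl, sbil_bv_inr]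
    simp [bv]
  obtain rfl : v = -c := by
    have h1 := congrArg (fun y => ((S.π y).1 *ᵥ (bv (Sum.inl k) : l ⊕ l → F)) (Sum.inl j)) e
    simp only [map_mul, sp_mul_mulVec, hfixq, hx] at h1
    rw [hfix _ (fun e => ha' (by simpa using (congrArg Sum.swap e).symm))
      (fun e => hb' (by simpa using (congrArg Sum.swap e).symm)), x1_inv, hx, map_inv] at h1
    have hinv : ((S.π (S.x a b t))⁻¹).1 *ᵥ (bv (Sum.inl k) + (-c) • bv (Sum.inl j) : l ⊕ l → F) =
        bv (Sum.inl k) + (-c) • bv (Sum.inl j) := by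
      have h2 : (S.π (S.x a b t)).1 *ᵥ (bv (Sum.inl k) + (-c) • bv (Sum.inl j) : l ⊕ l → F) =
          bv (Sum.inl k) + (-c) • bv (Sum.inl j) := by
        rw [mulVec_add, mulVec_smul,
          hfix _ (fun e => ha' (by simpa using (congrArg Sum.swap e).symm))
            (fun e => hb' (by simpa using (congrArg Sum.swap e).symm)),
          hfix (Sum.inl j) (fun e => ha.1 (by simpa using (congrArg ix e).symm))
            (fun e => hb.1 (by simpa using (congrArg ix e).symm))]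
      conv_lhs => rw [← h2]
      exact sp_inv_mulVec _ _
    rw [hinv] at h1
    simpa [bv, hjk] using h1.symm
  rw [inv_inv]
  have hkey : (S.φs j k (up c) * S.Z j k)⁻¹ * S.x a b t * (S.φs j k (up c) * S.Z j k) =
      ((S.Z j k)⁻¹ * S.x a b t * S.Z j k) * ((S.Z j k)⁻¹ *
        (S.φs j k (up (-c)) * q0 * (S.φs j k (up (-c)))⁻¹) * S.Z j k) := by
    have e' : (S.φs j k (up c))⁻¹ * S.x a b t =
        S.x a b t * (S.φs j k (up (-c)) * q0) := by rw [← e]; group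
    rw [_root_.mul_inv_rev, mul_assoc (S.Z j k)⁻¹, e', ← S.x1_inv]
    group
  rw [hkey]
  refine mul_mem (S.Z_le' hjk hok (fun u => ?_) t) (S.Z_Q0' hj hk hjk (S.x1_norm_Q0 hj hjk _ h0))
  refine S.x_mem_P (zi_ok hok) ?_ ?_ ?_ ?_ u
  · rw [ix_zi]; exact swap_notMem hj hk ha.2
  · rw [ix_zi]; exact swap_notMem hj hk hb.2
  · exact fun e => ha' (zi_eq_inr.1 e)
  · exact fun e => hb' (zi_eq_inr.1 e)

theorem Z_A (hj : j ∉ s) (hk : k ∉ s) (hjk : j ≠ k) {q p : Y} (c : Fˣ)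
    (hq : q ∈ S.QT j (TQ s j)) (hp : p ∈ S.P s j) :
    S.T s j k (S.Z j k * (q * S.W j * S.D j c * p)) := by
  obtain ⟨a, q0, h0, rfl⟩ := S.split_Q (k := k) hj hjk hq
  have h0' := S.x1_norm_Q0 hj hjk a h0
  have hZq : S.Z j k * (S.φs j k (up a) * q0 * (S.φs j k (up a))⁻¹) * (S.Z j k)⁻¹ ∈
      Stable (S.T s j k) := by
    refine conj_closure_le ?_ h0'
    rintro _ ⟨b, t, ⟨h1, h2, h3⟩, rfl⟩
    refine S.Z_le hjk (a := Sum.inl j) h1 (fun u => ?_) t
    have hok := zi_ok (i := j) (k := k) (a := (Sum.inl j : l ⊕ l)) h1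
    rw [show zi j k (Sum.inl j : l ⊕ l) = Sum.inl k by simp [zi]] at hok ⊢
    by_cases hb : zi j k b = Sum.inl j
    · rw [hb, S.symm (by simp [hjk])]
      exact S.Q_stable hj hk hjk (S.x_mem_QT (T := TQ s j) ⟨by simp, by simpa using hk⟩ u)
    · refine S.Ys_stable hj (S.x_mem_Ys hok (by simp [hjk.symm, hk]) ?_ u)
      rw [Finset.mem_insert, ix_zi]
      rintro (e | e)
      · refine hb ?_
        rcases b with b | b
        · simpa [zi] using e
        · exact absurd (by simpa [Equiv.swap_apply_eq_iff] using e) (fun e' : b = k => h3 (by rw [e']))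
      · exact swap_notMem hj hk h2 e
  obtain ⟨h, hh⟩ := S.Z_φl hjk (wS * dg c)
  rw [map_mul] at hh
  obtain ⟨v, hv⟩ := S.Z_conj j k hjk (a := Sum.inl j) (b := Sum.inr k) (by simp [hjk.symm]) a
  rw [← S.φs_up j k hjk] at hv
  have e : S.Z j k * (S.φs j k (up a) * q0 * S.W j * S.D j c * p) =
      (S.Z j k * (S.φs j k (up a) * q0 * (S.φs j k (up a))⁻¹) * (S.Z j k)⁻¹) *
        (S.x (Sum.inl k) (Sum.inr j) v * S.φl k h * S.Z j k * p) := by
    rw [show S.x (Sum.inl k) (Sum.inr j) v = S.Z j k * S.φs j k (up a) * (S.Z j k)⁻¹ by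
      rw [Z, hv]; simp [zi], hh]
    simp only [W, D]
    group
  rw [e]
  refine hZq.1 _ ?_
  have hk' : k ∉ insert j s := by simp [hjk.symm, hk]
  have hok : (Sum.inr j : l ⊕ l) ≠ (Sum.inl k : l ⊕ l).swap := by simp [hjk]
  have hcomm : ∀ a v, S.x (Sum.inl k) (Sum.inr j) v * S.φl k (up a) =
      S.φl k (up a) * S.x (Sum.inl k) (Sum.inr j) v := fun a v => by
    rw [S.φl_up]
    exact (S.comm hok (self_ok _) (by simp) (by simp) (by simp [hjk]) (by simp [hjk]) _ _).eq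
  by_cases h1 : h 1 0 = 0
  · obtain ⟨b, d, rfl⟩ := cases_upper h h1
    obtain ⟨w, hw⟩ := S.tor' k d⁻¹ hok v
    rw [S.D_inv, inv_inv] at hw
    have hw' : (S.Z j k)⁻¹ * S.x (Sum.inl k) (Sum.inr j) w * S.Z j k ∈ S.P s j := by
      refine S.Z_le' hjk hok (fun u => ?_) w
      simp only [zi, Sum.map_inl, Sum.map_inr, Equiv.swap_apply_left, Equiv.swap_apply_right]
      exact S.x_mem_P (by simp [hjk.symm]) (by simpa using hj) (by simpa using hk) (by simp)
        (by simp [hjk.symm]) u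
    have := S.gZ (s := s) (k := k) (g := S.φl k (up b) * S.D k d)
      (mul_mem (S.φl_mem_Ys hk' _) (S.φl_mem_Ys hk' _)) (mul_mem hw' hp)
    convert this using 1
    rw [← hw, map_mul, ← mul_assoc (S.x _ _ v), hcomm, ← S.D_inv]
    simp only [D]
    group
  · obtain ⟨b, b', d, rfl⟩ := cases_lower h h1
    obtain ⟨w, hw⟩ : ∃ w, (S.W k * S.D k d)⁻¹ * S.x (Sum.inl k) (Sum.inr j) v *
        (S.W k * S.D k d) = S.x (Sum.inr j) (Sum.inr k) w := by
      obtain ⟨u1, hu1⟩ := S.W_conj k (a := Sum.inl k) (b := Sum.inr j) hok v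
      have e1 : wi k (Sum.inl k : l ⊕ l) = Sum.inr k := by simp [wi]
      have e2 : wi k (Sum.inr j : l ⊕ l) = Sum.inr j := by simp [wi, hjk]
      rw [e1, e2] at hu1
      obtain ⟨u2, hu2⟩ := S.tor' k (-1) (a := Sum.inr k) (b := Sum.inr j) (by simp) u1
      obtain ⟨u3, hu3⟩ := S.tor' k d⁻¹ (a := Sum.inr k) (b := Sum.inr j) (by simp) u2
      rw [S.D_inv, inv_inv] at hu3
      have eW : (S.W k)⁻¹ * S.x (Sum.inl k) (Sum.inr j) v * S.W k =
          S.x (Sum.inr k) (Sum.inr j) u2 := by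
        rw [← hu2, ← hu1]
        conv_lhs => arg 2; rw [← inv_inv (S.W k)]
        rw [S.W_inv]
        simp only [W]
        group
      refine ⟨u3, ?_⟩
      rw [S.symm (a := Sum.inr j) (by simp), ← hu3, ← eW, ← S.D_inv k d]
      group
    have hp' : (S.Z j k)⁻¹ * S.φl k (up b') * S.Z j k ∈ S.P s j := by
      rw [S.φl_up]
      refine S.Z_le' hjk (self_ok _) (fun u => ?_) _
      simp only [zi, Sum.map_inl, Equiv.swap_apply_right]
      exact S.x_mem_P (self_ok _) (by simpa using hj) (by simpa using hj) (by simp) (by simp) u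
    have := (S.Ys_stable (k := k) hj (mul_mem (S.φl_mem_Ys hk' (up b))
      (mul_mem (S.φl_mem_Ys hk' wS) (S.φl_mem_Ys hk' (dg d))))).1 _
      (S.rZP hj hk hjk w (mul_mem hp' hp))
    convert this using 1
    rw [← hw, map_mul, map_mul, map_mul]
    simp only [W, D]
    rw [← mul_assoc, ← mul_assoc, ← mul_assoc, ← mul_assoc, hcomm]
    group

theorem Z_B_core (hj : j ∉ s) (hk : k ∉ s) (hjk : j ≠ k) (h : SL(2, F)) (c : F) {p : Y}
    (hp : p ∈ S.P s j) :
    S.T s j k (S.φl j h * (S.φs j k (wS * up c * wS)) * p) := by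
  by_cases hc : c = 0
  · have : S.φs j k (wS * up c * wS) = S.D j (-1) * S.D k (-1) := by
      rw [hc, up_zero, mul_one, wS_sq_eq, S.diag j k hjk, inv_neg, inv_one]; rfl
    rw [this]
    have h2 := Or.inl (S.AC_φl hj (h * dg (-1)) (mul_mem (S.D_mem_P hk hjk (dg (-1))) hp))
      (b := S.BB s j k (S.φl j (h * dg (-1)) * (S.φl k (dg (-1)) * p)))
    simpa [T, map_mul, D, mul_assoc] using h2
  have h0 : (wS * up c * wS : SL(2, F)) 1 0 ≠ 0 := by
    rw [sl_coe_mul, sl_coe_mul]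
    simp [Matrix.mul_apply, Fin.sum_univ_two, hc]
  obtain ⟨a, b, e, he⟩ := cases_lower _ h0
  rw [he, map_mul, map_mul, map_mul, S.diag j k hjk]
  obtain ⟨p', hp', hpe⟩ : ∃ p' ∈ S.P s j, S.D k e⁻¹ * S.φs j k (up b) * p = p' :=
    ⟨_, mul_mem (mul_mem (S.D_mem_P hk hjk _) (S.QT_le_P hj (S.x1_mem_Q hk hjk b))) hp, rfl⟩
  have goal' : S.T s j k (S.φl j h * (S.φs j k (up a) * S.Z j k * S.D j e) * p') := by
    have hZD := S.ZD (s := s) hk hjk e hp'
    have hQ := S.x1_stable (s := s) hj hk hjk a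
    have hupst : ∀ t, S.φl j (up t) ∈ Stable (S.T s j k) := fun t => by
      rw [S.φl_up]
      exact S.Q_stable hj hk hjk (S.x_mem_QT (T := TQ s j) ⟨by simp, by simpa using hj⟩ _)
    by_cases h1 : h 1 0 = 0
    · obtain ⟨t, d, rfl⟩ := cases_upper h h1
      have := (mul_mem (mul_mem (hupst t) (S.D_stable hj hk hjk d)) hQ).1 _ hZD
      convert this using 1
      rw [map_mul]; simp only [D]; group
    · obtain ⟨t, t', d, rfl⟩ := cases_lower h h1
      have hq : S.D j d * (S.φl j (up t') * S.φs j k (up a)) * (S.D j d)⁻¹ ∈ S.QT j (TQ s j) := by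
        refine S.D_norm (fun b hb => hb.1) (mul_mem ?_ (S.x1_mem_Q hk hjk a))
        rw [S.φl_up]; exact S.x_mem_QT (T := TQ s j) ⟨by simp, by simpa using hj⟩ _
      obtain ⟨g1, hg1⟩ := S.Z_φl hjk (dg e)
      obtain ⟨g2, hg2⟩ := S.Z_φl' hjk (dg d)
      have hg1Y : S.φl k g1 ∈ S.Ys (insert j s) := S.φl_mem_Ys (by simp [hjk.symm, hk]) g1
      obtain ⟨v, q0, h0', hq0⟩ := S.split_Q (k := k) hj hjk
        (S.Ys_norm_QT hj (inv_mem hg1Y) hq)
      rw [inv_inv] at hq0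
      obtain ⟨w, hw⟩ := S.W_conj j (a := Sum.inl j) (b := Sum.inr k) (by simp [hjk.symm]) v
      rw [show wi j (Sum.inl j : l ⊕ l) = Sum.inr j by simp [wi],
        show wi j (Sum.inr k : l ⊕ l) = Sum.inr k by simp [wi, hjk.symm],
        ← S.φs_up j k hjk] at hw
      obtain ⟨g3, hg3⟩ := S.Z_φl' hjk wS
      have hP : S.φl k g3 * ((S.Z j k)⁻¹ * q0 * S.Z j k) * (S.φl k g2 * p') ∈ S.P s j :=
        mul_mem (mul_mem (S.D_mem_P hk hjk g3) (S.Z_Q0' hj hk hjk h0'))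
          (mul_mem (S.D_mem_P hk hjk g2) hp')
      have := (mul_mem (hupst t) (S.Ys_stable (k := k) hj hg1Y)).1 _ (S.rZP hj hk hjk w hP)
      convert this using 1
      have hc1 : S.φl j (dg e) * S.φl k g2 = S.φl k g2 * S.φl j (dg e) :=
        (S.D_comm hj hk hjk _ _).eq
      have hc2 : S.φl j wS * S.φl k g1 = S.φl k g1 * S.φl j wS := (S.D_comm hj hk hjk _ _).eq
      rw [← hw, hg3, map_mul, map_mul, map_mul]
      have hq' : S.D j d * (S.φl j (up t') * S.φs j k (up a)) * (S.D j d)⁻¹ =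
          S.φl k g1 * (S.φs j k (up v) * q0) * (S.φl k g1)⁻¹ := by rw [← hq0]; group
      simp only [D, W, Z] at hq' hg1 hg2 ⊢
      calc _ = S.φl j (up t) * S.φl j wS *
            (S.φl j (dg d) * (S.φl j (up t') * S.φs j k (up a)) * (S.φl j (dg d))⁻¹) *
            S.φs j k wS * ((S.φs j k wS)⁻¹ * S.φl j (dg d) * S.φs j k wS) * S.φl j (dg e) * p' := by
            group
        _ = S.φl j (up t) * S.φl j wS * (S.φl k g1 * (S.φs j k (up v) * q0) * (S.φl k g1)⁻¹) *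
            (S.φs j k wS * (S.φl k g2 * S.φl j (dg e))) * p' := by rw [hq', hg2]; group
        _ = S.φl j (up t) * (S.φl j wS * S.φl k g1) * (S.φs j k (up v) * q0) * (S.φl k g1)⁻¹ *
            (S.φs j k wS * S.φl j (dg e) * (S.φs j k wS)⁻¹) * S.φs j k wS * S.φl k g2 * p' := by
            rw [← hc1]; group
        _ = _ := by rw [hc2, ← hg1]; group
  convert goal' using 1
  rw [← hpe]
  simp only [D, Z]
  group

theorem Z_lft (hj : j ∉ s) (hk : k ∉ s) (hjk : j ≠ k)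
    (IH : ∀ g ∈ S.Ys (insert j s), S.AC (insert j s) k g ∨
      ∃ m, m ∉ insert j s ∧ m ≠ k ∧ S.BB (insert j s) k m g)
    (y : Y) (hy : S.T s j k y) : S.T s j k (S.Z j k * y) := by
  have hk' : k ∉ insert j s := by simp [hjk.symm, hk]
  rcases hy with (⟨q, hq, c, p, hp, rfl⟩ | ⟨c, p, hp, rfl⟩) | ⟨g, hg, c, p, hp, rfl⟩
  · exact S.Z_A hj hk hjk c hq hp
  · rw [← mul_assoc]; exact S.ZD hk hjk c hp
  have hpush : ∀ p' ∈ S.P (insert j s) k, ∃ p'' ∈ S.P s j,
      p' * S.φs j k (up c) * S.Z j k * p = S.φs j k (up c) * S.Z j k * p'' := fun p' hp' =>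
    ⟨_, mul_mem (S.push_P hj hk hjk c hp') hp, by group⟩
  have main : ∀ q' ∈ S.QT k (TQ (insert j s) k), ∀ h, ∀ p' ∈ S.P (insert j s) k,
      S.T s j k (S.Z j k * (q' * S.φl k h * p' * S.φs j k (up c) * S.Z j k * p)) := by
    intro q' hq' h p' hp'
    obtain ⟨p'', hp'', e⟩ := hpush p' hp'
    have hZq : S.Z j k * q' * (S.Z j k)⁻¹ ∈ S.QT j (TQ s j) := by
      refine conj_closure_le ?_ hq'
      rintro _ ⟨b, t, ⟨h1, h2⟩, rfl⟩
      refine S.Z_le hjk (a := Sum.inl k) h1 (fun u => ?_) t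
      rw [show zi j k (Sum.inl k : l ⊕ l) = Sum.inl j by simp [zi]]
      refine S.x_mem_QT (T := TQ s j) ⟨fun e => h1 (zi_eq_inr.1 e), ?_⟩ u
      rw [ix_zi]
      exact swap_notMem hj hk fun e => h2 (Finset.mem_insert_of_mem e)
    obtain ⟨h', hh'⟩ := S.Z_φl_symm hjk h
    have := (S.Q_stable hj hk hjk hZq).1 _ (S.Z_B_core hj hk hjk h' c hp'')
    convert this using 1
    rw [hh', map_mul, map_mul]
    calc _ = S.Z j k * q' * S.φl k h * (p' * S.φs j k (up c) * S.Z j k * p) := by group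
      _ = _ := by rw [e]; simp only [Z]; group
  rcases IH g hg with (⟨q', hq', d, p', hp', rfl⟩ | ⟨d, p', hp', rfl⟩) |
    ⟨m, hm, hmk, g'', hg'', a, p', hp', rfl⟩
  · have := main q' hq' (wS * dg d) p' hp'
    convert this using 1
    rw [map_mul]; simp only [W, D]; group
  · have := main 1 (one_mem _) (dg d) p' hp'
    rwa [one_mul] at this
  obtain ⟨p'', hp'', e⟩ := hpush p' hp'
  simp only [Finset.mem_insert, not_or] at hm
  have hm' : m ∉ insert j s := by simp [hm]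
  have hZm : S.Z k m ∈ S.Ys (insert j s) :=
    range_le (S.φs k m) (fun t => by
        rw [S.φs_up k m hmk.symm]
        exact S.x_mem_Ys (by simp [hmk]) (by simpa using hk') (by simpa using hm') t)
      (fun t => by
        rw [S.φs_dn k m hmk.symm]
        exact S.x_mem_Ys (by simp [hmk.symm]) (by simpa using hm') (by simpa using hk') t) wS
  have h1 : S.Z j k * g'' * (S.Z j k)⁻¹ ∈ S.Ys (insert j s) := by
    refine conj_closure_le ?_ hg''
    rintro _ ⟨a', b', t, hok, ha, hb, rfl⟩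
    simp only [Finset.mem_insert, not_or] at ha hb
    refine S.Z_le hjk hok (fun u => S.x_mem_Ys (zi_ok hok) ?_ ?_ u) t
    · rw [ix_zi, Equiv.swap_apply_of_ne_of_ne ha.2.1 ha.1]; simp [ha]
    · rw [ix_zi, Equiv.swap_apply_of_ne_of_ne hb.2.1 hb.1]; simp [hb]
  have h2 : S.Z j k * S.φs k m (up a) * (S.Z j k)⁻¹ ∈ S.QT j (TQ s j) := by
    rw [S.φs_up k m hmk.symm]
    refine S.Z_le hjk (by simp [hmk]) (fun u => ?_) a
    simp only [zi, Sum.map_inl, Sum.map_inr, Equiv.swap_apply_right,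
      Equiv.swap_apply_of_ne_of_ne hm.1 hmk]
    exact S.x_mem_QT (T := TQ s j) ⟨by simp [hm.1], by simpa using hm.2⟩ u
  have h3 : S.Z j k * (S.Z k m * S.φs j k (up c) * (S.Z k m)⁻¹) * (S.Z j k)⁻¹ ∈
      S.Ys (insert j s) := by
    obtain ⟨u, hu⟩ := S.Z_conj k m hmk.symm (a := Sum.inl j) (b := Sum.inr k)
      (by simp [hjk.symm]) c
    rw [S.φs_up j k hjk, show S.Z k m = S.φs k m wS from rfl, hu]
    have e1 : zi k m (Sum.inl j : l ⊕ l) = Sum.inl j := by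
      simp [zi, Equiv.swap_apply_of_ne_of_ne hjk (Ne.symm hm.1)]
    have e2 : zi k m (Sum.inr k : l ⊕ l) = Sum.inr m := by simp [zi]
    rw [e1, e2]
    refine S.Z_le hjk (by simp [hm.1]) (fun w => ?_) u
    simp only [zi, Sum.map_inl, Sum.map_inr, Equiv.swap_apply_left,
      Equiv.swap_apply_of_ne_of_ne hm.1 hmk]
    exact S.x_mem_Ys (by simp [hmk]) (by simpa using hk') (by simpa using hm') w
  obtain ⟨h, hh⟩ : (S.Z k m)⁻¹ * (S.Z j k * S.Z k m * (S.Z j k)⁻¹) * S.Z k m ∈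
      (S.φs j k).range := by
    have key := range_le (S.φs k m)
      (H := ((S.φs j k).range.comap (MulAut.conj (S.Z k m)⁻¹).toMonoidHom).comap
        (MulAut.conj (S.Z j k)).toMonoidHom) ?_ ?_ wS
    · simpa [Z] using key
    all_goals intro t; simp only [Subgroup.mem_comap, MulEquiv.coe_toMonoidHom, MulAut.conj_apply,
      inv_inv]
    · rw [S.φs_up k m hmk.symm]
      obtain ⟨u, hu⟩ := S.Z_conj j k hjk (a := Sum.inl k) (b := Sum.inr m) (by simp [hmk]) t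
      rw [show S.Z j k = S.φs j k wS from rfl, hu]
      refine S.Z_le' hmk.symm (zi_ok (by simp [hmk])) (fun w => MonoidHom.mem_range.2 ⟨up w, ?_⟩) u
      rw [S.φs_up j k hjk]
      simp [zi, Equiv.swap_apply_of_ne_of_ne hm.1 hmk,
        Equiv.swap_apply_of_ne_of_ne hjk (Ne.symm hm.1)]
    · rw [S.φs_dn k m hmk.symm]
      obtain ⟨u, hu⟩ := S.Z_conj j k hjk (a := Sum.inl m) (b := Sum.inr k) (by simp [hmk.symm]) t
      rw [show S.Z j k = S.φs j k wS from rfl, hu]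
      refine S.Z_le' hmk.symm (zi_ok (by simp [hmk.symm])) (fun w => MonoidHom.mem_range.2 ⟨dn w, ?_⟩) u
      rw [S.φs_dn j k hjk]
      simp [zi, Equiv.swap_apply_of_ne_of_ne hm.1 hmk,
        Equiv.swap_apply_of_ne_of_ne hjk (Ne.symm hm.1)]
  have hc : (S.Z k m)⁻¹ * S.D j (-1) = S.D j (-1) * (S.Z k m)⁻¹ :=
    (S.commute_Ys _ (inv_mem hZm)).symm.eq
  have := (mul_mem (mul_mem (mul_mem (S.Ys_stable (k := k) hj h1) (S.Q_stable hj hk hjk h2))
    (S.Ys_stable (k := k) hj h3)) (S.Ys_stable (k := k) hj hZm)).1 _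
    (S.phi_mem hj hk hjk h (-1) (mul_mem (mul_mem (inv_mem (S.Ys_le_P hZm))
      (S.D_mem_P hk hjk (dg (-1)))) hp''))
  convert this using 1
  rw [hh]
  have hsq := S.Z_sq hjk
  simp only [D] at hc hsq ⊢
  calc _ = S.Z j k * g'' * S.φs k m (up a) * S.Z k m *
        (p' * S.φs j k (up c) * S.Z j k * p) := by group
    _ = (S.Z j k * g'' * (S.Z j k)⁻¹) * (S.Z j k * S.φs k m (up a) * (S.Z j k)⁻¹) *
        (S.Z j k * (S.Z k m * S.φs j k (up c) * (S.Z k m)⁻¹) * (S.Z j k)⁻¹) *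
        (S.Z j k * S.Z k m * (S.Z j k)⁻¹) * (S.Z j k * S.Z j k) * p'' := by rw [e]; group
    _ = _ := by
      rw [hsq]
      simp only [mul_assoc, mul_inv_cancel_left, inv_mul_cancel_left]
      rw [← mul_assoc (S.φl j (dg (-1))) (S.Z k m)⁻¹, ← hc, mul_assoc, mul_inv_cancel_left]

theorem all_mem (hj : j ∉ s) (hk : k ∉ s) (hjk : j ≠ k)
    (IH : ∀ g ∈ S.Ys (insert j s), S.AC (insert j s) k g ∨
      ∃ m, m ∉ insert j s ∧ m ≠ k ∧ S.BB (insert j s) k m g)
    {y : Y} (hy : y ∈ S.Ys s) : S.T s j k y := by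
  have hk' : k ∉ insert j s := by simp [hjk.symm, hk]
  have hDk : S.D k (-1) ∈ S.Ys (insert j s) := S.φl_mem_Ys hk' _
  have hZ : S.Z j k ∈ Stable (S.T s j k) :=
    ⟨S.Z_lft hj hk hjk IH, fun y hy => by
      rw [S.Z_inv hjk, mul_assoc]
      exact (mul_mem (S.D_stable hj hk hjk (-1)) (S.Ys_stable (k := k) hj hDk)).1 _
        (S.Z_lft hj hk hjk IH y hy)⟩
  have hW : S.W j ∈ Stable (S.T s j k) := by
    refine S.φl_mem (fun t => S.Q_stable hj hk hjk
      (S.x_mem_QT (T := TQ s j) ⟨by simp, by simpa using hj⟩ t)) (fun t => ?_) wS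
    have h : (S.Z j k)⁻¹ * S.x (Sum.inr j) (Sum.inr j) t * S.Z j k ∈ Stable (S.T s j k) := by
      refine S.Z_le' hjk (self_ok _) (fun u => S.Ys_stable hj ?_) t
      simp only [zi, Sum.map_inr, Equiv.swap_apply_left]
      exact S.x_mem_Ys (self_ok _) (by simpa using hk') (by simpa using hk') u
    simpa [mul_assoc] using mul_mem (mul_mem hZ h) (inv_mem hZ)
  have hxs : ∀ a b, b ≠ a.swap → ix a = j → ix b ∉ s → ∀ t,
      S.x a b t ∈ Stable (S.T s j k) := by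
    intro a b hok ha hb t
    by_cases hf : a = Sum.inl j ∧ b ≠ Sum.inr j
    · obtain ⟨rfl, hb'⟩ := hf
      exact S.Q_stable hj hk hjk (S.x_mem_QT (T := TQ s j) ⟨hb', hb⟩ t)
    have haf : a = Sum.inr j := by
      rcases a with a | a
      · simp only [ix_inl] at ha
        subst ha
        exact absurd ⟨rfl, fun e => hok (by simpa using e)⟩ hf
      · simp only [ix_inr] at ha; rw [ha]
    subst haf
    have h : (S.W j)⁻¹ * S.x (Sum.inr j) b t * S.W j ∈ Stable (S.T s j k) := by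
      refine S.W_le' hok (fun u => S.Q_stable hj hk hjk ?_) t
      rw [show wi j (Sum.inr j : l ⊕ l) = Sum.inl j by simp [wi]]
      refine S.x_mem_QT (T := TQ s j) ⟨fun e => ?_, ?_⟩ u
      · rcases b with b | b <;> simp only [wi, ix_inl, ix_inr] at e <;> split_ifs at e <;>
          simp_all
      · unfold wi; split_ifs <;> simpa using hb
    simpa [mul_assoc] using mul_mem (mul_mem hW h) (inv_mem hW)
  have hle : S.Ys s ≤ Stable (S.T s j k) := by
    rw [Ys, Subgroup.closure_le]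
    rintro _ ⟨a, b, t, hok, ha, hb, rfl⟩
    by_cases h1 : ix a = j
    · exact hxs a b hok h1 hb t
    by_cases h2 : ix b = j
    · rw [S.symm hok]
      exact hxs b a (fun e => hok (by rw [e, Sum.swap_swap])) h2 ha t
    exact S.Ys_stable hj (S.x_mem_Ys hok (by simp [h1, ha]) (by simp [h2, hb]) t)
  simpa using (hle hy).1 1 (Or.inl (Or.inr ⟨1, 1, one_mem _, by rw [S.D_one, one_mul]⟩))

end Setup

end CfsgLib.Pres.SpR
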