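import Cfsg.Agent.Lib.Pres.SpInj

/-!
A bounded set of conditions on a symmetric group, one rank one subgroup and one short root subgroup
gives root elements for the symplectic group.
-/

set_option autoImplicit false

namespace CfsgLib.Pres.SpR

open Matrix Equiv CfsgLib.Classical CfsgLib.Steinberg CfsgLib.Steinberg.R1Data
open scoped MatrixGroups commutatorElement

variable {l : Type*} [Fintype l] [DecidableEq l] {F : Type*} [Field F]

omit [Fintype l] [DecidableEq l] in
theorem ix_map (σ : Perm l) (a : l ⊕ l) : ix (Sum.map σ σ a) = σ (ix a) := by cases a <;> rfl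

omit [Fintype l] [DecidableEq l] in
theorem ix_ne {a b : l ⊕ l} (h : b ≠ a.swap) (h' : b ≠ a) : ix a ≠ ix b := by
  intro e
  rcases a with a | a <;> rcases b with b | b <;> simp only [ix_inl, ix_inr] at e <;> subst e <;>
    simp_all

omit [Fintype l] [DecidableEq l] in
theorem perm_inv_self (σ : Perm l) (i : l) : σ⁻¹ (σ i) = i := σ.symm_apply_apply i

omit [Fintype l] [DecidableEq l] in
theorem perm_self_inv (σ : Perm l) (i : l) : σ (σ⁻¹ i) = i := σ.apply_symm_apply i

theorem E_conj {g : Matrix.symplecticGroup l F} {a b a' b' : l ⊕ l} {ca cb : F}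
    (ha : g.1 *ᵥ (bv a : l ⊕ l → F) = ca • bv a') (hb : g.1 *ᵥ (bv b : l ⊕ l → F) = cb • bv b')
    (hok : b ≠ a.swap) (hok' : b' ≠ a'.swap) (hab : a ≠ b) (hab' : a' ≠ b') (t : F) :
    g * E a b t * g⁻¹ = E a' b' (ca * cb * t) := by
  refine sp_ext fun v => ?_
  have e1 : sbil (bv a) ((g⁻¹).1 *ᵥ v) = ca * sbil (bv a') v := by
    rw [← sbil_smul_left, ← ha, ← sbil_mulVec g, sp_mulVec_inv]
  have e2 : sbil (bv b) ((g⁻¹).1 *ᵥ v) = cb * sbil (bv b') v := by
    rw [← sbil_smul_left, ← hb, ← sbil_mulVec g, sp_mulVec_inv]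
  simp only [sp_mul_mulVec, E_mulVec_ne hab hok, E_mulVec_ne hab' hok', mulVec_add, mulVec_smul,
    ha, hb, sp_mulVec_inv, e1, e2]
  module

/-- The data and the conditions. -/
structure SpData (l : Type*) [Fintype l] [DecidableEq l] (F : Type*) [Field F] (X : Type*)
    [Group X] (o p : l) where
  ψ : Perm l →* X
  φ : SL(2, F) →* X
  a : F → X
  π : X →* Matrix.symplecticGroup l F
  πψ : ∀ σ A, (π (ψ σ)).1 *ᵥ (bv A : l ⊕ l → F) = bv (Sum.map σ σ A)
  πup : ∀ t, π (φ (up t)) = E (Sum.inl o) (Sum.inl o) (-t)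
  πdn : ∀ t, π (φ (dn t)) = E (Sum.inr o) (Sum.inr o) t
  πa : ∀ t, π (a t) = E (Sum.inl o) (Sum.inl p) t
  op : o ≠ p
  stab0 : ∀ σ : Perm l, σ o = o → ∀ h, Commute (ψ σ) (φ h)
  disj0 : ∀ h h', Commute (φ h) (ψ (swap o p) * φ h' * (ψ (swap o p))⁻¹)
  sta : ∀ σ : Perm l, σ o = o → σ p = p → ∀ t, Commute (ψ σ) (a t)
  swa : ∀ t, Commute (ψ (swap o p)) (a t)
  a_add : ∀ t u, a t * a u = a (t + u)
  tor0 : ∀ c t, φ (dg c) * a t * (φ (dg c))⁻¹ = a ((c : F) * t)
  far : ∀ σ : Perm l, σ o ≠ o → σ o ≠ p → ∀ h t, Commute (ψ σ * φ h * (ψ σ)⁻¹) (a t)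
  wrel : ψ (swap o p) * φ (dg (-1)) =
    (ψ (swap o p) * φ wS * (ψ (swap o p))⁻¹) * a (-1) * (ψ (swap o p) * φ wS * (ψ (swap o p))⁻¹)⁻¹ *
      (φ wS * a 1 * (φ wS)⁻¹) *
      ((ψ (swap o p) * φ wS * (ψ (swap o p))⁻¹) * a (-1) *
        (ψ (swap o p) * φ wS * (ψ (swap o p))⁻¹)⁻¹)
  c1 : ∀ t u, Commute (φ (up t)) (a u)
  c2 : ∀ σ : Perm l, σ o ≠ o → σ o ≠ p → σ p ≠ o → σ p ≠ p →
    ∀ t u, Commute (a t) (ψ σ * a u * (ψ σ)⁻¹)
  c3 : ∀ σ : Perm l, σ o = o → σ p ≠ p → ∀ t u, Commute (a t) (ψ σ * a u * (ψ σ)⁻¹)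
  c4 : ∀ t u, ⁅a t, (ψ (swap o p) * φ wS * (ψ (swap o p))⁻¹) * a u *
    (ψ (swap o p) * φ wS * (ψ (swap o p))⁻¹)⁻¹⁆ = φ (up (-(2 * t * u)))
  c5 : ∀ t u, ⁅ψ (swap o p) * φ (dn t) * (ψ (swap o p))⁻¹, a u⁆ =
    (ψ (swap o p) * φ wS * (ψ (swap o p))⁻¹) * a (-(t * u)) *
      (ψ (swap o p) * φ wS * (ψ (swap o p))⁻¹)⁻¹ * φ (up (u * u * t))
  c6 : ∀ σ : Perm l, σ o = p → σ p ≠ o → ∀ t u,
    ⁅(ψ (swap o p) * φ wS * (ψ (swap o p))⁻¹) * (ψ σ * a t * (ψ σ)⁻¹) *
      (ψ (swap o p) * φ wS * (ψ (swap o p))⁻¹)⁻¹, a u⁆ =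
      ψ (swap p (σ p)) * a (-(t * u)) * (ψ (swap p (σ p)))⁻¹

namespace SpData

open Setup (self_ok wi_ok zi_ok)

variable {X : Type*} [Group X] {o p : l} (D : SpData l F X o p)

/-- conjugation by a permutation -/
def cj (σ : Perm l) : X →* X := (MulAut.conj (D.ψ σ)).toMonoidHom

theorem cj_apply (σ : Perm l) (y : X) : D.cj σ y = D.ψ σ * y * (D.ψ σ)⁻¹ := rfl

theorem cj_cj (σ τ : Perm l) (y : X) : D.cj σ (D.cj τ y) = D.cj (σ * τ) y := by
  rw [cj_apply, cj_apply, cj_apply, map_mul]; group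

theorem cj_one (y : X) : D.cj 1 y = y := by rw [cj_apply, map_one]; group

/-- the rank one homomorphisms -/
def φi (i : l) : SL(2, F) →* X := (D.cj (swap o i)).comp D.φ

theorem φi_o (h : SL(2, F)) : D.φi o h = D.φ h := by
  show D.cj (swap o o) (D.φ h) = _
  rw [swap_self, ← Perm.one_def, cj_one]

theorem φi_eq (σ : Perm l) (h : SL(2, F)) : D.cj σ (D.φ h) = D.φi (σ o) h := by
  show _ = D.cj (swap o (σ o)) (D.φ h)
  have hfix : (swap o (σ o) * σ) o = o := by simp
  have hc : D.cj (swap o (σ o) * σ) (D.φ h) = D.φ h := by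
    rw [cj_apply, (D.stab0 _ hfix h).eq, mul_inv_cancel_right]
  conv_rhs => rw [← hc, cj_cj, ← mul_assoc, Equiv.swap_mul_self, one_mul]

theorem φi_equiv (σ : Perm l) (i : l) (h : SL(2, F)) : D.cj σ (D.φi i h) = D.φi (σ i) h := by
  show D.cj σ (D.cj (swap o i) (D.φ h)) = _
  rw [cj_cj, φi_eq]
  simp

include D in
theorem exists_perm_two {i k : l} (h : i ≠ k) : ∃ σ : Perm l, σ o = i ∧ σ p = k := by
  refine ⟨swap (swap o i p) k * swap o i, ?_, by simp⟩
  rw [Perm.mul_apply, Equiv.swap_apply_left, Equiv.swap_apply_of_ne_of_ne]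
  · intro e
    exact D.op ((swap o i).injective ((Equiv.swap_apply_left o i).trans e))
  · exact h

theorem φi_comm {i k : l} (hik : i ≠ k) (h h' : SL(2, F)) : Commute (D.φi i h) (D.φi k h') := by
  obtain ⟨σ, rfl, rfl⟩ := D.exists_perm_two hik
  have := (D.disj0 h h').map (D.cj σ)
  rwa [φi_eq, show D.ψ (swap o p) * D.φ h' * (D.ψ (swap o p))⁻¹ = D.φi p h' from rfl, φi_equiv] at this

theorem a_zero : D.a 0 = 1 := by
  have := D.a_add 0 0
  rwa [add_zero, mul_eq_left] at this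

theorem a_inv (t : F) : (D.a t)⁻¹ = D.a (-t) := by
  rw [inv_eq_iff_mul_eq_one, D.a_add, add_neg_cancel, D.a_zero]

theorem swap_a (t : F) : D.cj (swap o p) (D.a t) = D.a t := by
  rw [cj_apply, (D.swa t).eq, mul_inv_cancel_right]

theorem torP (c : Fˣ) (t : F) :
    D.φi p (dg c) * D.a t * (D.φi p (dg c))⁻¹ = D.a ((c : F) * t) := by
  have := congrArg (D.cj (swap o p)) (D.tor0 c t)
  rwa [map_mul, map_mul, map_inv, swap_a, swap_a] at this

theorem far' {i : l} (h1 : i ≠ o) (h2 : i ≠ p) (h : SL(2, F)) (t : F) :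
    Commute (D.φi i h) (D.a t) := by
  have := D.far (swap o i) (by simpa using h1) (by simpa using h2) h t
  exact this

/-- a flip of a vector -/
def fl (ε : Bool) (i : l) : X := if ε then D.φi i wS else 1

/-- the sign of a flip -/
def sg (ε : Bool) : F := if ε then -1 else 1

/-- the root elements of the first two indices -/
def core (ε δ : Bool) (t : F) : X :=
  (D.fl ε o * D.fl δ p) * D.a (sg ε * sg δ * t) * (D.fl ε o * D.fl δ p)⁻¹

theorem fl_comm {i k : l} (hik : i ≠ k) (ε δ : Bool) : Commute (D.fl ε i) (D.fl δ k) := by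
  cases ε <;> cases δ <;> simp [fl]
  exact D.φi_comm hik _ _

theorem cj_fl (σ : Perm l) (ε : Bool) (i : l) : D.cj σ (D.fl ε i) = D.fl ε (σ i) := by
  cases ε
  · simp [fl]
  · simp only [fl, if_true]; exact D.φi_equiv σ i _

theorem core_add (ε δ : Bool) (t u : F) : D.core ε δ t * D.core ε δ u = D.core ε δ (t + u) := by
  simp only [core]
  rw [mul_add (sg ε * sg δ), ← D.a_add]
  group

theorem core_stab {σ : Perm l} (h0 : σ o = o) (h1 : σ p = p) (ε δ : Bool) (t : F) :
    D.cj σ (D.core ε δ t) = D.core ε δ t := by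
  have ha : ∀ t, D.cj σ (D.a t) = D.a t := fun t => by
    rw [cj_apply, (D.sta σ h0 h1 t).eq, mul_inv_cancel_right]
  simp only [core, map_mul, map_inv, cj_fl, h0, h1, ha]

theorem core_swap (ε δ : Bool) (t : F) : D.cj (swap o p) (D.core ε δ t) = D.core δ ε t := by
  simp only [core, map_mul, map_inv, cj_fl, Equiv.swap_apply_left, Equiv.swap_apply_right, swap_a,
    (D.fl_comm D.op δ ε).eq, mul_comm (sg (F := F) ε) (sg δ)]

theorem wS_dg_conj (c : Fˣ) : (wS : SL(2, F))⁻¹ * dg c * wS = dg c⁻¹ := by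
  rw [mul_assoc, wS_dg, ← mul_assoc, inv_mul_cancel, one_mul]

theorem φi_dg_fl (c : Fˣ) (i : l) (ε : Bool) :
    D.φi i (dg c) * D.fl ε i = D.fl ε i * D.φi i (dg (if ε then c⁻¹ else c)) := by
  cases ε
  · simp [fl]
  · simp only [fl, if_true, ← map_mul, wS_dg]

theorem core_tor (c : Fˣ) (ε δ : Bool) (t : F) :
    D.φi o (dg c) * D.core ε δ t * (D.φi o (dg c))⁻¹ =
      D.core ε δ (((if ε then c⁻¹ else c : Fˣ) : F) * t) := by
  have h2 : Commute (D.φi o (dg (if ε then c⁻¹ else c))) (D.fl δ p) := by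
    cases δ
    · simp [fl]
    · simp only [fl, if_true]; exact D.φi_comm D.op _ _
  have h1 : D.φi o (dg c) * (D.fl ε o * D.fl δ p) =
      (D.fl ε o * D.fl δ p) * D.φi o (dg (if ε then c⁻¹ else c)) := by
    rw [← mul_assoc, φi_dg_fl, mul_assoc, h2.eq, mul_assoc]
  simp only [core]
  rw [show sg ε * sg δ * (((if ε then c⁻¹ else c : Fˣ) : F) * t) =
    ((if ε then c⁻¹ else c : Fˣ) : F) * (sg ε * sg δ * t) by ring, ← D.tor0, ← φi_o]
  calc _ = (D.φi o (dg c) * (D.fl ε o * D.fl δ p)) * D.a (sg ε * sg δ * t) *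
        (D.φi o (dg c) * (D.fl ε o * D.fl δ p))⁻¹ := by group
    _ = _ := by rw [h1]; group

theorem core_W (ε δ : Bool) (t : F) :
    D.φi o wS * D.core ε δ t * (D.φi o wS)⁻¹ = D.core (!ε) δ ((if ε then 1 else -1) * t) := by
  cases ε
  · simp only [core, fl, sg, Bool.not_false, if_true, Bool.false_eq_true, if_false, one_mul]
    rw [show (-1 : F) * (if δ = true then -1 else 1) * (-1 * t) =
      (if δ = true then -1 else 1) * t by ring]
    group
  · have hsq : D.φi o wS * D.φi o wS = D.φi o (dg (-1)) := by rw [← map_mul, wS_sq_eq]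
    have h := D.core_tor (-1) false δ (-t)
    simp only [core, fl, sg, Bool.not_true, if_true, Bool.false_eq_true, if_false, one_mul,
      Units.val_neg, Units.val_one, neg_mul, neg_neg] at h ⊢
    rw [← h, ← hsq]
    simp only [mul_assoc, mul_neg]
    group

theorem core_far {i : l} (h1 : i ≠ o) (h2 : i ≠ p) (h : SL(2, F)) (ε δ : Bool) (t : F) :
    Commute (D.φi i h) (D.core ε δ t) := by
  have hf : ∀ (ε : Bool) k, i ≠ k → Commute (D.φi i h) (D.fl ε k) := fun ε k hk => by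
    cases ε
    · simp [fl]
    · simp only [fl, if_true]; exact D.φi_comm hk _ _
  have := ((hf ε o h1).mul_right (hf δ p h2))
  exact (this.mul_right (D.far' h1 h2 h _)).mul_right this.inv_right

/-- a permutation moving the first two indices -/
noncomputable def mv (i k : l) : Perm l :=
  if h : i ≠ k then (D.exists_perm_two h).choose else 1

theorem mv_o {i k : l} (h : i ≠ k) : D.mv i k o = i := by
  rw [mv, dif_pos h]; exact (D.exists_perm_two h).choose_spec.1

theorem mv_p {i k : l} (h : i ≠ k) : D.mv i k p = k := by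
  rw [mv, dif_pos h]; exact (D.exists_perm_two h).choose_spec.2

/-- The root elements. -/
noncomputable def x (A B : l ⊕ l) (t : F) : X :=
  if A = B then Sum.elim (fun i => D.φi i (up (-t))) (fun i => D.φi i (dn t)) A
  else D.cj (D.mv (ix A) (ix B)) (D.core A.isRight B.isRight t)

theorem x_inl (i : l) (t : F) : D.x (Sum.inl i) (Sum.inl i) t = D.φi i (up (-t)) := if_pos rfl

theorem x_inr (i : l) (t : F) : D.x (Sum.inr i) (Sum.inr i) t = D.φi i (dn t) := if_pos rfl

theorem x_short {σ : Perm l} {A B : l ⊕ l} (h : σ o = ix A) (h' : σ p = ix B) (t : F) :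
    D.x A B t = D.cj σ (D.core A.isRight B.isRight t) := by
  have hne : ix A ≠ ix B := by rw [← h, ← h']; exact fun e => D.op (σ.injective e)
  have hAB : A ≠ B := fun e => hne (by rw [e])
  rw [x, if_neg hAB]
  have hh : D.mv (ix A) (ix B) = σ * (σ⁻¹ * D.mv (ix A) (ix B)) := by group
  conv_lhs => rw [hh, ← cj_cj]
  rw [core_stab]
  · rw [Perm.mul_apply, D.mv_o hne, ← h, perm_inv_self]
  · rw [Perm.mul_apply, D.mv_p hne, ← h', perm_inv_self]

omit [Fintype l] [DecidableEq l] in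
theorem isRight_map (σ : Perm l) (A : l ⊕ l) : (Sum.map σ σ A).isRight = A.isRight := by
  cases A <;> rfl

theorem x_equiv (σ : Perm l) {A B : l ⊕ l} (hok : B ≠ A.swap) (t : F) :
    D.cj σ (D.x A B t) = D.x (Sum.map σ σ A) (Sum.map σ σ B) t := by
  rcases eq_or_ne A B with rfl | hne
  · rcases A with i | i <;> simp [x_inl, x_inr, φi_equiv]
  have hix := ix_ne hok hne.symm
  rw [D.x_short (D.mv_o hix) (D.mv_p hix), cj_cj, D.x_short (σ := σ * D.mv (ix A) (ix B))
    (by rw [Perm.mul_apply, D.mv_o hix, ix_map]) (by rw [Perm.mul_apply, D.mv_p hix, ix_map]),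
    isRight_map, isRight_map]

theorem x_symm {A B : l ⊕ l} (hok : B ≠ A.swap) (t : F) : D.x A B t = D.x B A t := by
  rcases eq_or_ne A B with rfl | hne
  · rfl
  have hix := ix_ne hok hne.symm
  rw [D.x_short (σ := D.mv (ix A) (ix B) * swap o p) (A := B) (B := A)
    (by simp [D.mv_p hix]) (by simp [D.mv_o hix]), ← cj_cj, core_swap,
    D.x_short (D.mv_o hix) (D.mv_p hix)]

theorem x_add {A B : l ⊕ l} (hok : B ≠ A.swap) (t u : F) :
    D.x A B t * D.x A B u = D.x A B (t + u) := by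
  rcases eq_or_ne A B with rfl | hne
  · rcases A with i | i
    · rw [x_inl, x_inl, x_inl, ← map_mul]
      congr 1
      refine Subtype.ext ?_
      rw [sl_coe_mul]
      ext a b; fin_cases a <;> fin_cases b <;> simp [Matrix.mul_apply, Fin.sum_univ_two]
    · rw [x_inr, x_inr, x_inr, ← map_mul]
      congr 1
      refine Subtype.ext ?_
      rw [sl_coe_mul]
      ext a b; fin_cases a <;> fin_cases b <;> simp [Matrix.mul_apply, Fin.sum_univ_two, add_comm]
  have hix := ix_ne hok hne.symm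
  rw [D.x_short (D.mv_o hix) (D.mv_p hix), D.x_short (D.mv_o hix) (D.mv_p hix),
    D.x_short (D.mv_o hix) (D.mv_p hix), ← map_mul, core_add]

/-- a monomial element -/
def Mon (g : X) (f : l ⊕ l → l ⊕ l) : Prop :=
  ∀ A B, B ≠ A.swap → (f B ≠ (f A).swap) ∧
    ∃ s : F, s ≠ 0 ∧ ∀ t, g * D.x A B t * g⁻¹ = D.x (f A) (f B) (s * t)

theorem Mon.mul {g g' : X} {f f' : l ⊕ l → l ⊕ l} (h : D.Mon g f) (h' : D.Mon g' f') :
    D.Mon (g * g') (f ∘ f') := by
  intro A B hok
  obtain ⟨hok', s', hs', e'⟩ := h' A B hok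
  obtain ⟨hok'', s, hs, e⟩ := h _ _ hok'
  refine ⟨hok'', s * s', mul_ne_zero hs hs', fun t => ?_⟩
  rw [show g * g' * D.x A B t * (g * g')⁻¹ = g * (g' * D.x A B t * g'⁻¹) * g⁻¹ by group, e', e,
    mul_assoc]
  rfl

theorem mon_perm (σ : Perm l) : D.Mon (D.ψ σ) (Sum.map σ σ) := by
  intro A B hok
  refine ⟨?_, 1, one_ne_zero, fun t => by rw [one_mul, ← D.x_equiv σ hok]; rfl⟩
  intro e
  apply hok
  rcases A with a | a <;> rcases B with b | b <;> simp at e ⊢
  all_goals exact e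

theorem W_first {A B : l ⊕ l} (hok : B ≠ A.swap) (hne : A ≠ B) (t : F) :
    D.φi (ix A) wS * D.x A B t * (D.φi (ix A) wS)⁻¹ =
      D.x A.swap B ((if A.isRight then 1 else -1) * t) := by
  have hix := ix_ne hok hne.symm
  rw [D.x_short (D.mv_o hix) (D.mv_p hix), D.x_short (σ := D.mv (ix A) (ix B)) (A := A.swap)
    (by rw [D.mv_o hix, ix_swap]) (D.mv_p hix)]
  conv_lhs => arg 1; arg 1; rw [← D.mv_o hix, ← D.φi_equiv]
  conv_lhs => arg 2; rw [← D.mv_o hix, ← D.φi_equiv, ← map_inv]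
  rw [← map_mul, ← map_mul, core_W]
  cases A <;> rfl

theorem out {i : l} {A B : l ⊕ l} (hok : B ≠ A.swap) (ha : i ≠ ix A) (hb : i ≠ ix B)
    (h : SL(2, F)) (t : F) : Commute (D.φi i h) (D.x A B t) := by
  rcases eq_or_ne A B with rfl | hne
  · rcases A with a | a <;> simp only [x_inl, x_inr] <;> exact D.φi_comm ha _ _
  have hix := ix_ne hok hne.symm
  rw [D.x_short (D.mv_o hix) (D.mv_p hix)]
  have := (D.core_far (i := (D.mv (ix A) (ix B))⁻¹ i)
    (fun e => ha (((perm_self_inv _ i).symm.trans (congrArg _ e)).trans (D.mv_o hix)))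
    (fun e => hb (((perm_self_inv _ i).symm.trans (congrArg _ e)).trans (D.mv_p hix)))
    h A.isRight B.isRight t).map (D.cj (D.mv (ix A) (ix B)))
  rwa [φi_equiv, perm_self_inv] at this

theorem W_long (i : l) (t : F) :
    D.φi i wS * D.x (Sum.inl i) (Sum.inl i) t * (D.φi i wS)⁻¹ =
      D.x (Sum.inr i) (Sum.inr i) (1 * t) ∧
    D.φi i wS * D.x (Sum.inr i) (Sum.inr i) t * (D.φi i wS)⁻¹ =
      D.x (Sum.inl i) (Sum.inl i) (1 * t) := by
  rw [x_inl, x_inr, x_inr, x_inl, one_mul, ← map_inv, ← map_mul, ← map_mul, ← map_mul, ← map_mul]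
  constructor <;> congr 1 <;> rw [mul_inv_eq_iff_eq_mul] <;> refine Subtype.ext ?_ <;>
    rw [sl_coe_mul, sl_coe_mul] <;>
    ext a b <;> fin_cases a <;> fin_cases b <;> simp [Matrix.mul_apply, Fin.sum_univ_two]

theorem mon_flip (i : l) : D.Mon (D.φi i wS) (wi i) := by
  intro A B hok
  refine ⟨wi_ok hok, ?_⟩
  rcases eq_or_ne A B with rfl | hne
  · by_cases ha : ix A = i
    · refine ⟨1, one_ne_zero, fun t => ?_⟩
      subst ha
      rw [show wi (ix A) A = A.swap by simp [wi]]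
      rcases A with a | a
      · exact (D.W_long a t).1
      · exact (D.W_long a t).2
    · refine ⟨1, one_ne_zero, fun t => ?_⟩
      rw [show wi i A = A by simp [wi, ha], one_mul, (D.out hok (Ne.symm ha) (Ne.symm ha) _ t).eq,
        mul_inv_cancel_right]
  have hix := ix_ne hok hne.symm
  by_cases ha : ix A = i
  · subst ha
    refine ⟨if A.isRight then 1 else -1, by split <;> simp, fun t => ?_⟩
    rw [show wi (ix A) A = A.swap by simp [wi], show wi (ix A) B = B by simp [wi, Ne.symm hix]]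
    exact D.W_first hok hne t
  by_cases hb : ix B = i
  · subst hb
    refine ⟨if B.isRight then 1 else -1, by split <;> simp, fun t => ?_⟩
    have hok' : A ≠ B.swap := fun e => hok (by rw [e, Sum.swap_swap])
    rw [show wi (ix B) B = B.swap by simp [wi], show wi (ix B) A = A by simp [wi, hix],
      D.x_symm hok, D.W_first hok' hne.symm t, D.x_symm]
    rw [Sum.swap_swap]; exact hne
  refine ⟨1, one_ne_zero, fun t => ?_⟩
  rw [show wi i A = A by simp [wi, ha], show wi i B = B by simp [wi, hb], one_mul,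
    (D.out hok (Ne.symm ha) (Ne.symm hb) _ t).eq, mul_inv_cancel_right]

theorem exists_mon (σ : Perm l) (T : Finset l) :
    ∃ g, D.Mon g fun A => if σ (ix A) ∈ T then (Sum.map σ σ A).swap else Sum.map σ σ A := by
  induction T using Finset.induction_on with
  | empty => exact ⟨D.ψ σ, by simpa using D.mon_perm σ⟩
  | insert i T hi ih =>
    obtain ⟨g, hg⟩ := ih
    refine ⟨D.φi i wS * g, ?_⟩
    convert Mon.mul D (D.mon_flip i) hg using 1
    funext A
    have : ∀ B : l ⊕ l, wi i B = if ix B = i then B.swap else B := fun B => rfl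
    simp only [Function.comp_apply, this]
    by_cases h : σ (ix A) = i
    · subst h; simp [hi, ix_map]
    · by_cases h' : σ (ix A) ∈ T <;> simp [h, h', ix_map]

open _root_.Classical in
theorem exists_flip (σ : Perm l) (L : List (l ⊕ l)) (hL : (L.map ix).Nodup) :
    ∃ g f, D.Mon g f ∧ ∀ i : l, ∀ C ∈ L, σ i = ix C → f (Sum.inl i) = C ∧ f (Sum.inr i) = C.swap := by
  obtain ⟨g, hg⟩ := D.exists_mon σ (Finset.univ.filter fun i => Sum.inr i ∈ L)
  refine ⟨g, _, hg, fun i C hC he => ?_⟩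
  have key : (σ i ∈ Finset.univ.filter fun i => Sum.inr i ∈ L) ↔ C.isRight := by
    rw [Finset.mem_filter]
    refine ⟨fun h => ?_, fun h => ⟨Finset.mem_univ _, ?_⟩⟩
    · have := List.inj_on_of_nodup_map hL hC h.2 (by simp [he])
      rw [this]; rfl
    · rcases C with c | c
      · simp at h
      · rw [he]; exact hC
  simp only [ix_inl, ix_inr, key]
  rcases C with c | c <;> simp only [ix_inl, ix_inr] at he <;> simp [he]

theorem exists_flip2 {a b : l ⊕ l} (h : ix a ≠ ix b) :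
    ∃ g f, D.Mon g f ∧ f (Sum.inl o) = a ∧ f (Sum.inr o) = a.swap ∧ f (Sum.inl p) = b ∧
      f (Sum.inr p) = b.swap := by
  obtain ⟨σ, h1, h2⟩ := D.exists_perm_two h
  obtain ⟨g, f, hm, hf⟩ := D.exists_flip σ [a, b] (by simp [h])
  exact ⟨g, f, hm, (hf o a (by simp) h1).1, (hf o a (by simp) h1).2, (hf p b (by simp) h2).1,
    (hf p b (by simp) h2).2⟩

/-- transfer of a commutation -/
theorem transfer {g : X} {f : l ⊕ l → l ⊕ l} (h : D.Mon g f) {A B C E : l ⊕ l}
    (hok : B ≠ A.swap) (hok' : E ≠ C.swap)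
    (hc : ∀ t u, Commute (D.x A B t) (D.x C E u)) (t u : F) :
    Commute (D.x (f A) (f B) t) (D.x (f C) (f E) u) := by
  obtain ⟨-, s, hs, e⟩ := h A B hok
  obtain ⟨-, s', hs', e'⟩ := h C E hok'
  have := (hc (s⁻¹ * t) (s'⁻¹ * u)).map (MulAut.conj g).toMonoidHom
  simp only [MulEquiv.coe_toMonoidHom, MulAut.conj_apply, e, e'] at this
  rwa [mul_inv_cancel_left₀ hs, mul_inv_cancel_left₀ hs'] at this

/-- transfer of a commutator -/
theorem transfer2 {g : X} {f : l ⊕ l → l ⊕ l} (h : D.Mon g f) {A B C E : l ⊕ l}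
    (hok : B ≠ A.swap) (hok' : E ≠ C.swap) {P : Subgroup X} {Q : Subgroup X}
    (hP : ∀ y ∈ P, g * y * g⁻¹ ∈ Q) (hc : ∀ t u, ⁅D.x A B t, D.x C E u⁆ ∈ P) (t u : F) :
    ⁅D.x (f A) (f B) t, D.x (f C) (f E) u⁆ ∈ Q := by
  obtain ⟨-, s, hs, e⟩ := h A B hok
  obtain ⟨-, s', hs', e'⟩ := h C E hok'
  have := hP _ (hc (s⁻¹ * t) (s'⁻¹ * u))
  rw [← MulAut.conj_apply, map_commutatorElement, MulAut.conj_apply, MulAut.conj_apply, e, e',
    mul_inv_cancel_left₀ hs, mul_inv_cancel_left₀ hs'] at this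
  exact this

theorem core00 (t : F) : D.core false false t = D.a t := by simp [core, fl, sg]

theorem core01 (t : F) : D.core false true t = D.φi p wS * D.a (-t) * (D.φi p wS)⁻¹ := by
  simp [core, fl, sg]

theorem core10 (t : F) : D.core true false t = D.φi o wS * D.a (-t) * (D.φi o wS)⁻¹ := by
  simp [core, fl, sg]

theorem x00 (t : F) : D.x (Sum.inl o) (Sum.inl p) t = D.a t := by
  rw [D.x_short (σ := 1) rfl rfl, cj_one]; exact D.core00 t

theorem x01 (t : F) :
    D.x (Sum.inl o) (Sum.inr p) t = D.φi p wS * D.a (-t) * (D.φi p wS)⁻¹ := by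
  rw [D.x_short (σ := 1) rfl rfl, cj_one]; exact D.core01 t

theorem xσ (σ : Perm l) (t : F) :
    D.x (Sum.inl (σ o)) (Sum.inl (σ p)) t = D.ψ σ * D.a t * (D.ψ σ)⁻¹ := by
  rw [D.x_short (σ := σ) rfl rfl]
  show D.cj σ (D.core false false t) = _
  rw [core00]; rfl

theorem φi_p (h : SL(2, F)) : D.φi p h = D.ψ (swap o p) * D.φ h * (D.ψ (swap o p))⁻¹ := rfl

/-- long roots against the roots through them -/
theorem comm_long {a d : l ⊕ l} (h : d ≠ a.swap) (t u : F) :
    Commute (D.x a a t) (D.x a d u) := by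
  rcases eq_or_ne d a with rfl | hne
  · show _ = _
    rw [D.x_add h, D.x_add h, add_comm]
  obtain ⟨g, f, hm, h1, -, h2, -⟩ := D.exists_flip2 (ix_ne h hne)
  have := D.transfer hm (A := Sum.inl o) (B := Sum.inl o) (C := Sum.inl o) (E := Sum.inl p)
    (self_ok _) (by simp) (fun t u => by rw [x_inl, φi_o, x00]; exact D.c1 _ _) t u
  rwa [h1, h2] at this

theorem comm_long' {a c d : l ⊕ l} (h : d ≠ c.swap) (h1 : a ≠ c.swap) (h2 : a ≠ d.swap) (t u : F) :
    Commute (D.x a a t) (D.x c d u) := by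
  by_cases e1 : ix a = ix c
  · have : c = a := by
      rcases a with a | a <;> rcases c with c | c <;> simp only [ix_inl, ix_inr] at e1 <;> subst e1 <;>
        simp_all
    subst this
    exact D.comm_long h t u
  by_cases e2 : ix a = ix d
  · have : d = a := by
      rcases a with a | a <;> rcases d with d | d <;> simp only [ix_inl, ix_inr] at e2 <;> subst e2 <;>
        simp_all
    subst this
    rw [D.x_symm h]
    exact D.comm_long (fun e => h (by rw [e, Sum.swap_swap])) t u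
  rcases a with a | a <;> simp only [x_inl, x_inr] <;> exact D.out h e1 e2 _ _

/-- two short roots with a common vector -/
theorem comm_share {a b d : l ⊕ l} (hab : ix a ≠ ix b) (had : ix a ≠ ix d) (hbd : b ≠ d.swap)
    (t u : F) : Commute (D.x a b t) (D.x a d u) := by
  have hok : b ≠ a.swap := fun e => hab (by rw [e, ix_swap])
  rcases eq_or_ne b d with rfl | hne
  · show _ = _
    rw [D.x_add hok, D.x_add hok, add_comm]
  have hix : ix b ≠ ix d := ix_ne (fun e => hbd (by rw [e, Sum.swap_swap])) hne.symm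
  obtain ⟨σ, h1, h2⟩ := D.exists_perm_two hab
  obtain ⟨g, f, hm, hf⟩ := D.exists_flip σ [a, b, d] (by simp [hab, had, hix])
  have hq1 : σ⁻¹ (ix d) ≠ o := fun e => had (h1.symm.trans ((congrArg σ e.symm).trans (perm_self_inv σ _)))
  have hq2 : σ⁻¹ (ix d) ≠ p := fun e => hix (h2.symm.trans ((congrArg σ e.symm).trans (perm_self_inv σ _)))
  obtain ⟨q, hq⟩ : ∃ q, q = σ⁻¹ (ix d) := ⟨_, rfl⟩
  rw [← hq] at hq1 hq2
  have hσq : σ q = ix d := by rw [hq, perm_self_inv]
  have := D.transfer hm (A := Sum.inl o) (B := Sum.inl p) (C := Sum.inl o) (E := Sum.inl q)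
    (by simp) (by simp) (fun t u => by
      rw [x00]
      have := D.xσ (swap p q) u
      rw [Equiv.swap_apply_of_ne_of_ne D.op hq1.symm, Equiv.swap_apply_left] at this
      rw [this]
      exact D.c3 _ (Equiv.swap_apply_of_ne_of_ne D.op hq1.symm) (by simpa using hq2) t u) t u
  rwa [(hf o a (by simp) h1).1, (hf p b (by simp) h2).1, (hf q d (by simp) hσq).1] at this

/-- two short roots on four indices -/
theorem comm_apart {a b c d : l ⊕ l} (hab : ix a ≠ ix b) (hcd : ix c ≠ ix d) (hac : ix a ≠ ix c)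
    (had : ix a ≠ ix d) (hbc : ix b ≠ ix c) (hbd : ix b ≠ ix d) (t u : F) :
    Commute (D.x a b t) (D.x c d u) := by
  obtain ⟨σ, h1, h2⟩ := D.exists_perm_two hab
  obtain ⟨g, f, hm, hf⟩ := D.exists_flip σ [a, b, c, d] (by simp [hab, hac, had, hbc, hbd, hcd])
  obtain ⟨ρ, r1, r2⟩ := D.exists_perm_two (i := σ⁻¹ (ix c)) (k := σ⁻¹ (ix d))
    fun e => hcd (σ⁻¹.injective e)
  have := D.transfer hm (A := Sum.inl o) (B := Sum.inl p) (C := Sum.inl (ρ o)) (E := Sum.inl (ρ p))
    (by simp) (by simp) (fun t u => by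
      rw [x00, xσ]
      refine D.c2 ρ ?_ ?_ ?_ ?_ t u
      · rw [r1]; intro e; exact hac (h1.symm.trans ((congrArg σ e.symm).trans (perm_self_inv σ _)))
      · rw [r1]; intro e; exact hbc (h2.symm.trans ((congrArg σ e.symm).trans (perm_self_inv σ _)))
      · rw [r2]; intro e; exact had (h1.symm.trans ((congrArg σ e.symm).trans (perm_self_inv σ _)))
      · rw [r2]; intro e; exact hbd (h2.symm.trans ((congrArg σ e.symm).trans (perm_self_inv σ _)))) t u
  rwa [(hf o a (by simp) h1).1, (hf p b (by simp) h2).1,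
    (hf (ρ o) c (by simp) (by rw [r1, perm_self_inv])).1,
    (hf (ρ p) d (by simp) (by rw [r2, perm_self_inv])).1] at this

theorem comm {a b c d : l ⊕ l} (h : b ≠ a.swap) (h' : d ≠ c.swap) (h1 : a ≠ c.swap)
    (h2 : a ≠ d.swap) (h3 : b ≠ c.swap) (h4 : b ≠ d.swap) (t u : F) :
    Commute (D.x a b t) (D.x c d u) := by
  have flip : ∀ {x y : l ⊕ l}, x ≠ y.swap → y ≠ x.swap := fun hxy e => hxy (by rw [e, Sum.swap_swap])
  rcases eq_or_ne b a with rfl | hba
  · exact D.comm_long' h' h1 h2 t u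
  rcases eq_or_ne d c with rfl | hdc
  · exact (D.comm_long' h (flip h1) (flip h3) u t).symm
  have hab := ix_ne h hba
  have hcd := ix_ne h' hdc
  by_cases e1 : ix a = ix c
  · have : c = a := by by_contra hc; exact ix_ne (flip h1) hc e1
    subst this
    exact D.comm_share hab hcd h4 t u
  by_cases e2 : ix a = ix d
  · have : d = a := by by_contra hc; exact ix_ne (flip h2) hc e2
    subst this
    rw [D.x_symm h']
    exact D.comm_share hab hcd.symm h3 t u
  by_cases e3 : ix b = ix c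
  · have : c = b := by by_contra hc; exact ix_ne (flip h3) hc e3
    subst this
    rw [D.x_symm h]
    exact D.comm_share hab.symm hcd h2 t u
  by_cases e4 : ix b = ix d
  · have : d = b := by by_contra hc; exact ix_ne (flip h4) hc e4
    subst this
    rw [D.x_symm h, D.x_symm h']
    exact D.comm_share hab.symm hcd.symm h1 t u
  exact D.comm_apart hab hcd e1 e2 e3 e4 t u

/-- a root subgroup -/
noncomputable def R (A B : l ⊕ l) : Subgroup X := Subgroup.closure (Set.range (D.x A B))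

theorem mem_R (A B : l ⊕ l) (t : F) : D.x A B t ∈ D.R A B := Subgroup.subset_closure ⟨t, rfl⟩

theorem R_conj {g : X} {f : l ⊕ l → l ⊕ l} (h : D.Mon g f) {A B : l ⊕ l} (hok : B ≠ A.swap)
    {y : X} (hy : y ∈ D.R A B) : g * y * g⁻¹ ∈ D.R (f A) (f B) := by
  obtain ⟨-, s, -, e⟩ := h A B hok
  refine Setup.conj_closure_le ?_ hy
  rintro _ ⟨t, rfl⟩
  rw [e]; exact D.mem_R _ _ _

theorem R_long {A : l ⊕ l} {y : X} (hy : y ∈ D.R A A) : ∃ v, y = D.x A A v := by
  induction hy using Subgroup.closure_induction with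
  | mem y hy => obtain ⟨v, rfl⟩ := hy; exact ⟨v, rfl⟩
  | one =>
    refine ⟨0, ?_⟩
    have := D.x_add (self_ok A) 0 0
    rw [add_zero, mul_eq_left] at this
    exact this.symm
  | mul y z _ _ hy hz =>
    obtain ⟨t, rfl⟩ := hy
    obtain ⟨u, rfl⟩ := hz
    exact ⟨t + u, D.x_add (self_ok A) t u⟩
  | inv y _ hy =>
    obtain ⟨t, rfl⟩ := hy
    refine ⟨-t, ?_⟩
    rw [inv_eq_iff_mul_eq_one, D.x_add (self_ok A), add_neg_cancel]
    have := D.x_add (self_ok A) 0 0
    rw [add_zero, mul_eq_left] at this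
    exact this

theorem comm2 {a b : l ⊕ l} (h : b ≠ a.swap) (hne : b ≠ a) (t u : F) :
    ∃ v, ⁅D.x a b t, D.x a b.swap u⁆ = D.x a a v := by
  obtain ⟨g, f, hm, h1, -, h2, h3⟩ := D.exists_flip2 (ix_ne h hne)
  have := D.transfer2 hm (A := Sum.inl o) (B := Sum.inl p) (C := Sum.inl o) (E := Sum.inr p)
    (by simp) (by simp [D.op.symm]) (P := D.R (Sum.inl o) (Sum.inl o))
    (Q := D.R (f (Sum.inl o)) (f (Sum.inl o)))
    (fun y hy => D.R_conj hm (self_ok _) hy) (fun t u => by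
      rw [x00, x01, φi_p]
      obtain ⟨v, hv'⟩ : ∃ v, v = -(2 * t * -u) := ⟨_, rfl⟩
      have hv := D.c4 t (-u)
      rw [← hv'] at hv
      rw [hv, ← φi_o, show up v = (up (- -v) : SL(2, F)) by rw [neg_neg], ← x_inl]
      exact D.mem_R _ _ _) t u
  rw [h1, h2, h3] at this
  exact D.R_long this

/-- the target of the closure condition -/
theorem cl_target {a c d e c' : l ⊕ l} (hc : c' ≠ a.swap)
    (h : ix c' = ix a ∨ ix c' = ix c ∨ ix c' = ix d ∨ ix c' = ix e) :
    D.R a c' ≤ Subgroup.closure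
      {y | ∃ c' v, c' ≠ a.swap ∧ (ix c' = ix a ∨ ix c' = ix c ∨ ix c' = ix d ∨ ix c' = ix e) ∧
        y = D.x a c' v} := by
  rw [R, Subgroup.closure_le]
  rintro _ ⟨v, rfl⟩
  exact Subgroup.subset_closure ⟨c', v, hc, h, rfl⟩

theorem cl_paired {a d e : l ⊕ l} (hae : ix a ≠ ix e) (hd : d ≠ e) (hd' : d ≠ a.swap) (t u : F) :
    ⁅D.x e.swap d t, D.x a e u⁆ ∈ Subgroup.closure
      {y | ∃ c' v, c' ≠ a.swap ∧
        (ix c' = ix a ∨ ix c' = ix e.swap ∨ ix c' = ix d ∨ ix c' = ix e) ∧ y = D.x a c' v} := by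
  have hes : e.swap ≠ a.swap := fun h => hae (by rw [Sum.swap_leftInverse.injective h])
  rcases eq_or_ne d a with rfl | hda
  · rw [D.x_symm (by simpa using hd)]
    obtain ⟨v, hv⟩ := D.comm2 hes (fun h => hae (by rw [← h, ix_swap])) t u
    rw [Sum.swap_swap] at hv
    rw [hv]
    exact Subgroup.subset_closure ⟨d, v, self_ok _, Or.inl rfl, rfl⟩
  rcases eq_or_ne d e.swap with rfl | hde
  · obtain ⟨g, f, hm, h1, -, h2, h3⟩ := D.exists_flip2 hae
    have := D.transfer2 hm (A := Sum.inr p) (B := Sum.inr p) (C := Sum.inl o) (E := Sum.inl p)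
      (self_ok _) (by simp) (P := D.R (Sum.inl o) (Sum.inr p) ⊔ D.R (Sum.inl o) (Sum.inl o))
      (Q := D.R (f (Sum.inl o)) (f (Sum.inr p)) ⊔ D.R (f (Sum.inl o)) (f (Sum.inl o)))
      (fun y hy => by
        have hle : D.R (Sum.inl o) (Sum.inr p) ⊔ D.R (Sum.inl o) (Sum.inl o) ≤
            (D.R (f (Sum.inl o)) (f (Sum.inr p)) ⊔ D.R (f (Sum.inl o)) (f (Sum.inl o))).comap
              (MulAut.conj g).toMonoidHom :=
          sup_le (fun z hz => (le_sup_left : D.R (f (Sum.inl o)) (f (Sum.inr p)) ≤ _)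
              (D.R_conj hm (by simp [D.op.symm]) hz))
            (fun z hz => (le_sup_right : D.R (f (Sum.inl o)) (f (Sum.inl o)) ≤ _)
              (D.R_conj hm (self_ok _) hz))
        exact hle hy)
      (fun t u => by
        rw [x_inr, x00, φi_p]
        obtain ⟨v, w, hv⟩ : ∃ v w, ⁅D.ψ (swap o p) * D.φ (dn t) * (D.ψ (swap o p))⁻¹, D.a u⁆ =
            (D.ψ (swap o p) * D.φ wS * (D.ψ (swap o p))⁻¹) * D.a v *
              (D.ψ (swap o p) * D.φ wS * (D.ψ (swap o p))⁻¹)⁻¹ * D.φ (up w) := ⟨_, _, D.c5 t u⟩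
        rw [hv, ← D.φi_o (up w), show up w = (up (- -w) : SL(2, F)) by rw [neg_neg], ← x_inl, ← φi_p,
          show v = - -v from (neg_neg v).symm, ← x01]
        exact mul_mem ((le_sup_left : D.R (Sum.inl o) (Sum.inr p) ≤ _) (D.mem_R _ _ _))
          ((le_sup_right : D.R (Sum.inl o) (Sum.inl o) ≤ _) (D.mem_R _ _ _))) t u
    rw [h1, h2, h3] at this
    exact sup_le (D.cl_target hes (Or.inr (Or.inl rfl))) (D.cl_target (self_ok _) (Or.inl rfl)) this
  have hed : ix e ≠ ix d := ix_ne hde hd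
  have had : ix a ≠ ix d := ix_ne hd' hda
  obtain ⟨σ, s1, s2⟩ := D.exists_perm_two hae
  obtain ⟨g, f, hm, hf⟩ := D.exists_flip σ [a, e, d] (by simp [hae, had, hed])
  obtain ⟨q, hσq⟩ : ∃ q, σ q = ix d := ⟨σ⁻¹ (ix d), perm_self_inv _ _⟩
  have hqo : q ≠ o := fun h => had (by rw [← s1, ← hσq, h])
  have hqp : q ≠ p := fun h => hed (by rw [← s2, ← hσq, h])
  obtain ⟨ρ, r1, r2⟩ := D.exists_perm_two (i := p) (k := q) hqp.symm
  have hW : ∀ t, D.x (Sum.inr p) (Sum.inl q) t =
      D.φi p wS * D.x (Sum.inl p) (Sum.inl q) (-t) * (D.φi p wS)⁻¹ := fun t => by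
    have := D.W_first (A := Sum.inl p) (B := Sum.inl q) (by simp) (by simp [hqp.symm]) (-t)
    rw [ix_inl] at this
    rw [this]
    simp
  have := D.transfer2 hm (A := Sum.inr p) (B := Sum.inl q) (C := Sum.inl o) (E := Sum.inl p)
    (by simp [hqp]) (by simp) (P := D.R (Sum.inl o) (Sum.inl q))
    (Q := D.R (f (Sum.inl o)) (f (Sum.inl q))) (fun y hy => D.R_conj hm (by simp) hy)
    (fun t u => by
      rw [hW, x00, φi_p]
      have := D.xσ ρ (-t)
      rw [r1, r2] at this
      rw [this]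
      obtain ⟨v, hv'⟩ : ∃ v, v = -(-t * u) := ⟨_, rfl⟩
      rw [D.c6 ρ r1 (by rw [r2]; exact hqo) (-t) u, r2, ← hv']
      have := D.xσ (swap p q) v
      rw [Equiv.swap_apply_of_ne_of_ne D.op hqo.symm, Equiv.swap_apply_left] at this
      rw [← this]
      exact D.mem_R _ _ _) t u
  rw [(hf o a (by simp) s1).1, (hf p e (by simp) s2).2, (hf p e (by simp) s2).1,
    (hf q d (by simp) hσq).1] at this
  exact D.cl_target hd' (Or.inr (Or.inr (Or.inl rfl))) this

theorem cl {a c d e : l ⊕ l} (h : d ≠ c.swap) (h' : e ≠ a.swap) (hc : c ≠ a.swap) (hd : d ≠ a.swap)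
    (t u : F) :
    D.x c d t * D.x a e u * (D.x c d t)⁻¹ ∈ Subgroup.closure
      {y | ∃ c' v, c' ≠ a.swap ∧ (ix c' = ix a ∨ ix c' = ix c ∨ ix c' = ix d ∨ ix c' = ix e) ∧
        y = D.x a c' v} := by
  have hmem : D.x a e u ∈ Subgroup.closure
      {y | ∃ c' v, c' ≠ a.swap ∧ (ix c' = ix a ∨ ix c' = ix c ∨ ix c' = ix d ∨ ix c' = ix e) ∧
        y = D.x a c' v} :=
    Subgroup.subset_closure ⟨e, u, h', Or.inr (Or.inr (Or.inr rfl)), rfl⟩
  rw [show D.x c d t * D.x a e u * (D.x c d t)⁻¹ = ⁅D.x c d t, D.x a e u⁆ * D.x a e u by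
    rw [commutatorElement_def]; group]
  refine mul_mem ?_ hmem
  by_cases h1 : c = e.swap
  · subst h1
    have hae : ix a ≠ ix e := ix_ne h' fun h => hc (by rw [h])
    exact D.cl_paired hae (by simpa using h) hd t u
  by_cases h2 : d = e.swap
  · subst h2
    have hae : ix a ≠ ix e := ix_ne h' fun h => hd (by rw [h])
    rw [D.x_symm h]
    have := D.cl_paired hae (d := c) (fun h3 => h (by rw [h3])) hc t u
    refine Subgroup.closure_mono ?_ this
    rintro _ ⟨c', v, k1, k2, rfl⟩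
    exact ⟨c', v, k1, by tauto, rfl⟩
  rw [commutatorElement_eq_one_iff_commute.2 (D.comm h h' hc (fun e' => h1 (by rw [e']))
    hd (fun e' => h2 (by rw [e'])) t u)]
  exact one_mem _

theorem wrel' : D.ψ (swap o p) * D.φi o (dg (-1)) =
    D.core false true 1 * D.core true false (-1) * D.core false true 1 := by
  rw [φi_o, core01, core10, φi_p, φi_o, neg_neg]
  exact D.wrel

/-- the rank one subgroup of a short root -/
theorem exists_φs : ∃ φ : SL(2, F) →* X, (∀ t, φ (up t) = D.core false true t) ∧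
    (∀ t, φ (dn t) = D.core true false t) ∧
    (∀ c, φ (dg c) = D.φi o (dg c) * D.φi p (dg c⁻¹)) ∧
    φ wS = D.ψ (swap o p) * D.φi o (dg (-1)) := by
  have hτ : D.ψ (swap o p) * D.ψ (swap o p) = 1 := by rw [← map_mul, Equiv.swap_mul_self, map_one]
  have hτi : (D.ψ (swap o p))⁻¹ = D.ψ (swap o p) := inv_eq_of_mul_eq_one_left hτ
  have hτD : ∀ c, D.ψ (swap o p) * D.φi o (dg c) = D.φi p (dg c) * D.ψ (swap o p) := fun c => by
    have := D.φi_equiv (swap o p) o (dg c)
    rw [Equiv.swap_apply_left, cj_apply] at this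
    exact mul_inv_eq_iff_eq_mul.1 this
  have hτD' : ∀ c, D.ψ (swap o p) * D.φi p (dg c) = D.φi o (dg c) * D.ψ (swap o p) := fun c => by
    have := D.φi_equiv (swap o p) p (dg c)
    rw [Equiv.swap_apply_right, cj_apply] at this
    exact mul_inv_eq_iff_eq_mul.1 this
  have hcomm : ∀ c e, Commute (D.φi o (dg c)) (D.φi p (dg e)) := fun c e => D.φi_comm D.op _ _
  let hh : Fˣ →* X := MonoidHom.mk' (fun c => D.φi o (dg c) * D.φi p (dg c⁻¹)) fun b c => by
    rw [← dg_mul, map_mul, mul_inv, ← dg_mul, map_mul]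
    calc _ = D.φi o (dg b) * (D.φi o (dg c) * D.φi p (dg b⁻¹)) * D.φi p (dg c⁻¹) := by group
      _ = _ := by rw [(hcomm c b⁻¹).eq]; group
  let N : X := D.ψ (swap o p) * D.φi o (dg (-1))
  have hNx : ∀ t, N * D.core false true t * N⁻¹ = D.core true false (-t) := fun t => by
    have h1 := D.core_tor (-1) false true t
    simp only [Bool.false_eq_true, if_false, Units.val_neg, Units.val_one, neg_mul, one_mul] at h1
    conv_rhs => rw [← D.core_swap, cj_apply, ← h1]
    simp only [N]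
    group
  have hdx : ∀ c t, D.φi o (dg c) * D.core false true t * (D.φi o (dg c))⁻¹ =
      D.core false true ((c : F) * t) := fun c t => by
    have := D.core_tor c false true t
    simpa using this
  have hdy : ∀ c t, D.φi o (dg c) * D.core true false t * (D.φi o (dg c))⁻¹ =
      D.core true false (((c⁻¹ : Fˣ) : F) * t) := fun c t => by
    have := D.core_tor c true false t
    simpa using this
  let R : R1Data F X :=
    { x := D.core false true
      hh := hh
      N := N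
      x_add := D.core_add false true
      hh_x := fun c t => by
        have h2 : ∀ s, D.φi p (dg c⁻¹) * D.core false true s * (D.φi p (dg c⁻¹))⁻¹ =
            D.core false true ((c : F) * s) := fun s => by
          have := congrArg (D.cj (swap o p)) (D.core_tor c⁻¹ true false s)
          simpa [map_mul, map_inv, core_swap, φi_equiv] using this
        show D.φi o (dg c) * D.φi p (dg c⁻¹) * _ * (D.φi o (dg c) * D.φi p (dg c⁻¹))⁻¹ = _
        rw [show ∀ y z w : X, y * z * w * (y * z)⁻¹ = y * (z * w * z⁻¹) * y⁻¹ from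
          fun y z w => by group, h2, hdx, mul_assoc]
      N_hh := fun c => by
        show N * (D.φi o (dg c) * D.φi p (dg c⁻¹)) * N⁻¹ = D.φi o (dg c⁻¹) * D.φi p (dg c⁻¹⁻¹)
        rw [inv_inv, mul_inv_eq_iff_eq_mul]
        simp only [N]
        have e1 : D.φi o (dg (-1)) * D.φi o (dg c) = D.φi o (dg c) * D.φi o (dg (-1)) := by
          rw [← map_mul, ← map_mul, dg_mul, dg_mul, mul_comm]
        calc _ = D.ψ (swap o p) * (D.φi o (dg (-1)) * D.φi o (dg c)) * D.φi p (dg c⁻¹) := by group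
          _ = (D.ψ (swap o p) * D.φi o (dg c)) *
              (D.φi o (dg (-1)) * D.φi p (dg c⁻¹)) := by rw [e1]; group
          _ = D.φi p (dg c) * (D.ψ (swap o p) * D.φi p (dg c⁻¹)) * D.φi o (dg (-1)) := by
              rw [hτD, (hcomm (-1) c⁻¹).eq]; group
          _ = (D.φi p (dg c) * D.φi o (dg c⁻¹)) * (D.ψ (swap o p) * D.φi o (dg (-1))) := by
              rw [hτD']; group
          _ = _ := by rw [(hcomm c⁻¹ c).eq]
      n_eq := fun c => by
        show D.φi o (dg c) * D.φi p (dg c⁻¹) * N = _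
        have e1 : N = D.core false true 1 * (N * D.core false true 1 * N⁻¹) *
            D.core false true 1 := by rw [hNx]; exact D.wrel'
        have e2 : D.φi o (dg c) * D.φi p (dg c⁻¹) * N = D.φi o (dg c) * N * (D.φi o (dg c))⁻¹ := by
          rw [mul_assoc, mul_assoc]
          congr 1
          simp only [N]
          rw [← map_inv (D.φi o), show (dg c)⁻¹ = (dg c⁻¹ : SL(2, F)) from
            inv_eq_of_mul_eq_one_right (by rw [dg_mul, mul_inv_cancel, dg_one]), mul_assoc,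
            ← map_mul, dg_mul, mul_comm (-1 : Fˣ), ← dg_mul, map_mul, ← mul_assoc (D.ψ (swap o p)), hτD, hτD, mul_assoc (D.φi p (dg c⁻¹)), hτD]
        rw [e2, hNx]
        conv_lhs => rw [e1, hNx]
        rw [show ∀ y u v w : X, y * (u * v * w) * y⁻¹ =
            (y * u * y⁻¹) * (y * v * y⁻¹) * (y * w * y⁻¹) from fun y u v w => by group,
          hdx, hdy, mul_one, mul_neg_one, Units.val_inv_eq_inv_val]
      N_sq := by
        show N * N = (D.φi o (dg (-1)) * D.φi p (dg (-1)⁻¹))⁻¹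
        have hsq : ∀ i, (D.φi i (dg (-1)))⁻¹ = D.φi i (dg (-1)) := fun i => by
          rw [inv_eq_iff_mul_eq_one, ← map_mul, dg_mul, neg_mul_neg, one_mul, dg_one, map_one]
        rw [inv_neg, inv_one, _root_.mul_inv_rev, hsq, hsq]
        simp only [N]
        calc _ = (D.ψ (swap o p) * D.φi o (dg (-1))) * D.ψ (swap o p) * D.φi o (dg (-1)) := by group
          _ = _ := by rw [hτD, mul_assoc (D.φi p (dg (-1))), hτ, mul_one] }
  obtain ⟨φ, hφ⟩ := R.exists_hom
  have hup : ∀ t, φ (up t) = D.core false true t := fun t => (hφ _ t).1 (up_val t)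
  have hdn : ∀ t, φ (dn t) = D.core true false t := fun t => by
    rw [(hφ _ t).2 (dn_val t)]
    show N * D.core false true (-t) * N⁻¹ = _
    rw [hNx, neg_neg]
  have hw : φ wS = N := by
    rw [wS_eq, map_mul, map_mul, hup, hdn]
    exact D.wrel'.symm
  refine ⟨φ, hup, hdn, fun c => ?_, hw⟩
  conv_lhs => rw [dg_eq, ← wS_eq, map_mul, map_inv, map_mul, map_mul, hup, hdn, hw]
  rw [mul_inv_eq_iff_eq_mul]
  have := R.n_eq c
  change D.φi o (dg c) * D.φi p (dg c⁻¹) * N = D.core false true (c : F) *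
    (N * D.core false true ((c : F))⁻¹ * N⁻¹) * D.core false true (c : F) at this
  rw [hNx] at this
  exact this.symm

/-- the short rank one homomorphisms -/
noncomputable def φS (i k : l) : SL(2, F) →* X := (D.cj (D.mv i k)).comp D.exists_φs.choose

theorem tor {A B : l ⊕ l} (hok : B ≠ A.swap) (i : l) (c : Fˣ) (t : F) :
    ∃ u, D.φi i (dg c) * D.x A B t * (D.φi i (dg c))⁻¹ = D.x A B u := by
  by_cases hi : i ≠ ix A ∧ i ≠ ix B
  · exact ⟨t, by rw [(D.out hok hi.1 hi.2 _ t).eq, mul_inv_cancel_right]⟩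
  rcases eq_or_ne A B with rfl | hne
  · have : i = ix A := by by_contra h; exact hi ⟨h, h⟩
    subst this
    rcases A with a | a
    · refine ⟨(c : F) * c * t, ?_⟩
      rw [x_inl, x_inl, ix_inl, ← map_inv, ← map_mul, ← map_mul]
      congr 1
      rw [mul_inv_eq_iff_eq_mul]
      refine Subtype.ext ?_
      rw [sl_coe_mul, sl_coe_mul]
      have := c.ne_zero
      ext x y; fin_cases x <;> fin_cases y <;> simp [Matrix.mul_apply, Fin.sum_univ_two]
      field_simp
    · refine ⟨((c⁻¹ : Fˣ) : F) * (c⁻¹ : Fˣ) * t, ?_⟩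
      rw [x_inr, x_inr, ix_inr, ← map_inv, ← map_mul, ← map_mul]
      congr 1
      rw [mul_inv_eq_iff_eq_mul]
      refine Subtype.ext ?_
      rw [sl_coe_mul, sl_coe_mul]
      have := c.ne_zero
      ext x y; fin_cases x <;> fin_cases y <;> simp [Matrix.mul_apply, Fin.sum_univ_two]
      field_simp
  have hix := ix_ne hok hne.symm
  have key : ∀ {A B : l ⊕ l}, ix A ≠ ix B → ∀ t, ∃ u,
      D.φi (ix A) (dg c) * D.x A B t * (D.φi (ix A) (dg c))⁻¹ = D.x A B u := fun {A B} hix t => by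
    refine ⟨((if A.isRight then c⁻¹ else c : Fˣ) : F) * t, ?_⟩
    rw [D.x_short (D.mv_o hix) (D.mv_p hix), D.x_short (D.mv_o hix) (D.mv_p hix), ← core_tor,
      map_mul, map_mul, map_inv, φi_equiv, D.mv_o hix]
  rcases not_and_or.1 hi with h | h <;> rw [not_not] at h <;> subst h
  · exact key hix t
  · obtain ⟨u, hu⟩ := key hix.symm t
    exact ⟨u, by rw [D.x_symm hok, D.x_symm hok, hu]⟩

theorem φS_up {i k : l} (h : i ≠ k) (t : F) :
    D.φS i k (up t) = D.x (Sum.inl i) (Sum.inr k) t := by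
  rw [D.x_short (A := Sum.inl i) (B := Sum.inr k) (D.mv_o h) (D.mv_p h)]
  show D.cj _ (D.exists_φs.choose (up t)) = _
  rw [D.exists_φs.choose_spec.1]
  rfl

theorem φS_dn {i k : l} (h : i ≠ k) (t : F) :
    D.φS i k (dn t) = D.x (Sum.inl k) (Sum.inr i) t := by
  rw [D.x_symm (by simp [h]), D.x_short (A := Sum.inr i) (B := Sum.inl k) (D.mv_o h) (D.mv_p h)]
  show D.cj _ (D.exists_φs.choose (dn t)) = _
  rw [D.exists_φs.choose_spec.2.1]
  rfl

theorem φS_dg {i k : l} (h : i ≠ k) (c : Fˣ) :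
    D.φS i k (dg c) = D.φi i (dg c) * D.φi k (dg c⁻¹) := by
  show D.cj _ (D.exists_φs.choose (dg c)) = _
  rw [D.exists_φs.choose_spec.2.2.1, map_mul, φi_equiv, φi_equiv, D.mv_o h, D.mv_p h]

theorem φS_wS {i k : l} (h : i ≠ k) :
    D.φS i k wS = D.ψ (swap i k) * D.φi i (dg (-1)) := by
  show D.cj _ (D.exists_φs.choose wS) = _
  rw [D.exists_φs.choose_spec.2.2.2, map_mul, φi_equiv, D.mv_o h]
  congr 1
  rw [cj_apply, ← map_inv, ← map_mul, ← map_mul, ← Equiv.swap_apply_apply, D.mv_o h, D.mv_p h]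

theorem π_φi (i : l) (h : SL(2, F)) :
    D.π (D.φi i h) = D.π (D.ψ (swap o i)) * D.π (D.φ h) * (D.π (D.ψ (swap o i)))⁻¹ := by
  rw [← map_inv, ← map_mul, ← map_mul]; rfl

theorem π_long (i : l) (t : F) :
    D.π (D.x (Sum.inl i) (Sum.inl i) t) = E (Sum.inl i) (Sum.inl i) t ∧
    D.π (D.x (Sum.inr i) (Sum.inr i) t) = E (Sum.inr i) (Sum.inr i) t := by
  rw [x_inl, x_inr, π_φi, π_φi, D.πup, D.πdn, E_self, E_self, E_self, E_self, stv_conj, stv_conj,
    D.πψ, D.πψ, neg_neg]
  constructor <;> simp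

theorem π_W (i : l) :
    (D.π (D.φi i wS)).1 *ᵥ (bv (Sum.inl i) : l ⊕ l → F) = (-1 : F) • bv (Sum.inr i) ∧
    ∀ k, k ≠ i → (D.π (D.φi i wS)).1 *ᵥ (bv (Sum.inl k) : l ⊕ l → F) = bv (Sum.inl k) := by
  have he : ∀ t, D.π (D.φi i (up t)) = E (Sum.inl i) (Sum.inl i) (-t) := fun t => by
    rw [show up t = (up (- -t) : SL(2, F)) by rw [neg_neg], ← x_inl, (D.π_long i _).1]
  have hf : ∀ t, D.π (D.φi i (dn t)) = E (Sum.inr i) (Sum.inr i) t := fun t => by
    rw [← x_inr, (D.π_long i _).2]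
  rw [wS_eq, map_mul, map_mul, map_mul, map_mul, he, hf]
  refine ⟨?_, fun k hk => ?_⟩
  · simp only [sp_mul_mulVec, E_self, stv_mulVec, sbil_bv_inl, sbil_bv_inr]
    funext m
    simp [bv]
  · simp only [sp_mul_mulVec, E_self, stv_mulVec, sbil_bv_inl, sbil_bv_inr]
    funext m
    simp [bv, hk, hk.symm]

theorem π_core (ε δ : Bool) (t : F) :
    D.π (D.core ε δ t) =
      E (if ε then Sum.inr o else Sum.inl o) (if δ then Sum.inr p else Sum.inl p) t := by
  have ho := D.π_W o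
  have hp := D.π_W p
  have ha : (D.π (D.fl ε o * D.fl δ p)).1 *ᵥ (bv (Sum.inl o) : l ⊕ l → F) =
      (sg ε : F) • bv (if ε then Sum.inr o else Sum.inl o) := by
    cases ε <;> cases δ <;> simp only [fl, sg, if_true, if_false, Bool.false_eq_true, map_one,
      map_mul, one_mul, mul_one, one_smul, sp_mul_mulVec, sp_one_mulVec, ho.1, hp.2 o D.op]
  have hb : (D.π (D.fl ε o * D.fl δ p)).1 *ᵥ (bv (Sum.inl p) : l ⊕ l → F) =
      (sg δ : F) • bv (if δ then Sum.inr p else Sum.inl p) := by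
    rw [(D.fl_comm D.op ε δ).eq]
    cases ε <;> cases δ <;>
      simp only [fl, sg, if_true, if_false, Bool.false_eq_true, map_one, map_mul, one_mul, mul_one,
        one_smul, sp_mul_mulVec, sp_one_mulVec, hp.1, ho.2 p D.op.symm]
  simp only [core, map_mul, map_inv, D.πa] at ha hb ⊢
  rw [E_conj ha hb (by simp) ?_ (by simp [D.op]) ?_]
  · congr 1
    cases ε <;> cases δ <;> simp [sg]
  · cases ε <;> cases δ <;> simp [D.op, D.op.symm]
  · cases ε <;> cases δ <;> simp [D.op]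

theorem π_x {A B : l ⊕ l} (hok : B ≠ A.swap) (t : F) : D.π (D.x A B t) = E A B t := by
  rcases eq_or_ne A B with rfl | hne
  · rcases A with a | a
    · exact (D.π_long a t).1
    · exact (D.π_long a t).2
  have hix := ix_ne hok hne.symm
  obtain ⟨σ, hσo, hσp⟩ := D.exists_perm_two hix
  rw [D.x_short hσo hσp, cj_apply, map_mul, map_mul, map_inv, π_core]
  have ha : (D.π (D.ψ σ)).1 *ᵥ (bv (if A.isRight then Sum.inr o else Sum.inl o) : l ⊕ l → F) =
      (1 : F) • bv A := by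
    rw [D.πψ, one_smul]
    rcases A with a | a <;> simp only [ix_inl, ix_inr] at hσo <;> simp [hσo]
  have hb : (D.π (D.ψ σ)).1 *ᵥ (bv (if B.isRight then Sum.inr p else Sum.inl p) : l ⊕ l → F) =
      (1 : F) • bv B := by
    rw [D.πψ, one_smul]
    rcases B with b | b <;> simp only [ix_inl, ix_inr] at hσp <;> simp [hσp]
  rw [E_conj ha hb ?_ hok ?_ hne, one_mul, one_mul]
  · cases A <;> cases B <;> simp [D.op, D.op.symm]
  · cases A <;> cases B <;> simp [D.op]

/-- The data of the enumeration. -/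
noncomputable def setup : Setup l F X where
  x := D.x
  π := D.π
  φl := D.φi
  φs := D.φS
  hπ h t := D.π_x h t
  add h t u := D.x_add h t u
  symm h t := D.x_symm h t
  φl_up i t := by rw [x_inl, neg_neg]
  φl_dn i t := (D.x_inr i t).symm
  φs_up i k h t := D.φS_up h t
  φs_dn i k h t := D.φS_dn h t
  diag i k h c := D.φS_dg h c
  W_conj i {A B} h t := by
    obtain ⟨-, s, -, e⟩ := D.mon_flip i A B h
    exact ⟨s * t, e t⟩
  Z_conj i k hik {A B} h t := by
    obtain ⟨u, hu⟩ := D.tor h i (-1) t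
    refine ⟨u, ?_⟩
    rw [D.φS_wS hik]
    have := D.x_equiv (swap i k) h u
    rw [← hu, cj_apply] at this
    rw [show zi i k A = Sum.map (swap i k) (swap i k) A from rfl,
      show zi i k B = Sum.map (swap i k) (swap i k) B from rfl, ← this]
    group
  tor i c {A B} h t := D.tor h i c t
  comm h h' h1 h2 h3 h4 t u := D.comm h h' h1 h2 h3 h4 t u
  comm2 h hne t u := D.comm2 h hne t u
  cl h h' hc hd t u := D.cl h h' hc hd t u

theorem π_bijective
    (hgen : Subgroup.closure (Set.range D.ψ ∪ Set.range D.φ ∪ Set.range D.a) = ⊤) :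
    Function.Bijective D.π := by
  refine D.setup.bijective ?_
  set S := Subgroup.closure {y | ∃ A B t, B ≠ A.swap ∧ y = D.setup.x A B t}
  have hx : ∀ A B t, B ≠ A.swap → D.x A B t ∈ S := fun A B t h =>
    Subgroup.subset_closure ⟨A, B, t, h, rfl⟩
  have hφ : ∀ i h, D.φi i h ∈ S := fun i h => range_le (D.φi i)
    (fun t => by
      rw [show up t = (up (- -t) : SL(2, F)) by rw [neg_neg], ← x_inl]
      exact hx _ _ _ (self_ok _))
    (fun t => by rw [← x_inr]; exact hx _ _ _ (self_ok _)) h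
  rw [eq_top_iff, ← hgen, Subgroup.closure_le]
  rintro _ ((⟨σ, rfl⟩ | ⟨h, rfl⟩) | ⟨t, rfl⟩)
  · have hsw : ∀ i k, i ≠ k → D.ψ (swap i k) ∈ S := fun i k hik => by
      have : D.φS i k wS ∈ S := range_le (D.φS i k)
        (fun t => by rw [D.φS_up hik]; exact hx _ _ _ (by simp [hik.symm]))
        (fun t => by rw [D.φS_dn hik]; exact hx _ _ _ (by simp [hik])) wS
      rw [D.φS_wS hik] at this
      exact (Subgroup.mul_mem_cancel_right S (hφ i _)).1 this
    induction σ using Perm.swap_induction_on with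
    | one => rw [map_one]; exact one_mem S
    | swap_mul τ i k hik ih => rw [map_mul]; exact mul_mem (hsw i k hik) ih
  · rw [← φi_o]; exact hφ o h
  · rw [← x00]; exact hx _ _ _ (by simp)

end SpData

end CfsgLib.Pres.SpR
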