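import Cfsg.Agent.Lib.Pres.SpRoots

/-!
A group with root elements, rank one subgroups and monomial elements satisfying the relations of
the symplectic group maps isomorphically onto it: enumeration of the cosets of the stabiliser of a
basis vector, by induction on the set of indices in use.
-/

set_option autoImplicit false

namespace CfsgLib.Pres.SpR

open Matrix CfsgLib.Classical CfsgLib.Steinberg CfsgLib.Steinberg.R1Data
open scoped MatrixGroups commutatorElement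

/-- The data. -/
structure Setup (l : Type*) [Fintype l] [DecidableEq l] (F : Type*) [Field F] (Y : Type*)
    [Group Y] where
  x : l ⊕ l → l ⊕ l → F → Y
  π : Y →* Matrix.symplecticGroup l F
  φl : l → (SL(2, F) →* Y)
  φs : l → l → (SL(2, F) →* Y)
  hπ : ∀ {a b}, b ≠ a.swap → ∀ t, π (x a b t) = E a b t
  add : ∀ {a b}, b ≠ a.swap → ∀ t u, x a b t * x a b u = x a b (t + u)
  symm : ∀ {a b}, b ≠ a.swap → ∀ t, x a b t = x b a t
  φl_up : ∀ i t, φl i (up t) = x (Sum.inl i) (Sum.inl i) (-t)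
  φl_dn : ∀ i t, φl i (dn t) = x (Sum.inr i) (Sum.inr i) t
  φs_up : ∀ i k, i ≠ k → ∀ t, φs i k (up t) = x (Sum.inl i) (Sum.inr k) t
  φs_dn : ∀ i k, i ≠ k → ∀ t, φs i k (dn t) = x (Sum.inl k) (Sum.inr i) t
  diag : ∀ i k, i ≠ k → ∀ c, φs i k (dg c) = φl i (dg c) * φl k (dg c⁻¹)
  W_conj : ∀ i {a b}, b ≠ a.swap → ∀ t,
    ∃ u, φl i wS * x a b t * (φl i wS)⁻¹ = x (wi i a) (wi i b) u
  Z_conj : ∀ i k, i ≠ k → ∀ {a b}, b ≠ a.swap → ∀ t,
    ∃ u, φs i k wS * x a b t * (φs i k wS)⁻¹ = x (zi i k a) (zi i k b) u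
  tor : ∀ i c {a b}, b ≠ a.swap → ∀ t,
    ∃ u, φl i (dg c) * x a b t * (φl i (dg c))⁻¹ = x a b u
  comm : ∀ {a b c d}, b ≠ a.swap → d ≠ c.swap → a ≠ c.swap → a ≠ d.swap → b ≠ c.swap →
    b ≠ d.swap → ∀ t u, Commute (x a b t) (x c d u)
  comm2 : ∀ {a b}, b ≠ a.swap → b ≠ a → ∀ t u, ∃ v, ⁅x a b t, x a b.swap u⁆ = x a a v
  cl : ∀ {a c d e}, d ≠ c.swap → e ≠ a.swap → c ≠ a.swap → d ≠ a.swap → ∀ t u,
    x c d t * x a e u * (x c d t)⁻¹ ∈ Subgroup.closure
      {y | ∃ c' v, c' ≠ a.swap ∧ (ix c' = ix a ∨ ix c' = ix c ∨ ix c' = ix d ∨ ix c' = ix e) ∧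
        y = x a c' v}

variable {l : Type*} [Fintype l] [DecidableEq l] {F : Type*} [Field F] {Y : Type*} [Group Y]

/-- a property kept by multiplication on the left -/
def Stable (T : Y → Prop) : Subgroup Y where
  carrier := {m | (∀ y, T y → T (m * y)) ∧ ∀ y, T y → T (m⁻¹ * y)}
  mul_mem' {a b} ha hb := by
    refine ⟨fun y hy => ?_, fun y hy => ?_⟩
    · rw [mul_assoc]; exact ha.1 _ (hb.1 _ hy)
    · rw [_root_.mul_inv_rev, mul_assoc]; exact hb.2 _ (ha.2 _ hy)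
  one_mem' := ⟨fun y hy => by rwa [one_mul], fun y hy => by rwa [inv_one, one_mul]⟩
  inv_mem' {a} ha := ⟨ha.2, by simpa using ha.1⟩

namespace Setup

variable (S : Setup l F Y)

/-- torus element -/
def D (i : l) (c : Fˣ) : Y := S.φl i (dg c)

/-- Weyl element of a long root -/
def W (i : l) : Y := S.φl i wS

/-- Weyl element of a short root -/
def Z (i k : l) : Y := S.φs i k wS

/-- elements with both indices outside a set -/
def Ys (s : Finset l) : Subgroup Y :=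
  Subgroup.closure {y | ∃ a b t, b ≠ a.swap ∧ ix a ∉ s ∧ ix b ∉ s ∧ y = S.x a b t}

/-- the stabiliser -/
def P (s : Finset l) (j : l) : Subgroup Y :=
  Subgroup.closure {y | ∃ a b t, b ≠ a.swap ∧ ix a ∉ s ∧ ix b ∉ s ∧ a ≠ Sum.inr j ∧
    b ≠ Sum.inr j ∧ y = S.x a b t}

/-- a part of the unipotent radical -/
def QT (j : l) (T : Set (l ⊕ l)) : Subgroup Y :=
  Subgroup.closure {y | ∃ c t, c ∈ T ∧ y = S.x (Sum.inl j) c t}

/-- the indices of the radical -/
def TQ (s : Finset l) (j : l) : Set (l ⊕ l) := {c | c ≠ Sum.inr j ∧ ix c ∉ s}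

/-- the indices of the radical other than one -/
def TQ0 (s : Finset l) (j k : l) : Set (l ⊕ l) :=
  {c | c ≠ Sum.inr j ∧ ix c ∉ s ∧ c ≠ Sum.inr k}

/-- two of the cells -/
def AC (s : Finset l) (j : l) (y : Y) : Prop :=
  (∃ q ∈ S.QT j (TQ s j), ∃ c, ∃ p ∈ S.P s j, y = q * S.W j * S.D j c * p) ∨
    ∃ c, ∃ p ∈ S.P s j, y = S.D j c * p

/-- the third cell -/
def BB (s : Finset l) (j k : l) (y : Y) : Prop :=
  ∃ g ∈ S.Ys (insert j s), ∃ c, ∃ p ∈ S.P s j, y = g * S.φs j k (up c) * S.Z j k * p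

/-- all cells -/
def T (s : Finset l) (j k : l) (y : Y) : Prop := S.AC s j y ∨ S.BB s j k y

theorem x_zero {a b : l ⊕ l} (h : b ≠ a.swap) : S.x a b 0 = 1 := by
  have := S.add h 0 0
  rwa [add_zero, mul_eq_left] at this

theorem x_inv {a b : l ⊕ l} (h : b ≠ a.swap) (t : F) : (S.x a b t)⁻¹ = S.x a b (-t) := by
  rw [inv_eq_iff_mul_eq_one, S.add h, add_neg_cancel, S.x_zero h]

omit [Fintype l] [DecidableEq l] in
theorem self_ok (a : l ⊕ l) : a ≠ a.swap := by cases a <;> simp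

theorem x_mem_Ys {s : Finset l} {a b : l ⊕ l} (h : b ≠ a.swap) (ha : ix a ∉ s) (hb : ix b ∉ s)
    (t : F) : S.x a b t ∈ S.Ys s := Subgroup.subset_closure ⟨a, b, t, h, ha, hb, rfl⟩

theorem Ys_mono {s s' : Finset l} (h : s ⊆ s') : S.Ys s' ≤ S.Ys s := by
  rw [Ys, Subgroup.closure_le]
  rintro _ ⟨a, b, t, hok, ha, hb, rfl⟩
  exact S.x_mem_Ys hok (fun e => ha (h e)) (fun e => hb (h e)) t

theorem x_mem_P {s : Finset l} {j : l} {a b : l ⊕ l} (h : b ≠ a.swap) (ha : ix a ∉ s)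
    (hb : ix b ∉ s) (ha' : a ≠ Sum.inr j) (hb' : b ≠ Sum.inr j) (t : F) : S.x a b t ∈ S.P s j :=
  Subgroup.subset_closure ⟨a, b, t, h, ha, hb, ha', hb', rfl⟩

theorem P_le_Ys (s : Finset l) (j : l) : S.P s j ≤ S.Ys s := by
  rw [P, Subgroup.closure_le]
  rintro _ ⟨a, b, t, hok, ha, hb, -, -, rfl⟩
  exact S.x_mem_Ys hok ha hb t

theorem Ys_le_P {s : Finset l} {j : l} : S.Ys (insert j s) ≤ S.P s j := by
  rw [Ys, Subgroup.closure_le]
  rintro _ ⟨a, b, t, hok, ha, hb, rfl⟩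
  simp only [Finset.mem_insert, not_or] at ha hb
  exact S.x_mem_P hok ha.2 hb.2 (fun e => ha.1 (by simp [e])) (fun e => hb.1 (by simp [e])) t

theorem x_mem_QT {j : l} {T : Set (l ⊕ l)} {c : l ⊕ l} (hc : c ∈ T) (t : F) :
    S.x (Sum.inl j) c t ∈ S.QT j T := Subgroup.subset_closure ⟨c, t, hc, rfl⟩

theorem QT_mono {j : l} {T T' : Set (l ⊕ l)} (h : T ⊆ T') : S.QT j T ≤ S.QT j T' := by
  rw [QT, Subgroup.closure_le]
  rintro _ ⟨c, t, hc, rfl⟩
  exact S.x_mem_QT (h hc) t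

theorem QT_le_P {s : Finset l} {j : l} (hj : j ∉ s) : S.QT j (TQ s j) ≤ S.P s j := by
  rw [QT, Subgroup.closure_le]
  rintro _ ⟨c, t, ⟨hc1, hc2⟩, rfl⟩
  exact S.x_mem_P hc1 (by simpa using hj) hc2 (by simp) hc1 t

/-- the image of a rank one homomorphism -/
theorem φl_mem {i : l} {H : Subgroup Y} (h1 : ∀ t, S.x (Sum.inl i) (Sum.inl i) t ∈ H)
    (h2 : ∀ t, S.x (Sum.inr i) (Sum.inr i) t ∈ H) (h : SL(2, F)) : S.φl i h ∈ H :=
  range_le _ (fun t => by rw [S.φl_up]; exact h1 _) (fun t => by rw [S.φl_dn]; exact h2 _) h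

theorem φl_mem_Ys {s : Finset l} {i : l} (hi : i ∉ s) (h : SL(2, F)) : S.φl i h ∈ S.Ys s :=
  S.φl_mem (fun t => S.x_mem_Ys (self_ok _) (by simpa using hi) (by simpa using hi) t)
    (fun t => S.x_mem_Ys (self_ok _) (by simpa using hi) (by simpa using hi) t) h

theorem D_mul (i : l) (b c : Fˣ) : S.D i b * S.D i c = S.D i (b * c) := by
  rw [D, D, D, ← map_mul, dg_mul]

theorem D_one (i : l) : S.D i 1 = 1 := by rw [D, dg_one, map_one]

theorem D_inv (i : l) (c : Fˣ) : (S.D i c)⁻¹ = S.D i c⁻¹ := by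
  rw [inv_eq_iff_mul_eq_one, D_mul, mul_inv_cancel, D_one]

theorem W_inv (i : l) : (S.W i)⁻¹ = S.D i (-1) * S.W i := by
  rw [W, ← map_inv, wS_inv_eq, map_mul]; rfl

theorem Z_inv {i k : l} (h : i ≠ k) : (S.Z i k)⁻¹ = S.D i (-1) * S.D k (-1) * S.Z i k := by
  rw [Z, ← map_inv, wS_inv_eq, map_mul, S.diag i k h, inv_neg, inv_one]; rfl

theorem Z_sq {i k : l} (h : i ≠ k) : S.Z i k * S.Z i k = S.D i (-1) * S.D k (-1) := by
  rw [Z, ← map_mul, wS_sq_eq, S.diag i k h, inv_neg, inv_one]; rfl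

theorem W_sq (i : l) : S.W i * S.W i = S.D i (-1) := by
  rw [W, ← map_mul, wS_sq_eq]; rfl

omit [Fintype l] in
theorem wi_ok {i : l} {a b : l ⊕ l} (h : b ≠ a.swap) : wi i b ≠ (wi i a).swap := by
  have key : ∀ c : l ⊕ l, ix (wi i c) = ix c := fun c => by unfold wi; split_ifs <;> simp
  intro e
  have hix : ix b = ix a := by rw [← key b, e, ix_swap, key]
  apply h
  unfold wi at e
  rw [hix] at e
  split_ifs at e
  · simpa using congrArg Sum.swap e
  · exact e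

omit [Fintype l] in
theorem zi_ok {i k : l} {a b : l ⊕ l} (h : b ≠ a.swap) : zi i k b ≠ (zi i k a).swap := by
  intro e
  apply h
  rcases a with a | a <;> rcases b with b | b <;> simp [zi] at e ⊢
  all_goals exact e

/-- conjugation by a short Weyl element maps a root subgroup inside a given subgroup -/
theorem Z_le {i k : l} (hik : i ≠ k) {H : Subgroup Y} {a b : l ⊕ l} (h : b ≠ a.swap)
    (hH : ∀ u, S.x (zi i k a) (zi i k b) u ∈ H) (t : F) :
    S.Z i k * S.x a b t * (S.Z i k)⁻¹ ∈ H := by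
  obtain ⟨u, hu⟩ := S.Z_conj i k hik h t
  rw [Z, hu]; exact hH u

theorem tor' (i : l) (c : Fˣ) {a b : l ⊕ l} (h : b ≠ a.swap) (t : F) :
    ∃ u, S.D i c * S.x a b t * (S.D i c)⁻¹ = S.x a b u := S.tor i c h t

theorem Z_le' {i k : l} (hik : i ≠ k) {H : Subgroup Y} {a b : l ⊕ l} (h : b ≠ a.swap)
    (hH : ∀ u, S.x (zi i k a) (zi i k b) u ∈ H) (t : F) :
    (S.Z i k)⁻¹ * S.x a b t * S.Z i k ∈ H := by
  obtain ⟨u, hu⟩ := S.Z_conj i k hik h t
  obtain ⟨v, hv⟩ := S.tor' k (-1) (zi_ok (i := i) (k := k) h) u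
  obtain ⟨w, hw⟩ := S.tor' i (-1) (zi_ok (i := i) (k := k) h) v
  have : (S.Z i k)⁻¹ * S.x a b t * S.Z i k = S.x (zi i k a) (zi i k b) w := by
    rw [← hw, ← hv, ← hu]
    conv_lhs => arg 2; rw [← inv_inv (S.Z i k)]
    rw [S.Z_inv hik]
    simp only [Z]
    group
  rw [this]; exact hH w

theorem W_le' {i : l} {H : Subgroup Y} {a b : l ⊕ l} (h : b ≠ a.swap)
    (hH : ∀ u, S.x (wi i a) (wi i b) u ∈ H) (t : F) :
    (S.W i)⁻¹ * S.x a b t * S.W i ∈ H := by
  obtain ⟨u, hu⟩ := S.W_conj i h t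
  obtain ⟨v, hv⟩ := S.tor' i (-1) (wi_ok (i := i) h) u
  have : (S.W i)⁻¹ * S.x a b t * S.W i = S.x (wi i a) (wi i b) v := by
    rw [← hv, ← hu]
    conv_lhs => arg 2; rw [← inv_inv (S.W i)]
    rw [S.W_inv]
    simp only [W]
    group
  rw [this]; exact hH v

omit [Fintype l] [DecidableEq l] in
/-- a conjugation maps a generated subgroup inside a subgroup -/
theorem conj_closure_le {z : Y} {A : Set Y} {H : Subgroup Y} (h : ∀ y ∈ A, z * y * z⁻¹ ∈ H)
    {y : Y} (hy : y ∈ Subgroup.closure A) : z * y * z⁻¹ ∈ H := by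
  have : Subgroup.closure A ≤ H.comap (MulAut.conj z).toMonoidHom := by
    rw [Subgroup.closure_le]; intro a ha; exact h a ha
  exact this hy

theorem conj_φl {z : Y} {i : l} {H : Subgroup Y}
    (h1 : ∀ t, z * S.x (Sum.inl i) (Sum.inl i) t * z⁻¹ ∈ H)
    (h2 : ∀ t, z * S.x (Sum.inr i) (Sum.inr i) t * z⁻¹ ∈ H) (h : SL(2, F)) :
    z * S.φl i h * z⁻¹ ∈ H :=
  S.φl_mem (H := H.comap (MulAut.conj z).toMonoidHom) h1 h2 h

theorem x_range {i : l} (t : F) : S.x (Sum.inl i) (Sum.inl i) t ∈ (S.φl i).range :=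
  ⟨up (-t), by rw [S.φl_up, neg_neg]⟩

theorem x_range' {i : l} (t : F) : S.x (Sum.inr i) (Sum.inr i) t ∈ (S.φl i).range :=
  ⟨dn t, S.φl_dn i t⟩

theorem Z_φl {i k : l} (hik : i ≠ k) (h : SL(2, F)) :
    S.Z i k * S.φl i h * (S.Z i k)⁻¹ ∈ (S.φl k).range :=
  S.conj_φl (z := S.Z i k) (i := i) (H := (S.φl k).range)
    (fun t => S.Z_le hik (a := Sum.inl _) (b := Sum.inl _) (H := (S.φl _).range) (self_ok _)
      (fun u => by simpa [zi] using S.x_range u) t)
    (fun t => S.Z_le hik (a := Sum.inr _) (b := Sum.inr _) (H := (S.φl _).range) (self_ok _)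
      (fun u => by simpa [zi] using S.x_range' u) t) h

theorem Z_φl_symm {i k : l} (hik : i ≠ k) (h : SL(2, F)) :
    S.Z i k * S.φl k h * (S.Z i k)⁻¹ ∈ (S.φl i).range :=
  S.conj_φl (z := S.Z i k) (i := k) (H := (S.φl i).range)
    (fun t => S.Z_le hik (a := Sum.inl _) (b := Sum.inl _) (H := (S.φl _).range) (self_ok _)
      (fun u => by simpa [zi] using S.x_range u) t)
    (fun t => S.Z_le hik (a := Sum.inr _) (b := Sum.inr _) (H := (S.φl _).range) (self_ok _)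
      (fun u => by simpa [zi] using S.x_range' u) t) h

theorem Z_φl' {i k : l} (hik : i ≠ k) (h : SL(2, F)) :
    (S.Z i k)⁻¹ * S.φl i h * S.Z i k ∈ (S.φl k).range := by
  have := S.conj_φl (z := (S.Z i k)⁻¹) (i := i) (H := (S.φl k).range)
    (fun t => by
      rw [inv_inv]
      exact S.Z_le' hik (self_ok _) (fun u => by simpa [zi] using S.x_range u) t)
    (fun t => by
      rw [inv_inv]
      exact S.Z_le' hik (self_ok _) (fun u => by simpa [zi] using S.x_range' u) t) h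
  simpa using this

theorem Z_φl_symm' {i k : l} (hik : i ≠ k) (h : SL(2, F)) :
    (S.Z i k)⁻¹ * S.φl k h * S.Z i k ∈ (S.φl i).range := by
  have := S.conj_φl (z := (S.Z i k)⁻¹) (i := k) (H := (S.φl i).range)
    (fun t => by
      rw [inv_inv]
      exact S.Z_le' hik (self_ok _) (fun u => by simpa [zi] using S.x_range u) t)
    (fun t => by
      rw [inv_inv]
      exact S.Z_le' hik (self_ok _) (fun u => by simpa [zi] using S.x_range' u) t) h
  simpa using this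

omit [Fintype l] [DecidableEq l] in
theorem ne_of_ix {a b : l ⊕ l} (h : ix a ≠ ix b) : a ≠ b.swap := fun e => h (by simp [e])

/-- disjoint roots commute -/
theorem disj {a b c d : l ⊕ l} (h : b ≠ a.swap) (h' : d ≠ c.swap) (hc : ix c ≠ ix a)
    (hc' : ix c ≠ ix b) (hd : ix d ≠ ix a) (hd' : ix d ≠ ix b) (t u : F) :
    Commute (S.x a b t) (S.x c d u) :=
  S.comm h h' (ne_of_ix hc.symm) (ne_of_ix hd.symm) (ne_of_ix hc'.symm) (ne_of_ix hd'.symm) t u

/-- the elements avoiding an index commute with its long root subgroups -/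
theorem commute_Ys {s : Finset l} {j : l} (h : SL(2, F)) {g : Y}
    (hg : g ∈ S.Ys (insert j s)) : Commute (S.φl j h) g := by
  have hle : S.Ys (insert j s) ≤ Subgroup.centralizer {S.φl j h} := by
    rw [Ys, Subgroup.closure_le]
    rintro _ ⟨a, b, t, hok, ha, hb, rfl⟩
    simp only [Finset.mem_insert, not_or] at ha hb
    have : S.φl j h ∈ Subgroup.centralizer {S.x a b t} :=
      S.φl_mem (fun u => Subgroup.mem_centralizer_singleton_iff.2
          (S.disj (self_ok _) hok (by simpa using ha.1) (by simpa using ha.1) (by simpa using hb.1)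
            (by simpa using hb.1) u t).eq)
        (fun u => Subgroup.mem_centralizer_singleton_iff.2
          (S.disj (self_ok _) hok (by simpa using ha.1) (by simpa using ha.1) (by simpa using hb.1)
            (by simpa using hb.1) u t).eq) h
    exact Subgroup.mem_centralizer_singleton_iff.2
      (Subgroup.mem_centralizer_singleton_iff.1 this).symm
  exact (Subgroup.mem_centralizer_singleton_iff.1 (hle hg)).symm

variable {s : Finset l} {j : l}

theorem D_norm {i : l} {c : Fˣ} {T : Set (l ⊕ l)} (hT : ∀ a ∈ T, a ≠ Sum.inr j) {q : Y}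
    (hq : q ∈ S.QT j T) : S.D i c * q * (S.D i c)⁻¹ ∈ S.QT j T := by
  refine conj_closure_le ?_ hq
  rintro _ ⟨a, t, ha, rfl⟩
  obtain ⟨u, hu⟩ := S.tor' i c (a := Sum.inl j) (hT a ha) t
  rw [hu]; exact S.x_mem_QT ha u

/-- a root subgroup of the radical normalises its parts -/
theorem x_norm_QT {c : l ⊕ l} (hc : c ≠ Sum.inr j) {T : Set (l ⊕ l)}
    (hT : ∀ a ∈ T, a ≠ Sum.inr j) (hj : Sum.inl j ∈ T) (t : F) {q : Y} (hq : q ∈ S.QT j T) :
    S.x (Sum.inl j) c t * q * (S.x (Sum.inl j) c t)⁻¹ ∈ S.QT j T := by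
  refine conj_closure_le ?_ hq
  rintro _ ⟨a, u, ha, rfl⟩
  by_cases hac : a = c.swap ∧ c ≠ Sum.inl j
  · obtain ⟨rfl, hc'⟩ := hac
    obtain ⟨v, hv⟩ := S.comm2 (a := Sum.inl j) hc hc' t u
    rw [show ∀ p q : Y, p * q * p⁻¹ = ⁅p, q⁆ * q from fun p q => by
      rw [commutatorElement_def]; group, hv]
    exact mul_mem (S.x_mem_QT hj v) (S.x_mem_QT ha u)
  · have h : Commute (S.x (Sum.inl j) c t) (S.x (Sum.inl j) a u) := by
      refine S.comm hc (hT a ha) (self_ok _) ?_ hc ?_ t u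
      · exact fun e => hT a ha (by simpa using (congrArg Sum.swap e).symm)
      · intro e
        by_cases hc' : c = Sum.inl j
        · subst hc'; exact hT a ha (by simpa using (congrArg Sum.swap e).symm)
        · exact hac ⟨by rw [e, Sum.swap_swap], hc'⟩
    rw [h.eq, mul_inv_cancel_right]; exact S.x_mem_QT ha u

/-- splitting off one coordinate -/
theorem QT_insert {c : l ⊕ l} {T : Set (l ⊕ l)} (hc : c ≠ Sum.inr j)
    (hT : ∀ a ∈ T, a ≠ Sum.inr j) (hj : Sum.inl j ∈ T) {q : Y}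
    (hq : q ∈ S.QT j (insert c T)) : ∃ a, ∃ q0 ∈ S.QT j T, q = S.x (Sum.inl j) c a * q0 := by
  induction hq using Subgroup.closure_induction with
  | mem y hy =>
    obtain ⟨b, t, hb, rfl⟩ := hy
    rcases Set.mem_insert_iff.1 hb with rfl | hb
    · exact ⟨t, 1, one_mem _, by rw [mul_one]⟩
    · exact ⟨0, _, S.x_mem_QT hb t, by rw [S.x_zero hc, one_mul]⟩
  | one => exact ⟨0, 1, one_mem _, by rw [S.x_zero hc, one_mul]⟩
  | mul y z _ _ hy hz =>
    obtain ⟨a, q0, h0, rfl⟩ := hy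
    obtain ⟨b, q1, h1, rfl⟩ := hz
    refine ⟨a + b, ((S.x (Sum.inl j) c (-b)) * q0 * (S.x (Sum.inl j) c (-b))⁻¹) * q1,
      mul_mem (S.x_norm_QT hc hT hj _ h0) h1, ?_⟩
    rw [← S.add hc, ← S.x_inv (a := Sum.inl j) hc]
    group
  | inv y _ hy =>
    obtain ⟨a, q0, h0, rfl⟩ := hy
    refine ⟨-a, S.x (Sum.inl j) c a * q0⁻¹ * (S.x (Sum.inl j) c a)⁻¹,
      S.x_norm_QT hc hT hj _ (inv_mem h0), ?_⟩
    rw [← S.x_inv (a := Sum.inl j) hc]
    group

/-- the elements avoiding the index normalise the radical -/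
theorem Ys_norm_QT (hj : j ∉ s) {g : Y} (hg : g ∈ S.Ys (insert j s)) {q : Y}
    (hq : q ∈ S.QT j (TQ s j)) : g * q * g⁻¹ ∈ S.QT j (TQ s j) := by
  revert q
  induction hg using Subgroup.closure_induction'' with
  | mem y hy =>
    obtain ⟨a, b, t, hok, ha, hb, rfl⟩ := hy
    intro q hq
    refine conj_closure_le ?_ hq
    rintro _ ⟨c, u, ⟨hc1, hc2⟩, rfl⟩
    simp only [Finset.mem_insert, not_or] at ha hb
    have := S.cl (a := Sum.inl j) hok hc1 (ne_of_ix (by simpa using ha.1))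
      (ne_of_ix (by simpa using hb.1)) t u
    refine (Subgroup.closure_le _).2 ?_ this
    rintro _ ⟨c', v, h1, h2, rfl⟩
    refine S.x_mem_QT (T := TQ s j) ⟨h1, ?_⟩ v
    rcases h2 with e | e | e | e <;> rw [e]
    exacts [hj, ha.2, hb.2, hc2]
  | inv_mem y hy =>
    obtain ⟨a, b, t, hok, ha, hb, rfl⟩ := hy
    rw [S.x_inv hok]
    intro q hq
    refine conj_closure_le ?_ hq
    rintro _ ⟨c, u, ⟨hc1, hc2⟩, rfl⟩
    simp only [Finset.mem_insert, not_or] at ha hb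
    have := S.cl (a := Sum.inl j) hok hc1 (ne_of_ix (by simpa using ha.1))
      (ne_of_ix (by simpa using hb.1)) (-t) u
    refine (Subgroup.closure_le _).2 ?_ this
    rintro _ ⟨c', v, h1, h2, rfl⟩
    refine S.x_mem_QT (T := TQ s j) ⟨h1, ?_⟩ v
    rcases h2 with e | e | e | e <;> rw [e]
    exacts [hj, ha.2, hb.2, hc2]
  | one => intro q hq; simpa using hq
  | mul y z _ _ hy hz =>
    intro q hq
    have := hy (hz hq)
    convert this using 1
    group

/-- the radical and the complement give the stabiliser -/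
theorem exists_QY (hj : j ∉ s) {y : Y} (hy : y ∈ S.P s j) :
    ∃ q ∈ S.QT j (TQ s j), ∃ g ∈ S.Ys (insert j s), y = q * g := by
  induction hy using Subgroup.closure_induction with
  | mem y hy =>
    obtain ⟨a, b, t, hok, ha, hb, ha', hb', rfl⟩ := hy
    by_cases h1 : ix a = j
    · have : a = Sum.inl j := by
        rcases a with a | a
        · simpa using h1
        · exact absurd (by rw [← show a = j from h1]) ha'
      subst this
      exact ⟨_, S.x_mem_QT (T := TQ s j) ⟨hb', hb⟩ t, 1, one_mem _, by rw [mul_one]⟩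
    by_cases h2 : ix b = j
    · have : b = Sum.inl j := by
        rcases b with b | b
        · simpa using h2
        · exact absurd (by rw [← show b = j from h2]) hb'
      subst this
      refine ⟨_, S.x_mem_QT (T := TQ s j) ⟨ha', ha⟩ t, 1, one_mem _, ?_⟩
      rw [mul_one, S.symm hok]
    exact ⟨1, one_mem _, _, S.x_mem_Ys hok (by simp [h1, ha]) (by simp [h2, hb]) t, by rw [one_mul]⟩
  | one => exact ⟨1, one_mem _, 1, one_mem _, by rw [mul_one]⟩
  | mul y z _ _ hy hz =>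
    obtain ⟨q, hq, g, hg, rfl⟩ := hy
    obtain ⟨q', hq', g', hg', rfl⟩ := hz
    exact ⟨q * (g * q' * g⁻¹), mul_mem hq (S.Ys_norm_QT hj hg hq'), g * g', mul_mem hg hg', by group⟩
  | inv y _ hy =>
    obtain ⟨q, hq, g, hg, rfl⟩ := hy
    exact ⟨g⁻¹ * q⁻¹ * g⁻¹⁻¹, S.Ys_norm_QT hj (inv_mem hg) (inv_mem hq), g⁻¹, inv_mem hg, by group⟩

theorem T_mul_P {k : l} {y p : Y} (hy : S.T s j k y) (hp : p ∈ S.P s j) : S.T s j k (y * p) := by
  rcases hy with (⟨q, hq, c, p', hp', rfl⟩ | ⟨c, p', hp', rfl⟩) | ⟨g, hg, c, p', hp', rfl⟩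
  · exact Or.inl (Or.inl ⟨q, hq, c, p' * p, mul_mem hp' hp, by group⟩)
  · exact Or.inl (Or.inr ⟨c, p' * p, mul_mem hp' hp, by group⟩)
  · exact Or.inr ⟨g, hg, c, p' * p, mul_mem hp' hp, by group⟩

/-- the rank one subgroup of the first index -/
theorem AC_φl (hj : j ∉ s) (h : SL(2, F)) {p : Y} (hp : p ∈ S.P s j) :
    S.AC s j (S.φl j h * p) := by
  have hup : ∀ t, S.φl j (up t) ∈ S.QT j (TQ s j) := fun t => by
    rw [S.φl_up]; exact S.x_mem_QT (T := TQ s j) ⟨by simp, by simpa using hj⟩ _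
  by_cases h0 : h 1 0 = 0
  · obtain ⟨a, d, rfl⟩ := cases_upper h h0
    refine Or.inr ⟨d, (S.D j d)⁻¹ * S.φl j (up a) * (S.D j d) * p,
      mul_mem (S.QT_le_P hj ?_) hp, ?_⟩
    · have := S.D_norm (i := j) (c := d⁻¹) (fun b (hb : b ∈ TQ s j) => hb.1) (hup a)
      rwa [← S.D_inv, inv_inv] at this
    · simp only [map_mul, D]; group
  · obtain ⟨a, e, d, rfl⟩ := cases_lower h h0
    refine Or.inl ⟨_, hup a, d, S.φl j (up e) * p, mul_mem (S.QT_le_P hj (hup e)) hp, ?_⟩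
    simp only [map_mul, W, D]; group

end Setup

end CfsgLib.Pres.SpR
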