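import Cfsg.Agent.Lib.Pres.SpWords
import Cfsg.Agent.Lib.Pres.Pad
import Cfsg.Agent.Lib.Pres.SymSmall
import Cfsg.Agent.Lib.Classical.SympSimple
import Cfsg.Prelude.Def_Classical

/-!
Bounded presentations of the symplectic groups and of their central quotients.
-/

set_option autoImplicit false

namespace CfsgLib.Pres.SpFam

open Matrix Equiv CfsgLib.Classical

variable {F : Type*} [Field F]

/-- The centre is generated by `-1`. -/
theorem center_sp {l : Type*} [Fintype l] [DecidableEq l] [Nonempty l] :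
    Subgroup.zpowers (⟨-1, SymplecticGroup.neg_mem (one_mem _)⟩ : Matrix.symplecticGroup l F) =
      Subgroup.center (Matrix.symplecticGroup l F) := by
  refine le_antisymm (Subgroup.zpowers_le.2 (mem_center_sp_iff.2 (Or.inr rfl))) fun g hg => ?_
  rcases mem_center_sp_iff.1 hg with h | h
  · rw [show g = 1 from Subtype.ext h]; exact one_mem _
  · rw [show g = ⟨-1, SymplecticGroup.neg_mem (one_mem _)⟩ from Subtype.ext h]
    exact Subgroup.mem_zpowers _

/-- A presentation of the symplectic group and one of its central quotient. -/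
theorem presented_pair [Finite F] {n : ℕ} (hn : 2 ≤ n) {ι : Type} [Fintype ι]
    {fP : ι → Perm (Fin n)} {LP : List (FreeGroup ι)} {r : ℕ} (hr : LP.length ≤ r)
    (hP : PresData fP LP) {k b : ℕ} (hk : Fintype.card ι + 4 ≤ k)
    (hb : r + 32 + (k - (Fintype.card ι + 4)) ≤ b) :
    (∃ rels : Finset (FreeGroup (Fin k)), rels.card ≤ b ∧
      Nonempty (PresentedGroup (rels : Set (FreeGroup (Fin k))) ≃*
        Matrix.symplecticGroup (Fin n) F)) ∧
    (∃ rels : Finset (FreeGroup (Fin k)), rels.card ≤ b + 1 ∧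
      Nonempty (PresentedGroup (rels : Set (FreeGroup (Fin k))) ≃* Cfsg.PSp n F)) := by
  have hop : (⟨0, by omega⟩ : Fin n) ≠ ⟨1, by omega⟩ := by simp
  have : Nonempty (Fin n) := ⟨⟨0, by omega⟩⟩
  obtain ⟨f, L, hL, hf⟩ := SpW.presData_sp (F := F) hop hr hP
  have hc : Fintype.card (ι ⊕ (Fin 3 ⊕ Unit)) = Fintype.card ι + 4 := by simp
  refine ⟨hf.presented_fin (k := k) (r := b) (hc ▸ hk) (by rw [hc]; omega), ?_⟩
  obtain ⟨v, hv⟩ := hf.quotient (Subgroup.center (Matrix.symplecticGroup (Fin n) F)) _ center_sp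
  exact hv.presented_fin (k := k) (r := b + 1) (hc ▸ hk) (by rw [hc, List.length_cons]; omega)

end CfsgLib.Pres.SpFam
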