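import Cfsg.Agent.Lib.Pres.SpCells

/-!
The map onto the symplectic group is injective on the subgroup generated by the root elements.
-/

set_option autoImplicit false

namespace CfsgLib.Pres.SpR

open Matrix CfsgLib.Classical CfsgLib.Steinberg CfsgLib.Steinberg.R1Data
open scoped MatrixGroups commutatorElement

variable {l : Type*} [Fintype l] [DecidableEq l] {F : Type*} [Field F] {Y : Type*} [Group Y]

namespace Setup

variable (S : Setup l F Y) {s : Finset l} {j k : l}

theorem π_Ys {y : Y} (hy : y ∈ S.Ys s) : S.π y ∈ pairFix s := by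
  have : S.Ys s ≤ (pairFix s).comap S.π := by
    rw [Ys, Subgroup.closure_le]
    rintro _ ⟨a, b, t, hok, ha, hb, rfl⟩
    show S.π (S.x a b t) ∈ pairFix s
    rw [S.hπ hok]; exact E_mem_pairFix hok ha hb t
  exact this hy

theorem l_up (i : l) (t a b : F) :
    (S.π (S.φl i (up t))).1 *ᵥ (a • bv (Sum.inl i) + b • bv (Sum.inr i) : l ⊕ l → F) =
      (a + t * b) • bv (Sum.inl i) + b • bv (Sum.inr i) := by
  rw [S.φl_up, S.hπ (self_ok _), E_self, stv_mulVec, sbil_bv_inl]
  funext m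
  simp [bv]
  by_cases h : m = Sum.inl i
  · subst h; simp
  · simp [h]

theorem l_dn (i : l) (t a b : F) :
    (S.π (S.φl i (dn t))).1 *ᵥ (a • bv (Sum.inl i) + b • bv (Sum.inr i) : l ⊕ l → F) =
      a • bv (Sum.inl i) + (b + t * a) • bv (Sum.inr i) := by
  rw [S.φl_dn, S.hπ (self_ok _), E_self, stv_mulVec, sbil_bv_inr]
  funext m
  simp [bv]
  by_cases h : m = Sum.inr i
  · subst h; simp
  · simp [h]

theorem l_wS (i : l) (a b : F) :
    (S.π (S.φl i wS)).1 *ᵥ (a • bv (Sum.inl i) + b • bv (Sum.inr i) : l ⊕ l → F) =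
      b • bv (Sum.inl i) + (-a) • bv (Sum.inr i) := by
  rw [wS_eq, map_mul, map_mul, map_mul, map_mul, sp_mul_mulVec, sp_mul_mulVec, S.l_up, S.l_dn,
    S.l_up]
  congr 2 <;> ring

theorem W_e (i : l) :
    (S.π (S.W i)).1 *ᵥ (bv (Sum.inl i) : l ⊕ l → F) = -bv (Sum.inr i) := by
  have := S.l_wS i 1 0
  simpa [W] using this

theorem D_e (i : l) (c : Fˣ) :
    (S.π (S.D i c)).1 *ᵥ (bv (Sum.inl i) : l ⊕ l → F) = (c : F) • bv (Sum.inl i) := by
  have hinv : (S.π (S.φl i wS)⁻¹).1 *ᵥ (bv (Sum.inl i) : l ⊕ l → F) =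
      (0 : F) • bv (Sum.inl i) + (1 : F) • bv (Sum.inr i) := by
    have := S.l_wS i 0 1
    simp only [neg_zero, one_smul, zero_smul, zero_add, add_zero] at this ⊢
    conv_lhs => rw [← this]
    rw [map_inv, sp_inv_mulVec]
  rw [D, dg_eq, ← wS_eq, map_mul, map_inv, map_mul, map_mul, map_mul, map_mul, map_mul,
    sp_mul_mulVec, sp_mul_mulVec, sp_mul_mulVec, hinv, S.l_up, S.l_dn, S.l_up]
  have := c.ne_zero
  funext m
  simp [bv, this]

theorem s_up {i k : l} (h : i ≠ k) (t a b : F) :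
    (S.π (S.φs i k (up t))).1 *ᵥ (a • bv (Sum.inl i) + b • bv (Sum.inl k) : l ⊕ l → F) =
      (a + t * b) • bv (Sum.inl i) + b • bv (Sum.inl k) := by
  rw [S.φs_up i k h, S.hπ (by simp [h.symm]), E_mulVec_ne (by simp) (by simp [h.symm]),
    sbil_bv_inl, sbil_bv_inr]
  funext m
  simp [bv, h.symm]
  ring

theorem s_dn {i k : l} (h : i ≠ k) (t a b : F) :
    (S.π (S.φs i k (dn t))).1 *ᵥ (a • bv (Sum.inl i) + b • bv (Sum.inl k) : l ⊕ l → F) =
      a • bv (Sum.inl i) + (b + t * a) • bv (Sum.inl k) := by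
  rw [S.φs_dn i k h, S.hπ (by simp [h]), E_mulVec_ne (by simp) (by simp [h]),
    sbil_bv_inl, sbil_bv_inr]
  funext m
  simp [bv, h]
  ring

theorem Z_e {i k : l} (h : i ≠ k) :
    (S.π (S.Z i k)).1 *ᵥ (bv (Sum.inl i) : l ⊕ l → F) = -bv (Sum.inl k) := by
  have := S.s_up h 1 1 0
  rw [Z, wS_eq, map_mul, map_mul, map_mul, map_mul, sp_mul_mulVec, sp_mul_mulVec]
  conv_lhs => arg 2; arg 2; arg 2; rw [show (bv (Sum.inl i) : l ⊕ l → F) =
    (1 : F) • bv (Sum.inl i) + (0 : F) • bv (Sum.inl k) by simp]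
  rw [S.s_up h, S.s_dn h, S.s_up h]
  simp

theorem P_fix (hj : j ∉ s) {p : Y} (hp : p ∈ S.P s j) :
    (S.π p).1 *ᵥ (bv (Sum.inl j) : l ⊕ l → F) = bv (Sum.inl j) := by
  induction hp using Subgroup.closure_induction with
  | mem y hy =>
    obtain ⟨a, b, t, hok, -, -, ha, hb, rfl⟩ := hy
    rw [S.hπ hok]
    exact E_apply_of_swap_ne hok t (fun e => ha (by simpa using (congrArg Sum.swap e).symm))
      (fun e => hb (by simpa using (congrArg Sum.swap e).symm))
  | one => rw [map_one]; exact sp_one_mulVec _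
  | mul y z _ _ hy hz => rw [map_mul, sp_mul_mulVec, hz, hy]
  | inv y _ hy =>
    rw [map_inv]
    conv_lhs => rw [← hy]
    exact sp_inv_mulVec _ _

theorem QT_coord {T : Set (l ⊕ l)} (hT : ∀ c ∈ T, c ≠ Sum.inr j) {m : l ⊕ l}
    (hm : m ≠ Sum.inl j) {q : Y} (hq : q ∈ S.QT j T) :
    ∀ v : l ⊕ l → F, (m ∉ T ∨ v (Sum.inr j) = 0) → ((S.π q).1 *ᵥ v) m = v m := by
  have key : ∀ c ∈ T, ∀ t, ∀ v : l ⊕ l → F, (m ∉ T ∨ v (Sum.inr j) = 0) →
      ((S.π (S.x (Sum.inl j) c t)).1 *ᵥ v) m = v m ∧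
      ((S.π (S.x (Sum.inl j) c t)).1 *ᵥ v) (Sum.inr j) = v (Sum.inr j) := by
    intro c hc t v hv
    rw [S.hπ (a := Sum.inl j) (hT c hc)]
    refine ⟨?_, E_apply_of_ne (hT c hc) t v (by simp) (hT c hc).symm⟩
    rcases hv with hv | hv
    · exact E_apply_of_ne (hT c hc) t v hm fun e => hv (e ▸ hc)
    · by_cases he : Sum.inl j = c
      · subst he; rw [E_self, stv_mulVec, sbil_bv_inl, hv]; simp
      · rw [E_mulVec_ne he (hT c hc), sbil_bv_inl, hv]; simp [bv, hm]
  suffices h : ∀ v : l ⊕ l → F, (m ∉ T ∨ v (Sum.inr j) = 0) → ((S.π q).1 *ᵥ v) m = v m ∧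
      ((S.π q).1 *ᵥ v) (Sum.inr j) = v (Sum.inr j) from fun v hv => (h v hv).1
  induction hq using Subgroup.closure_induction'' with
  | mem y hy =>
    obtain ⟨c, t, hc, rfl⟩ := hy
    exact key c hc t
  | inv_mem y hy =>
    obtain ⟨c, t, hc, rfl⟩ := hy
    rw [S.x_inv (a := Sum.inl j) (hT c hc)]
    exact key c hc (-t)
  | one => intro v _; rw [map_one, sp_one_mulVec]; exact ⟨rfl, rfl⟩
  | mul y z _ _ hy hz =>
    intro v hv
    rw [map_mul, sp_mul_mulVec]
    have h2 := hz v hv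
    have h1 := hy ((S.π z).1 *ᵥ v) (hv.imp_right fun e => by rw [h2.2, e])
    exact ⟨h1.1.trans h2.1, h1.2.trans h2.2⟩

theorem base_cells (hj : j ∉ s) (h : ∀ k, k ∉ s → k = j) {y : Y} (hy : y ∈ S.Ys s) :
    S.AC s j y := by
  have : S.Ys s ≤ (S.φl j).range := by
    rw [Ys, Subgroup.closure_le]
    rintro _ ⟨a, b, t, hok, ha, hb, rfl⟩
    have ha' := h _ ha
    have hb' := h _ hb
    rcases a with a | a <;> rcases b with b | b <;> simp only [ix_inl, ix_inr] at ha' hb'
    · subst ha' hb'; exact S.x_range t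
    · subst ha' hb'; exact absurd rfl hok
    · subst ha' hb'; exact absurd rfl hok
    · subst ha' hb'; exact S.x_range' t
  obtain ⟨g, rfl⟩ := this hy
  simpa using S.AC_φl hj g (one_mem (S.P s j))

theorem cells : ∀ (n : ℕ) (s : Finset l), Fintype.card l - s.card ≤ n → ∀ j ∉ s, ∀ y ∈ S.Ys s,
    S.AC s j y ∨ ∃ k, k ∉ s ∧ k ≠ j ∧ S.BB s j k y := by
  intro n
  induction n with
  | zero =>
    intro s hn j hj
    have : (insert j s).card ≤ Fintype.card l := Finset.card_le_univ _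
    rw [Finset.card_insert_of_notMem hj] at this
    omega
  | succ n ih =>
    intro s hn j hj y hy
    by_cases h : ∀ k, k ∉ s → k = j
    · exact Or.inl (S.base_cells hj h hy)
    push Not at h
    obtain ⟨k, hk, hkj⟩ := h
    have IH := ih (insert j s) (by rw [Finset.card_insert_of_notMem hj]; omega) k
      (by simp [hkj, hk])
    rcases S.all_mem hj hk hkj.symm IH hy with h | h
    · exact Or.inl h
    · exact Or.inr ⟨k, hk, hkj, h⟩

theorem stab (hj : j ∉ s) {y : Y} (hy : y ∈ S.Ys s)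
    (he : (S.π y).1 *ᵥ (bv (Sum.inl j) : l ⊕ l → F) = bv (Sum.inl j)) : y ∈ S.P s j := by
  rcases S.cells _ s le_rfl j hj y hy with (⟨q, hq, c, p, hp, rfl⟩ | ⟨c, p, hp, rfl⟩) |
    ⟨k, hk, hkj, g, hg, c, p, hp, rfl⟩
  · exfalso
    simp only [map_mul, sp_mul_mulVec, S.P_fix hj hp, S.D_e, mulVec_smul, S.W_e] at he
    have h1 := congrFun he (Sum.inr j)
    rw [Pi.smul_apply, S.QT_coord (fun c hc => hc.1) (by simp) hq _ (Or.inl fun h => h.1 rfl)] at h1
    simp [bv, c.ne_zero] at h1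
  · simp only [map_mul, sp_mul_mulVec, S.P_fix hj hp, S.D_e] at he
    have : c = 1 := Units.ext (by simpa [bv] using congrFun he (Sum.inl j))
    rw [this, S.D_one, one_mul]; exact hp
  · exfalso
    have hfix := S.π_Ys hg
    simp only [map_mul, sp_mul_mulVec, S.P_fix hj hp, S.Z_e hkj.symm] at he
    have hx : (S.π (S.φs j k (up c))).1 *ᵥ (-bv (Sum.inl k) : l ⊕ l → F) =
        (-c) • bv (Sum.inl j) + (-1 : F) • bv (Sum.inl k) := by
      have := S.s_up hkj.symm c 0 (-1)
      simpa using this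
    rw [hx, mulVec_add, mulVec_smul, mulVec_smul, (hfix j (Finset.mem_insert_self j s)).1] at he
    have hmem : (S.π g).1 *ᵥ (bv (Sum.inl k) : l ⊕ l → F) ∈ supOutside (insert j s) :=
      pairFix_mulVec_mem hfix (single_mem_supOutside (by simp [hkj, hk]) 1).1
    have h0 : (S.π g).1 *ᵥ (bv (Sum.inl k) : l ⊕ l → F) ≠ 0 :=
      sp_mulVec_ne_zero _ (by simp [bv])
    obtain ⟨m, hm⟩ := Function.ne_iff.1 h0
    have hmj : m ≠ Sum.inl j := by
      rintro rfl; exact hm (hmem j (Finset.mem_insert_self j s)).1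
    have := congrFun he m
    simp [bv, hmj] at this
    exact hm (by simpa [bv] using this)

theorem QT_inj (T : Finset (l ⊕ l)) (hT : ∀ c ∈ T, c ≠ Sum.inr j ∧ c ≠ Sum.inl j) :
    ∀ q ∈ S.QT j (insert (Sum.inl j) (T : Set (l ⊕ l))), S.π q = 1 → q = 1 := by
  induction T using Finset.induction_on with
  | empty =>
    intro q hq h1
    obtain ⟨t, rfl⟩ : ∃ t, q = S.x (Sum.inl j) (Sum.inl j) t := by
      clear h1
      induction hq using Subgroup.closure_induction with
      | mem y hy =>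
        obtain ⟨c, t, hc, rfl⟩ := hy
        simp only [Finset.coe_empty, insert_empty_eq, Set.mem_singleton_iff] at hc
        subst hc; exact ⟨t, rfl⟩
      | one => exact ⟨0, (S.x_zero (self_ok _)).symm⟩
      | mul y z _ _ hy hz =>
        obtain ⟨t, rfl⟩ := hy
        obtain ⟨u, rfl⟩ := hz
        exact ⟨t + u, S.add (self_ok _) t u⟩
      | inv y _ hy =>
        obtain ⟨t, rfl⟩ := hy
        exact ⟨-t, S.x_inv (self_ok _) t⟩
    have := congrArg (fun g : Matrix.symplecticGroup l F =>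
      (g.1 *ᵥ (bv (Sum.inr j) : l ⊕ l → F)) (Sum.inl j)) h1
    simp only [S.hπ (self_ok _), E_self, stv_mulVec, sp_one_mulVec, sbil_bv_inl] at this
    simp [bv] at this
    rw [this, S.x_zero (self_ok _)]
  | insert c T hc ih =>
    intro q hq h1
    have hc' := hT c (Finset.mem_insert_self c T)
    have hT0 : ∀ a ∈ insert (Sum.inl j) (T : Set (l ⊕ l)), a ≠ Sum.inr j := by
      rintro a (rfl | ha)
      · simp
      · exact (hT a (Finset.mem_insert_of_mem ha)).1
    rw [Finset.coe_insert, Set.insert_comm] at hq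
    obtain ⟨a, q0, h0, rfl⟩ := S.QT_insert hc'.1 hT0 (Set.mem_insert _ _) hq
    have hcT : c ∉ insert (Sum.inl j) (T : Set (l ⊕ l)) := by
      rintro (e | e)
      · exact hc'.2 e
      · exact hc e
    have hv1 := S.QT_coord hT0 hc'.2 h0 (bv (Sum.inr j) : l ⊕ l → F) (Or.inl hcT)
    have hv2 := S.QT_coord hT0 (m := Sum.inr j) (by simp) h0 (bv (Sum.inr j) : l ⊕ l → F)
      (Or.inl fun h => hT0 _ h rfl)
    have h := congrArg (fun g : Matrix.symplecticGroup l F =>
      (g.1 *ᵥ (bv (Sum.inr j) : l ⊕ l → F)) c) h1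
    simp only [map_mul, sp_mul_mulVec, sp_one_mulVec] at h
    rw [S.hπ (a := Sum.inl j) hc'.1, E_mulVec_ne hc'.2.symm hc'.1] at h
    simp only [Pi.add_apply, Pi.smul_apply, hv1, sbil_bv_inl, hv2] at h
    simp [bv, hc'.1, hc'.2] at h
    subst h
    rw [S.x_zero hc'.1, one_mul] at h1 ⊢
    exact ih (fun a ha => hT a (Finset.mem_insert_of_mem ha)) q0 h0 h1

theorem inj : ∀ (n : ℕ) (s : Finset l), Fintype.card l - s.card ≤ n → ∀ y ∈ S.Ys s,
    S.π y = 1 → y = 1 := by
  intro n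
  induction n with
  | zero =>
    intro s hn y hy _
    have hs : s = Finset.univ := Finset.eq_univ_of_card _ (by have := s.card_le_univ; omega)
    subst hs
    have : S.Ys Finset.univ ≤ ⊥ := by
      rw [Ys, Subgroup.closure_le]
      rintro _ ⟨a, b, t, -, ha, -, rfl⟩
      exact absurd (Finset.mem_univ _) ha
    exact Subgroup.mem_bot.1 (this hy)
  | succ n ih =>
    intro s hn y hy h1
    by_cases hs : ∀ j, j ∈ s
    · exact ih s (by rw [Finset.eq_univ_of_forall hs]; simp) y hy h1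
    push Not at hs
    obtain ⟨j, hj⟩ := hs
    obtain ⟨q, hq, g, hg, rfl⟩ := S.exists_QY hj
      (S.stab hj hy (by rw [h1]; exact sp_one_mulVec _))
    have hgfix := S.π_Ys hg
    have hgv : ∀ v ∈ (supOutside (insert j s) : Submodule F (l ⊕ l → F)), (S.π g).1 *ᵥ v = v := by
      intro v hv
      have hgv' := pairFix_mulVec_mem hgfix hv
      have e : (S.π q).1 *ᵥ ((S.π g).1 *ᵥ v) = v := by
        rw [← sp_mul_mulVec, ← map_mul, h1]; exact sp_one_mulVec _
      funext m
      by_cases hm : m = Sum.inl j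
      · subst hm
        rw [(hgv' j (Finset.mem_insert_self j s)).1, (hv j (Finset.mem_insert_self j s)).1]
      · conv_rhs => rw [← e]
        exact (S.QT_coord (fun c hc => hc.1) hm hq _
          (Or.inr (hgv' j (Finset.mem_insert_self j s)).2)).symm
    have hg1 : S.π g = 1 := by
      refine Subtype.ext ?_
      ext a b
      have : (S.π g).1 *ᵥ (bv b : l ⊕ l → F) = bv b := by
        by_cases hb : ix b ∈ insert j s
        · rcases b with b | b
          · exact (hgfix b hb).1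
          · exact (hgfix b hb).2
        · refine hgv _ ?_
          rcases b with b | b
          · exact (single_mem_supOutside hb 1).1
          · exact (single_mem_supOutside hb 1).2
      simpa [bv, Matrix.one_apply, Pi.single_apply] using congrFun this a
    have hg' : g = 1 := ih (insert j s) (by rw [Finset.card_insert_of_notMem hj]; omega) g hg hg1
    subst hg'
    rw [mul_one] at h1 ⊢
    classical
    refine S.QT_inj (Finset.univ.filter fun c => c ≠ Sum.inr j ∧ c ≠ Sum.inl j)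
      (fun c hc => (Finset.mem_filter.1 hc).2) q ?_ h1
    refine S.QT_mono ?_ hq
    intro c hc
    by_cases h : c = Sum.inl j
    · exact Or.inl h
    · exact Or.inr (Finset.mem_filter.2 ⟨Finset.mem_univ _, hc.1, h⟩)

theorem E_range {a b : l ⊕ l} (h : b ≠ a.swap) (t : F) : E a b t ∈ S.π.range :=
  ⟨S.x a b t, S.hπ h t⟩

theorem kill (j : l) (T : Finset (l ⊕ l)) (hT : ∀ c ∈ T, ix c ≠ j) (v : l ⊕ l → F)
    (hv : v (Sum.inl j) ≠ 0) :
    ∃ g ∈ S.π.range, (g.1 *ᵥ v) (Sum.inl j) = v (Sum.inl j) ∧ ∀ c ∈ T, (g.1 *ᵥ v) c = 0 := by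
  induction T using Finset.induction_on with
  | empty => exact ⟨1, one_mem _, by rw [sp_one_mulVec], by simp⟩
  | insert c T hc ih =>
    obtain ⟨g, hg, h1, h2⟩ := ih fun a ha => hT a (Finset.mem_insert_of_mem ha)
    have hcj := hT c (Finset.mem_insert_self c T)
    have hcl : c ≠ Sum.inl j := fun e => hcj (by simp [e])
    have hcr : c ≠ Sum.inr j := fun e => hcj (by simp [e])
    set w := g.1 *ᵥ v with hwdef
    have hok : c ≠ (Sum.inr j : l ⊕ l).swap := by simpa using hcl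
    refine ⟨E (Sum.inr j) c (-(w c) / v (Sum.inl j)) * g, mul_mem (S.E_range hok _) hg, ?_, ?_⟩
    · rw [sp_mul_mulVec, ← hwdef, E_apply_of_ne hok _ _ (by simp) hcl.symm, h1]
    · intro a ha
      rw [sp_mul_mulVec, ← hwdef]
      rcases Finset.mem_insert.1 ha with rfl | ha
      · rw [E_mulVec_ne hcr.symm hok, sbil_bv_inr, h1]
        simp [bv, hcr]
        field_simp
        ring
      · rw [E_apply_of_ne hok _ _ (fun e => hT a (Finset.mem_insert_of_mem ha) (by simp [e]))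
          (fun e => hc (by rwa [← e]))]
        exact h2 a ha

theorem stv_range (a : F) (v : l ⊕ l → F) : stv a v ∈ S.π.range := by
  rcases eq_or_ne v 0 with rfl | hv
  · rw [show stv a (0 : l ⊕ l → F) = 1 from sp_ext fun x => by simp]; exact one_mem _
  suffices h : ∃ g ∈ S.π.range, ∃ (j : l) (α : F), g.1 *ᵥ v = α • bv (Sum.inl j) by
    obtain ⟨g, hg, j, α, h⟩ := h
    have := stv_conj g a v
    rw [h, stv_smul] at this
    have h' : stv a v = g⁻¹ * stv (a * α ^ 2) (bv (Sum.inl j)) * g := by rw [← this]; group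
    rw [h', ← E_self]
    exact mul_mem (mul_mem (inv_mem hg) (S.E_range (self_ok _) _)) hg
  obtain ⟨m, hm⟩ := Function.ne_iff.1 hv
  obtain ⟨j, hj⟩ : ∃ j, j = ix m := ⟨_, rfl⟩
  obtain ⟨g0, hg0, h0⟩ : ∃ g ∈ S.π.range, (g.1 *ᵥ v) (Sum.inl j) ≠ 0 := by
    rcases m with i | i <;> simp only [ix_inl, ix_inr] at hj <;> subst hj
    · exact ⟨1, one_mem _, by rw [sp_one_mulVec]; exact hm⟩
    · by_cases h : v (Sum.inl j) = 0
      · refine ⟨_, S.E_range (self_ok (Sum.inl j)) 1, ?_⟩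
        rw [E_self, stv_mulVec, sbil_bv_inl]
        simpa [bv, h] using hm
      · exact ⟨1, one_mem _, by rw [sp_one_mulVec]; exact h⟩
  obtain ⟨g, hg, h1, h2⟩ := S.kill j (Finset.univ.filter fun c => ix c ≠ j)
    (fun c hc => (Finset.mem_filter.1 hc).2) (g0.1 *ᵥ v) h0
  set w := g.1 *ᵥ (g0.1 *ᵥ v) with hw
  have hw0 : w (Sum.inl j) ≠ 0 := by rw [h1]; exact h0
  refine ⟨E (Sum.inr j) (Sum.inr j) (-(w (Sum.inr j)) / w (Sum.inl j)) * (g * g0),
    mul_mem (S.E_range (self_ok _) _) (mul_mem hg hg0), j, w (Sum.inl j), ?_⟩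
  rw [sp_mul_mulVec, sp_mul_mulVec, ← hw, E_self, stv_mulVec, sbil_bv_inr]
  funext c
  rcases c with i | i
  · by_cases hi : i = j
    · subst hi; simp [bv]
    · have := h2 (Sum.inl i) (by simp [hi]); simp [bv, hi, this]
  · by_cases hi : i = j
    · subst hi; simp [bv, hw0]
    · have := h2 (Sum.inr i) (by simp [hi]); simp [bv, hi, this]

theorem range_top : (⊤ : Subgroup (Matrix.symplecticGroup l F)) ≤ S.π.range :=
  (sp_eq_top_of_stv_mem _ S.stv_range).ge

/-- Root elements which generate give a group isomorphic to the symplectic group. -/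
theorem bijective (hgen : Subgroup.closure {y | ∃ a b t, b ≠ a.swap ∧ y = S.x a b t} = ⊤) :
    Function.Bijective S.π := by
  have htop : S.Ys ∅ = ⊤ := by
    rw [← hgen, Ys]
    congr 1
    ext y
    simp
  refine ⟨(injective_iff_map_eq_one _).2 fun y h1 =>
    S.inj _ ∅ le_rfl y (htop ▸ Subgroup.mem_top y) h1, fun g => ?_⟩
  suffices h : (⊤ : Subgroup (Matrix.symplecticGroup l F)) ≤ S.π.range from h (Subgroup.mem_top g)
  exact S.range_top

end Setup

end CfsgLib.Pres.SpR
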