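import Cfsg.Agent.Lib.Classical.SympBasic
import Cfsg.Agent.Lib.Steinberg.RankOne

/-!
Root elements of the symplectic groups, and facts about two by two matrices.
-/

set_option autoImplicit false

namespace CfsgLib.Pres.SpR

open Matrix CfsgLib.Classical CfsgLib.Steinberg CfsgLib.Steinberg.R1Data
open scoped MatrixGroups

variable {l : Type*} [Fintype l] [DecidableEq l] {F : Type*} [Field F]

/-- the index of a basis vector -/
def ix : l ⊕ l → l := Sum.elim id id

/-- a basis vector -/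
abbrev bv (a : l ⊕ l) : l ⊕ l → F := Pi.single a 1

/-- exchange the two vectors of one pair -/
def wi (i : l) (a : l ⊕ l) : l ⊕ l := if ix a = i then a.swap else a

/-- exchange two pairs -/
def zi (i k : l) : l ⊕ l → l ⊕ l := Sum.map (Equiv.swap i k) (Equiv.swap i k)

omit [Fintype l] [DecidableEq l] in
@[simp] theorem ix_inl (i : l) : ix (Sum.inl i : l ⊕ l) = i := rfl

omit [Fintype l] [DecidableEq l] in
@[simp] theorem ix_inr (i : l) : ix (Sum.inr i : l ⊕ l) = i := rfl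

omit [Fintype l] [DecidableEq l] in
@[simp] theorem ix_swap (a : l ⊕ l) : ix a.swap = ix a := by cases a <;> rfl

theorem sbil_bv_inl (i : l) (v : l ⊕ l → F) : sbil (bv (Sum.inl i)) v = -v (Sum.inr i) := by
  rw [sbil_apply, Finset.sum_eq_single i] <;> simp +contextual [bv]

theorem sbil_bv_inr (i : l) (v : l ⊕ l → F) : sbil (bv (Sum.inr i)) v = v (Sum.inl i) := by
  rw [sbil_apply, Finset.sum_eq_single i] <;> simp +contextual [bv]

theorem sbil_bv_bv {a b : l ⊕ l} (h : b ≠ a.swap) : sbil (bv a) (bv b : l ⊕ l → F) = 0 := by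
  rcases a with i | i
  · rw [sbil_bv_inl, neg_eq_zero, bv, Pi.single_eq_of_ne]; exact fun e => h (by simp [← e])
  · rw [sbil_bv_inr, bv, Pi.single_eq_of_ne]; exact fun e => h (by simp [← e])

/-- The root element of an unordered pair of basis vectors. -/
noncomputable def E (a b : l ⊕ l) (t : F) : Matrix.symplecticGroup l F :=
  if a = b then stv t (bv a) else stv t (bv a + bv b) * stv (-t) (bv a) * stv (-t) (bv b)

theorem E_self (a : l ⊕ l) (t : F) : E a a t = stv t (bv a) := if_pos rfl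

theorem E_mulVec_ne {a b : l ⊕ l} (hab : a ≠ b) (hok : b ≠ a.swap) (t : F) (v : l ⊕ l → F) :
    (E a b t).1 *ᵥ v = v + (t * sbil (bv a) v) • bv b + (t * sbil (bv b) v) • bv a := by
  have h1 : sbil (bv a) (bv b : l ⊕ l → F) = 0 := sbil_bv_bv hok
  have h2 : sbil (bv b) (bv a : l ⊕ l → F) = 0 := by rw [sbil_swap, h1, neg_zero]
  rw [E, if_neg hab]
  simp only [sp_mul_mulVec, stv_mulVec, sbil_add_left, sbil_add_right, sbil_smul_right, h1, h2,
    sbil_self, mul_zero, add_zero]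
  module

theorem E_add {a b : l ⊕ l} (hok : b ≠ a.swap) (t u : F) : E a b t * E a b u = E a b (t + u) := by
  rcases eq_or_ne a b with rfl | hab
  · rw [E_self, E_self, E_self, stv_mul]
  have h1 : sbil (bv a) (bv b : l ⊕ l → F) = 0 := sbil_bv_bv hok
  have h2 : sbil (bv b) (bv a : l ⊕ l → F) = 0 := by rw [sbil_swap, h1, neg_zero]
  refine sp_ext fun v => ?_
  simp only [sp_mul_mulVec, E_mulVec_ne hab hok, sbil_add_right, sbil_smul_right, h1, h2,
    sbil_self, mul_zero, add_zero]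
  module

theorem E_symm {a b : l ⊕ l} (hok : b ≠ a.swap) (t : F) : E a b t = E b a t := by
  rcases eq_or_ne a b with rfl | hab
  · rfl
  refine sp_ext fun v => ?_
  rw [E_mulVec_ne hab hok, E_mulVec_ne hab.symm (fun e => hok (by rw [e, Sum.swap_swap])),
    add_right_comm]

theorem E_apply_of_ne {a b : l ⊕ l} (hok : b ≠ a.swap) (t : F) (v : l ⊕ l → F) {m : l ⊕ l}
    (ha : m ≠ a) (hb : m ≠ b) : ((E a b t).1 *ᵥ v) m = v m := by
  rcases eq_or_ne a b with rfl | hab
  · rw [E_self, stv_mulVec]; simp [bv, ha]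
  · rw [E_mulVec_ne hab hok]; simp [bv, ha, hb]

theorem E_apply_of_swap_ne {a b : l ⊕ l} (hok : b ≠ a.swap) (t : F) {c : l ⊕ l}
    (ha : c ≠ a.swap) (hb : c ≠ b.swap) : (E a b t).1 *ᵥ (bv c : l ⊕ l → F) = bv c := by
  rcases eq_or_ne a b with rfl | hab
  · rw [E_self, stv_mulVec, sbil_bv_bv ha]; simp
  · rw [E_mulVec_ne hab hok, sbil_bv_bv ha, sbil_bv_bv hb]; simp

theorem E_mem_pairFix {s : Finset l} {a b : l ⊕ l} (hok : b ≠ a.swap) (ha : ix a ∉ s) (hb : ix b ∉ s)
    (t : F) : E a b t ∈ pairFix s := by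
  intro i hi
  constructor <;> refine E_apply_of_swap_ne hok t ?_ ?_ <;> intro e <;>
    first
    | (apply ha; rw [← ix_swap a, ← e]; exact hi)
    | (apply hb; rw [← ix_swap b, ← e]; exact hi)

/-- A diagonal element. -/
def dg (c : Fˣ) : SL(2, F) :=
  ⟨!![(c : F), 0; 0, ((c⁻¹ : Fˣ) : F)], by simp [Matrix.det_fin_two]⟩

@[simp] theorem dg_val (c : Fˣ) :
    (dg c : Matrix (Fin 2) (Fin 2) F) = !![(c : F), 0; 0, ((c⁻¹ : Fˣ) : F)] := rfl

theorem up_zero : up (0 : F) = 1 := by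
  ext i j; fin_cases i <;> fin_cases j <;> simp

theorem sl_coe_mul (g h : SL(2, F)) :
    ((g * h : SL(2, F)) : Matrix (Fin 2) (Fin 2) F) = g.1 * h.1 := rfl

theorem sl_det (g : SL(2, F)) : g 0 0 * g 1 1 - g 0 1 * g 1 0 = 1 := by
  have := g.2
  rwa [Matrix.det_fin_two] at this

theorem cases_upper (h : SL(2, F)) (h0 : h 1 0 = 0) : ∃ s, ∃ d : Fˣ, h = up s * dg d := by
  have hd := sl_det h
  rw [h0, mul_zero, sub_zero] at hd
  refine ⟨h 0 1 * h 0 0, Units.mk0 _ (left_ne_zero_of_mul_eq_one hd), Subtype.ext ?_⟩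
  rw [sl_coe_mul]
  ext i j
  fin_cases i <;> fin_cases j <;> simp [Matrix.mul_apply, Fin.sum_univ_two, h0]
  · field_simp [left_ne_zero_of_mul_eq_one hd]
  · exact eq_inv_of_mul_eq_one_right hd

theorem cases_lower (h : SL(2, F)) (h0 : h 1 0 ≠ 0) :
    ∃ s e, ∃ d : Fˣ, h = up s * wS * dg d * up e := by
  have hd := sl_det h
  refine ⟨h 0 0 / h 1 0, h 1 1 / h 1 0, Units.mk0 _ (neg_ne_zero.2 h0), Subtype.ext ?_⟩
  rw [sl_coe_mul, sl_coe_mul, sl_coe_mul]
  ext i j
  fin_cases i <;> fin_cases j <;> simp [Matrix.mul_apply, Fin.sum_univ_two]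
  · field_simp
  · field_simp
    linear_combination -hd
  · field_simp

theorem wS_eq : (wS : SL(2, F)) = up 1 * dn (-1) * up 1 := by
  refine Subtype.ext ?_
  rw [sl_coe_mul, sl_coe_mul]
  ext i j
  fin_cases i <;> fin_cases j <;> simp [Matrix.mul_apply, Fin.sum_univ_two]

theorem dg_eq (c : Fˣ) :
    dg c = up (c : F) * dn (-(c : F)⁻¹) * up (c : F) * (up 1 * dn (-1) * up 1)⁻¹ := by
  rw [eq_mul_inv_iff_mul_eq, ← wS_eq]
  refine Subtype.ext ?_
  rw [sl_coe_mul, sl_coe_mul, sl_coe_mul]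
  have := c.ne_zero
  ext i j
  fin_cases i <;> fin_cases j <;> simp [Matrix.mul_apply, Fin.sum_univ_two, this]

theorem wS_inv_eq : (wS : SL(2, F))⁻¹ = dg (-1) * wS := by
  refine inv_eq_of_mul_eq_one_right (Subtype.ext ?_)
  rw [sl_coe_mul, sl_coe_mul]
  ext i j
  fin_cases i <;> fin_cases j <;> simp [Matrix.mul_apply, Fin.sum_univ_two]

theorem wS_sq_eq : (wS : SL(2, F)) * wS = dg (-1) := by
  refine Subtype.ext ?_
  rw [sl_coe_mul]
  ext i j
  fin_cases i <;> fin_cases j <;> simp [Matrix.mul_apply, Fin.sum_univ_two]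

theorem dg_mul (b c : Fˣ) : dg b * dg c = dg (b * c) := by
  refine Subtype.ext ?_
  rw [sl_coe_mul]
  ext i j
  fin_cases i <;> fin_cases j <;> simp [Matrix.mul_apply, Fin.sum_univ_two, mul_comm]

theorem dg_one : dg (1 : Fˣ) = 1 := Subtype.ext (by
  ext i j; fin_cases i <;> fin_cases j <;> simp)

theorem range_le {Y : Type*} [Group Y] (φ : SL(2, F) →* Y) {H : Subgroup Y}
    (hu : ∀ t, φ (up t) ∈ H) (hd : ∀ t, φ (dn t) ∈ H) (h : SL(2, F)) : φ h ∈ H := by
  have hw : φ wS ∈ H := by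
    rw [wS_eq, map_mul, map_mul]; exact mul_mem (mul_mem (hu _) (hd _)) (hu _)
  have hg : ∀ c, φ (dg c) ∈ H := fun c => by
    rw [dg_eq, map_mul, map_inv, map_mul, map_mul, map_mul, map_mul]
    exact mul_mem (mul_mem (mul_mem (hu _) (hd _)) (hu _))
      (inv_mem (mul_mem (mul_mem (hu _) (hd _)) (hu _)))
  by_cases h0 : h 1 0 = 0
  · obtain ⟨s, d, rfl⟩ := cases_upper h h0
    rw [map_mul]; exact mul_mem (hu _) (hg _)
  · obtain ⟨s, e, d, rfl⟩ := cases_lower h h0
    simp only [map_mul]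
    exact mul_mem (mul_mem (mul_mem (hu _) hw) (hg _)) (hu _)

end CfsgLib.Pres.SpR
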