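import Cfsg.Agent.Lib.Pres.SpWords
import Cfsg.Agent.Lib.Pres.SL2Short
import Mathlib.GroupTheory.Perm.Closure

/-!
The symplectic groups of rank at least two, other than the one of rank two over two elements, are
generated by two elements.
-/

set_option autoImplicit false

namespace CfsgLib.Pres.SpTwo

open Matrix Equiv CfsgLib.Pres.SpR CfsgLib.Pres.SpW CfsgLib.Classical CfsgLib.Steinberg
  CfsgLib.Steinberg.R1Data
open scoped MatrixGroups commutatorElement

variable {F : Type*} [Field F] {l : Type*} [Fintype l] [DecidableEq l]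

local notation "Sp" => Matrix.symplecticGroup l F

theorem up_hom (s t : F) : (up s * up t : SL(2, F)) = up (s + t) := by
  refine Subtype.ext ?_
  rw [sl_coe_mul]
  ext i j; fin_cases i <;> fin_cases j <;> simp [Matrix.mul_apply, Fin.sum_univ_two, add_comm]

theorem up_nsmul (t : F) (n : ℕ) : (up t : SL(2, F)) ^ n = up (n • t) := by
  induction n with
  | zero => rw [pow_zero, zero_smul, SpR.up_zero]
  | succ n ih => rw [pow_succ, ih, up_hom, succ_nsmul]

/-- A rank one subgroup, a cycle and a short root group generate. -/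
theorem top_of {c : Perm l} (hc : c.IsCycle) (hs : c.support = ⊤) (o : l) (H : Subgroup Sp)
    (hφ : ∀ g, embSp o g ∈ H) (hp : permSp c ∈ H)
    (hS : ∀ t : F, E (Sum.inl o) (Sum.inl (c o)) t ∈ H) : H = ⊤ := by
  have hop : o ≠ c o := fun e => by
    have := Finset.mem_univ o
    rw [← Finset.top_eq_univ, ← hs, Perm.mem_support] at this
    exact this e.symm
  let M : SpData l F Sp o (c o) := SpData.ofInjective permSp (embSp o)
    (fun t => E (Sum.inl o) (Sum.inl (c o)) t) (MonoidHom.id _) Function.injective_id hop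
    (fun _ => rfl) (fun _ => rfl) (fun _ => rfl)
  have hW : permSp (swap o (c o)) * embSp o wS * (permSp (swap o (c o)))⁻¹ ∈ H := by
    rw [embSp_conj, swap_apply_left, ← embSp_conj c o]
    exact mul_mem (mul_mem hp (hφ _)) (inv_mem hp)
  have hT : permSp (swap o (c o)) ∈ H := by
    have hw : permSp (swap o (c o)) * embSp o (dg (-1)) ∈ H := by
      have e := M.wrel
      change permSp (swap o (c o)) * embSp o (dg (-1)) = _ at e
      rw [e]
      exact mul_mem (mul_mem (mul_mem (mul_mem hW (hS _)) (inv_mem hW))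
        (mul_mem (mul_mem (hφ _) (hS _)) (inv_mem (hφ _))))
        (mul_mem (mul_mem hW (hS _)) (inv_mem hW))
    simpa using mul_mem hw (inv_mem (hφ (dg (-1))))
  have hperm : ∀ σ : Perm l, permSp σ ∈ H := by
    have : (⊤ : Subgroup (Perm l)) ≤ H.comap permSp := by
      rw [← Perm.closure_cycle_adjacent_swap hc hs o, Subgroup.closure_le]
      rintro _ (rfl | rfl)
      · exact hp
      · exact hT
    exact fun σ => this (Subgroup.mem_top σ)
  rw [eq_top_iff, ← closure_model (F := F) hop, Subgroup.closure_le]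
  rintro _ ((⟨σ, rfl⟩ | ⟨g, rfl⟩) | ⟨t, rfl⟩)
  · exact hperm σ
  · exact hφ g
  · exact hS t

omit [Fintype l] [DecidableEq l] in
/-- the rank one group from its two root groups -/
theorem sl_top (K : Subgroup SL(2, F)) (hu : ∀ t, up t ∈ K) (hd : (dn (-1) : SL(2, F)) ∈ K) :
    K = ⊤ := by
  have hw : (wS : SL(2, F)) = up 1 * dn (-1) * up 1 := by
    refine Subtype.ext ?_
    rw [sl_coe_mul, sl_coe_mul]
    ext i j; fin_cases i <;> fin_cases j <;> simp [Matrix.mul_apply, Fin.sum_univ_two]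
  rw [eq_top_iff, ← closure_gens, Subgroup.closure_le]
  rintro _ (⟨t, rfl⟩ | rfl)
  · exact hu t
  · rw [SetLike.mem_coe, hw]; exact mul_mem (mul_mem (hu 1) hd) (hu 1)

theorem dg_E {o p : l}
    (h : o ≠ p) (c : Fˣ) (t : F) :
    embSp o (dg c) * E (Sum.inl o) (Sum.inl p) t * (embSp o (dg c))⁻¹ =
      E (Sum.inl o) (Sum.inl p) ((c : F) * t) := by
  rw [E_conj (embSp_dg o c) (embSp_fix h.symm (dg c)) (by simp) (by simp) (by simp [h])
    (by simp [h]), mul_one]

theorem dg_E' {o p : l} (h : o ≠ p) (c : Fˣ) (t : F) :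
    embSp p (dg c) * E (Sum.inl o) (Sum.inl p) t * (embSp p (dg c))⁻¹ =
      E (Sum.inl o) (Sum.inl p) ((c : F) * t) := by
  rw [E_conj (embSp_fix h (dg c)) (embSp_dg p c) (by simp) (by simp) (by simp [h])
    (by simp [h]), one_mul]

set_option maxHeartbeats 1000000 in
/-- The fields with a torus element that is not an involution. -/
theorem two_gen_big [Finite F] {c : Perm l} (hc : c.IsCycle) (hs : c.support = ⊤) (o : l) (ω : Fˣ)
    (hω : ∀ x : Fˣ, ∃ i : ℕ, ω ^ i = x) (h2 : (ω : F) * ω ≠ 1) :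
    ∃ a b : Sp, Subgroup.closure {a, b} = ⊤ := by
  have hfix : ∀ i, c i ≠ i := fun i => by
    have := Finset.mem_univ i
    rwa [← Finset.top_eq_univ, ← hs, Perm.mem_support] at this
  have hop : o ≠ c o := (hfix o).symm
  have hω1 : (ω : F) ≠ 1 := fun e => h2 (by rw [e, one_mul])
  set S : F → Sp := fun t => E (Sum.inl o) (Sum.inl (c o)) t with hSdef
  have Sadd : ∀ s t, S s * S t = S (s + t) := fun s t => E_add (by simp) s t
  have Sinv : ∀ t, (S t)⁻¹ = S (-t) := fun t => E_inv (by simp) t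
  set t₀ : l → Sp := fun i => embSp i (dg ω) with ht₀
  set n : Sp := embSp o wS * permSp c with hn
  set L : F → Sp := fun t => embSp o (up t) with hLdef
  have hnemb : ∀ i g, c i ≠ o → n * embSp i g * n⁻¹ = embSp (c i) g := fun i g hi => by
    rw [show n * embSp i g * n⁻¹ = embSp o wS * (permSp c * embSp i g * (permSp c)⁻¹) *
      (embSp o wS)⁻¹ by rw [hn]; group, embSp_conj, (embSp_comm hi.symm wS g).eq,
      mul_inv_cancel_right]
  have hnlast : ∀ i g, c i = o → n * embSp i g * n⁻¹ = embSp o (wS * g * wS⁻¹) := fun i g hi => by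
    rw [show n * embSp i g * n⁻¹ = embSp o wS * (permSp c * embSp i g * (permSp c)⁻¹) *
      (embSp o wS)⁻¹ by rw [hn]; group, embSp_conj, hi, map_mul, map_mul, map_inv]
  set a := t₀ o
  set b := S 1 * (L 1 * n) with hb
  refine ⟨a, b, ?_⟩
  set H := Subgroup.closure ({a, b} : Set Sp)
  have ha : a ∈ H := Subgroup.subset_closure (Set.mem_insert _ _)
  have hbH : b ∈ H := Subgroup.subset_closure (Set.mem_insert_of_mem _ rfl)
  have hgen : ∀ t : F, t ≠ 0 → ∃ i : ℕ, t = (ω : F) ^ i := fun t ht => by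
    obtain ⟨i, hi⟩ := hω (Units.mk0 t ht)
    exact ⟨i, by simpa using (congrArg Units.val hi).symm⟩
  -- the short root group
  have hLn : ∀ i g, c i ≠ o → (L 1 * n) * embSp i g * (L 1 * n)⁻¹ = embSp (c i) g := fun i g hi => by
    rw [show L 1 * n * embSp i g * (L 1 * n)⁻¹ = L 1 * (n * embSp i g * n⁻¹) * (L 1)⁻¹ by group,
      hnemb i g hi]
    simp only [hLdef]
    rw [(embSp_comm hi.symm (up 1) g).eq, mul_inv_cancel_right]
  have hS : ∀ t, S t ∈ H := by
    have e1 : b * a * b⁻¹ = S 1 * t₀ (c o) * (S 1)⁻¹ := by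
      rw [show b * a * b⁻¹ = S 1 * ((L 1 * n) * a * (L 1 * n)⁻¹) * (S 1)⁻¹ by rw [hb]; group]
      simp only [a, ht₀]
      rw [hLn o _ (hfix o)]
    have e2 : S 1 * t₀ (c o) * (S 1)⁻¹ = t₀ (c o) * S ((ω : F)⁻¹ - 1) := by
      have : (t₀ (c o))⁻¹ * S 1 * t₀ (c o) = S ((ω : F)⁻¹) := by
        simp only [ht₀, hSdef, ← map_inv]
        conv_lhs => arg 2; rw [← inv_inv (dg ω), map_inv]
        rw [show (dg ω : SL(2, F))⁻¹ = dg ω⁻¹ from inv_eq_of_mul_eq_one_right
          (by rw [dg_mul, mul_inv_cancel, dg_one]), dg_E' hop]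
        simp
      calc _ = t₀ (c o) * (((t₀ (c o))⁻¹ * S 1 * t₀ (c o)) * (S 1)⁻¹) := by group
        _ = _ := by rw [this, Sinv, Sadd, sub_eq_add_neg]
    have hy : t₀ (c o) * S ((ω : F)⁻¹ - 1) ∈ H := by
      rw [← e2, ← e1]; exact mul_mem (mul_mem hbH ha) (inv_mem hbH)
    have hC : S ((ω : F) * ((ω - 1) * ((ω : F)⁻¹ - 1))) ∈ H := by
      have hat : Commute a (t₀ (c o)) := embSp_comm hop _ _
      have e : a * (t₀ (c o) * S ((ω : F)⁻¹ - 1)) * a⁻¹ * (t₀ (c o) * S ((ω : F)⁻¹ - 1))⁻¹ =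
          S ((ω : F) * ((ω - 1) * ((ω : F)⁻¹ - 1))) := by
        calc _ = (a * t₀ (c o) * a⁻¹) * (a * S ((ω : F)⁻¹ - 1) * a⁻¹ * (S ((ω : F)⁻¹ - 1))⁻¹) *
              (t₀ (c o))⁻¹ := by group
          _ = _ := by
            rw [hat.eq, mul_inv_cancel_right]
            simp only [a, ht₀, hSdef]
            rw [dg_E hop, E_inv (by simp), E_add (by simp), dg_E' hop]
            congr 1; ring
      rw [← e]
      exact mul_mem (mul_mem (mul_mem ha hy) (inv_mem ha)) (inv_mem hy)
    set C := (ω : F) * ((ω - 1) * ((ω : F)⁻¹ - 1)) with hCdef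
    have hC0 : C ≠ 0 := mul_ne_zero ω.ne_zero (mul_ne_zero (sub_ne_zero.2 hω1)
      (sub_ne_zero.2 fun e => hω1 (inv_eq_one.1 e)))
    intro t
    rcases eq_or_ne t 0 with rfl | ht
    · have := mul_mem hC (inv_mem hC)
      rwa [Sinv, Sadd, add_neg_cancel] at this
    obtain ⟨i, hi⟩ := hgen (t / C) (div_ne_zero ht hC0)
    have e : ∀ i : ℕ, S ((ω : F) ^ i * C) ∈ H := fun i => by
      induction i with
      | zero => simpa using hC
      | succ i ih =>
        rw [pow_succ', mul_assoc]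
        simp only [hSdef]
        rw [← dg_E hop]
        exact mul_mem (mul_mem ha ih) (inv_mem ha)
    have := e i
    rwa [← hi, div_mul_cancel₀ _ hC0] at this
  have hLnH : L 1 * n ∈ H := by
    have := mul_mem (inv_mem (hS 1)) hbH
    rwa [hb, ← mul_assoc, inv_mul_cancel, one_mul] at this
  -- the torus
  have hreach : ∀ i, ∃ j : ℕ, (c ^ j) o = i := fun i => hc.exists_pow_eq (hfix o) (hfix i)
  have hT : ∀ i, t₀ i ∈ H := fun i => by
    obtain ⟨j, rfl⟩ := hreach i
    induction j with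
    | zero => exact ha
    | succ j ih =>
      rw [pow_succ', Perm.mul_apply]
      by_cases e : c ((c ^ j) o) = o
      · rw [e]; exact ha
      · simp only [ht₀] at ih ⊢
        rw [← hLn _ _ e]
        exact mul_mem (mul_mem hLnH ih) (inv_mem hLnH)
  -- the long root group
  have hL : ∀ t, L t ∈ H := by
    obtain ⟨i, hi⟩ : ∃ i, c i = o := ⟨c⁻¹ o, c.apply_symm_apply o⟩
    have e : (L 1 * n) * t₀ i * (L 1 * n)⁻¹ * a = L (1 - ((ω⁻¹ : Fˣ) : F) * (ω⁻¹ : Fˣ)) := by
      have hinv : (wS : SL(2, F)) * dg ω * wS⁻¹ = dg ω⁻¹ := by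
        rw [mul_inv_eq_iff_eq_mul]
        refine Subtype.ext ?_
        rw [sl_coe_mul, sl_coe_mul]
        ext i j; fin_cases i <;> fin_cases j <;> simp [Matrix.mul_apply, Fin.sum_univ_two]
      rw [show L 1 * n * t₀ i * (L 1 * n)⁻¹ * a = L 1 * (n * t₀ i * n⁻¹) * (L 1)⁻¹ * a by group]
      simp only [a, ht₀, hLdef]
      rw [hnlast i _ hi, ← map_inv, ← map_mul, ← map_mul, ← map_mul, hinv]
      congr 1
      rw [show (up 1 : SL(2, F))⁻¹ = up (-1) from inv_eq_of_mul_eq_one_right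
        (by rw [up_hom, add_neg_cancel, SpR.up_zero]),
        show (up 1 * dg ω⁻¹ * up (-1) * dg ω : SL(2, F)) =
          up 1 * (dg ω⁻¹ * up (-1) * (dg ω⁻¹)⁻¹) * (dg ω⁻¹ * dg ω) by group, dg_up_conj,
        dg_mul, inv_mul_cancel, dg_one, mul_one, up_hom, mul_neg, mul_one, sub_eq_add_neg]
    set C := 1 - ((ω⁻¹ : Fˣ) : F) * (ω⁻¹ : Fˣ) with hCdef
    have hC : L C ∈ H := by
      rw [← e]; exact mul_mem (mul_mem (mul_mem hLnH (hT i)) (inv_mem hLnH)) ha
    have hC0 : C ≠ 0 := by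
      rw [hCdef, sub_ne_zero, ne_comm]
      intro e'
      apply h2
      have := congrArg (fun x : F => x * ((ω : F) * ω)) e'
      simpa [mul_assoc, mul_comm, mul_left_comm] using this.symm
    have hsq : ∀ j : ℕ, L ((ω : F) ^ j * (ω : F) ^ j * C) ∈ H := fun j => by
      induction j with
      | zero => simpa using hC
      | succ j ih =>
        have : L ((ω : F) ^ (j + 1) * (ω : F) ^ (j + 1) * C) =
            a * L ((ω : F) ^ j * (ω : F) ^ j * C) * a⁻¹ := by
          simp only [a, ht₀, hLdef]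
          rw [← map_inv, ← map_mul, ← map_mul, dg_up_conj]
          congr 2; ring
        rw [this]
        exact mul_mem (mul_mem ha ih) (inv_mem ha)
    intro t
    refine of_squares (Q := fun u => L (u * C) ∈ H) ?_ (fun u v hu hv => ?_) (fun y hy => ?_) (t / C)
      |> fun h => by rwa [div_mul_cancel₀ _ hC0] at h
    · simp only [hLdef, zero_mul, SpR.up_zero, map_one]; exact one_mem _
    · have := mul_mem hu hv
      simp only [hLdef] at this ⊢
      rwa [← map_mul, up_hom, ← add_mul] at this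
    · obtain ⟨j, rfl⟩ := hgen y hy
      exact hsq j
  have hnH : n ∈ H := by
    have := mul_mem (inv_mem (hL 1)) hLnH
    rwa [← mul_assoc, inv_mul_cancel, one_mul] at this
  -- the rank one group
  have hup : ∀ i, ∀ t, embSp i (up t) ∈ H := fun i t => by
    obtain ⟨j, rfl⟩ := hreach i
    induction j with
    | zero => exact hL t
    | succ j ih =>
      rw [pow_succ', Perm.mul_apply]
      by_cases e : c ((c ^ j) o) = o
      · rw [e]; exact hL t
      · rw [← hnemb _ _ e]
        exact mul_mem (mul_mem hnH ih) (inv_mem hnH)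
  have hφ : ∀ g, embSp o g ∈ H := fun g => by
    have : H.comap (embSp o) = ⊤ := by
      refine sl_top _ hL ?_
      obtain ⟨i, hi⟩ : ∃ i, c i = o := ⟨c⁻¹ o, c.apply_symm_apply o⟩
      have := mul_mem (mul_mem hnH (hup i 1)) (inv_mem hnH)
      rw [hnlast i _ hi] at this
      rw [Subgroup.mem_comap]
      convert this using 2
      rw [eq_mul_inv_iff_mul_eq]
      refine Subtype.ext ?_
      rw [sl_coe_mul, sl_coe_mul]
      ext i j; fin_cases i <;> fin_cases j <;> simp [Matrix.mul_apply, Fin.sum_univ_two]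
    exact (this.ge (Subgroup.mem_top g) :)
  refine top_of hc hs o H hφ ?_ hS
  have := mul_mem (inv_mem (hφ wS)) hnH
  rwa [hn, ← mul_assoc, inv_mul_cancel, one_mul] at this

/-- Commuting elements of coprime order split. -/
theorem split {G : Type*} [Group G] {H : Subgroup G} {x y : G} (hxy : Commute x y)
    (h : x * y ∈ H) {r s : ℕ} (hx : x ^ r = 1) (hy : y ^ s = 1) (hrs : Nat.Coprime r s) :
    x ∈ H ∧ y ∈ H := by
  have key : ∀ {x y : G} {r s : ℕ}, Commute x y → x * y ∈ H → x ^ r = 1 → y ^ s = 1 →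
      Nat.Coprime r s → x ∈ H := by
    intro x y r s hxy h hx hy hrs
    have hs : x ^ s ∈ H := by
      have := pow_mem h s
      rwa [hxy.mul_pow, hy, mul_one] at this
    obtain ⟨u, v, huv⟩ : ∃ u v : ℤ, (r : ℤ) * u + s * v = 1 :=
      ⟨_, _, by rw [← Nat.gcd_eq_gcd_ab, hrs, Nat.cast_one]⟩
    rw [← zpow_one x, ← huv, _root_.zpow_add, _root_.zpow_mul, zpow_natCast, hx, _root_.one_zpow, one_mul, _root_.zpow_mul,
      zpow_natCast]
    exact zpow_mem hs v
  exact ⟨key hxy h hx hy hrs, key hxy.symm (hxy.eq ▸ h) hy hx hrs.symm⟩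

theorem E_pow {A B : l ⊕ l} (hok : B ≠ A.swap) (hne : A ≠ B) (t : F) (k : ℕ) :
    E A B t ^ k = E A B (k • t) := by
  induction k with
  | zero =>
    rw [pow_zero, zero_smul]
    exact sp_ext fun v => by rw [E_mulVec_ne hne hok, sp_one_mulVec]; simp
  | succ k ih => rw [pow_succ, ih, E_add hok, succ_nsmul]

/-- The fields of two and of three elements in rank at least three. -/
theorem two_gen_prime {c : Perm l} (hc : c.IsCycle) (hs : c.support = ⊤) (o : l)
    (h1 : c o ≠ o) (h3 : c (c o) ≠ o) (hprime : ∀ t : F, ∃ k : ℕ, (k : F) = t) {r s : ℕ}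
    (hs1 : (s : F) = 0) (hrs : Nat.Coprime r s) (g : SL(2, F)) (hg : g ^ r = 1)
    (htop : ∀ H : Subgroup Sp, embSp o g ∈ H → permSp c ∈ H →
      (∀ t, E (Sum.inl o) (Sum.inl (c o)) t ∈ H) → ∀ h, embSp o h ∈ H) :
    ∃ a b : Sp, Subgroup.closure {a, b} = ⊤ := by
  have h2 : c (c o) ≠ c o := fun e => h1 (c.injective e)
  refine ⟨embSp o g * E (Sum.inl (c o)) (Sum.inl (c (c o))) 1, permSp c, ?_⟩
  set H := Subgroup.closure
    ({embSp o g * E (Sum.inl (c o)) (Sum.inl (c (c o))) 1, permSp c} : Set Sp)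
  have hp : permSp c ∈ H := Subgroup.subset_closure (Set.mem_insert_of_mem _ rfl)
  have hcomm : Commute (embSp o g) (E (Sum.inl (c o)) (Sum.inl (c (c o))) 1) := by
    refine mul_inv_eq_iff_eq_mul.1 ?_
    rw [E_conj (embSp_fix h1 g) (embSp_fix h3 g) (by simp) (by simp) (by simp [h2.symm])
      (by simp [h2.symm]), one_mul, one_mul]
  obtain ⟨hgH, hE⟩ := split hcomm (Subgroup.subset_closure (Set.mem_insert _ _))
    (by rw [← map_pow, hg, map_one]) (s := s)
    (by
      rw [E_pow (by simp) (by simp [h2.symm]), nsmul_eq_mul, mul_one, hs1]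
      have e := E_pow (F := F) (A := Sum.inl (c o)) (B := Sum.inl (c (c o))) (by simp)
        (by simp [h2.symm]) 1 0
      rw [pow_zero, zero_smul] at e
      exact e.symm) hrs
  have hS : ∀ t, E (Sum.inl o) (Sum.inl (c o)) t ∈ H := fun t => by
    obtain ⟨k, rfl⟩ := hprime t
    rw [show (k : F) = k • (1 : F) by rw [nsmul_eq_mul, mul_one], ← E_pow (by simp) (by simp [Ne.symm h1])]
    refine pow_mem ?_ k
    have := mul_mem (mul_mem (inv_mem hp) hE) (inv_mem (inv_mem hp))
    rw [← map_inv, perm_E _ (by simp) (by simp [h2.symm])] at this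
    simpa using this
  exact top_of hc hs o H (htop H hgH hp hS) hp hS

set_option maxHeartbeats 1000000 in
/-- Two elements in the field. -/
theorem top_two (h2 : (2 : F) = 0) (hall : ∀ t : F, t = 0 ∨ t = 1) {c : Perm l} (o : l)
    (h1 : c o ≠ o) (H : Subgroup Sp) (hg : embSp o (up 1 * wS) ∈ H) (hp : permSp c ∈ H)
    (hS : ∀ t, E (Sum.inl o) (Sum.inl (c o)) t ∈ H) : ∀ h, embSp o h ∈ H := by
  have hP : E (Sum.inl o) (Sum.inl (c o)) (1 : F) *
      (embSp o (up (1 : F) * wS) * E (Sum.inl o) (Sum.inl (c o)) 1 *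
        embSp o ((up (1 : F) * wS) * (up (1 : F) * wS))) *
      (embSp o ((up (1 : F) * wS) * (up (1 : F) * wS)) * E (Sum.inl o) (Sum.inl (c o)) 1 *
        embSp o (up (1 : F) * wS)) = embSp (c o) (up (1 : F)) := by
    refine sp_ext fun v => ?_
    simp only [map_mul, sp_mul_mulVec, embSp_mulVec,
      E_mulVec_ne (show (Sum.inl o : l ⊕ l) ≠ Sum.inl (c o) by simp [Ne.symm h1]) (by simp),
      sbil_bv_inl]
    have hn : (-1 : F) = 1 := by linear_combination -h2
    funext m
    rcases m with m | m <;> by_cases k1 : m = o <;> by_cases k2 : m = c o <;>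
      simp [embVec, bv, k1, k2, h1, Ne.symm h1, hn, Matrix.mul_apply, Fin.sum_univ_two]
    all_goals ring_nf
    all_goals simp [show (13 : F) = 1 by linear_combination 6 * h2, show (14 : F) = 0 by linear_combination 7 * h2, show (9 : F) = 1 by linear_combination 4 * h2, show (8 : F) = 0 by linear_combination 4 * h2, show (10 : F) = 0 by linear_combination 5 * h2, show (5 : F) = 1 by linear_combination 2 * h2, show (6 : F) = 0 by linear_combination 3 * h2]
  have hup : embSp o (up 1) ∈ H := by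
    have hgg : embSp o ((up 1 * wS) * (up 1 * wS)) ∈ H := by
      rw [map_mul]; exact mul_mem hg hg
    have hq : embSp (c o) (up 1) ∈ H := by
      rw [← hP]
      exact mul_mem (mul_mem (hS 1) (mul_mem (mul_mem hg (hS 1)) hgg))
        (mul_mem (mul_mem hgg (hS 1)) hg)
    rw [← embSp_conj c o] at hq
    have := mul_mem (mul_mem (inv_mem hp) hq) hp
    simpa [mul_assoc] using this
  have hw : embSp o wS ∈ H := by
    have := mul_mem (inv_mem hup) hg
    rwa [← map_inv, ← map_mul, inv_mul_cancel_left] at this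
  intro h
  have : H.comap (embSp o) = ⊤ := by
    rw [eq_top_iff, ← closure_gens, Subgroup.closure_le]
    rintro _ (⟨t, rfl⟩ | rfl)
    · rcases hall t with rfl | rfl
      · simp only [SetLike.mem_coe, Subgroup.mem_comap, SpR.up_zero, map_one]; exact one_mem _
      · exact hup
    · exact hw
  exact (this.ge (Subgroup.mem_top h) :)

/-- Three elements in the field. -/
theorem top_three (h3 : (3 : F) = 0) (hprime : ∀ t : F, ∃ k : ℕ, (k : F) = t) {c : Perm l} (o : l)
    (h1 : c o ≠ o) (H : Subgroup Sp) (hg : embSp o wS ∈ H) (hp : permSp c ∈ H)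
    (hS : ∀ t, E (Sum.inl o) (Sum.inl (c o)) t ∈ H) : ∀ h, embSp o h ∈ H := by
  let M : SpData l F Sp o (c o) := SpData.ofInjective permSp (embSp o)
    (fun t => E (Sum.inl o) (Sum.inl (c o)) t) (MonoidHom.id _) Function.injective_id (Ne.symm h1)
    (fun _ => rfl) (fun _ => rfl) (fun _ => rfl)
  have hW : permSp (swap o (c o)) * embSp o wS * (permSp (swap o (c o)))⁻¹ ∈ H := by
    rw [embSp_conj, swap_apply_left, ← embSp_conj c o]
    exact mul_mem (mul_mem hp hg) (inv_mem hp)
  have hup : embSp o (up 1) ∈ H := by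
    have e := M.c4 1 1
    change ⁅E (Sum.inl o) (Sum.inl (c o)) (1 : F), _⁆ = embSp o (up _) at e
    rw [show -(2 * 1 * 1 : F) = 1 by linear_combination -h3] at e
    rw [← e, commutatorElement_def]
    have hc := mul_mem (mul_mem hW (hS 1)) (inv_mem hW)
    exact mul_mem (mul_mem (mul_mem (hS 1) hc) (inv_mem (hS 1))) (inv_mem hc)
  intro h
  have : H.comap (embSp o) = ⊤ := by
    rw [eq_top_iff, ← closure_gens, Subgroup.closure_le]
    rintro _ (⟨t, rfl⟩ | rfl)
    · obtain ⟨k, rfl⟩ := hprime t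
      rw [show (k : F) = k • (1 : F) by rw [nsmul_eq_mul, mul_one], ← up_nsmul]
      simp only [SetLike.mem_coe, Subgroup.mem_comap, map_pow]
      exact pow_mem hup k
    · exact hg
  exact (this.ge (Subgroup.mem_top h) :)

set_option maxHeartbeats 1000000 in
/-- Rank two over three elements. -/
theorem two_gen_four (h3 : (3 : F) = 0) (hprime : ∀ t : F, ∃ k : ℕ, (k : F) = t) :
    ∃ a b : Matrix.symplecticGroup (Fin 2) F, Subgroup.closure {a, b} = ⊤ := by
  set X : F → Matrix.symplecticGroup (Fin 2) F := fun t => E (Sum.inl 0) (Sum.inr 1) t with hX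
  set T : Matrix.symplecticGroup (Fin 2) F := permSp (swap 0 1) with hT
  refine ⟨embSp 0 (wS : SL(2, F)) * embSp 1 (up (1 : F)), X 1 * T, ?_⟩
  set H := Subgroup.closure
    ({embSp 0 (wS : SL(2, F)) * embSp 1 (up (1 : F)), X 1 * T} : Set (Matrix.symplecticGroup (Fin 2) F))
  have hb : X 1 * T ∈ H := Subgroup.subset_closure (Set.mem_insert_of_mem _ rfl)
  have w4 : (wS : SL(2, F)) ^ 4 = 1 := by
    rw [show (4 : ℕ) = 2 * 2 from rfl, pow_mul, pow_two wS, wS_sq_eq, pow_two, dg_mul,
      neg_mul_neg, one_mul, dg_one]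
  obtain ⟨hw, hu⟩ := split (embSp_comm (show (0 : Fin 2) ≠ 1 by decide) (wS : SL(2, F)) (up (1 : F)))
    (Subgroup.subset_closure (Set.mem_insert _ _)) (r := 4) (s := 3)
    (by rw [← map_pow, w4, map_one])
    (by rw [← map_pow, up_nsmul, nsmul_one, Nat.cast_ofNat, h3, SpR.up_zero, map_one])
    (by decide)
  have c0 : ∀ g : SL(2, F), T * embSp 0 g * T⁻¹ = embSp 1 g := fun g => by
    rw [hT, embSp_conj, swap_apply_left]
  have c1 : ∀ g : SL(2, F), T * embSp 1 g * T⁻¹ = embSp 0 g := fun g => by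
    rw [hT, embSp_conj, swap_apply_right]
  have hbc : ∀ g : Matrix.symplecticGroup (Fin 2) F, Commute (X 1) (T * g * T⁻¹) →
      (X 1 * T) * g * (X 1 * T)⁻¹ = T * g * T⁻¹ := fun g hg => by
    calc _ = X 1 * (T * g * T⁻¹) * (X 1)⁻¹ := by group
      _ = _ := by rw [hg.eq, mul_inv_cancel_right]
  have hwd : (wS * up 1 * wS⁻¹ : SL(2, F)) = dn (-1) := by
    rw [mul_inv_eq_iff_eq_mul]
    refine Subtype.ext ?_
    rw [sl_coe_mul, sl_coe_mul]
    ext i j; fin_cases i <;> fin_cases j <;> simp [Matrix.mul_apply, Fin.sum_univ_two]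
  have hu0 : embSp 0 (up (1 : F)) ∈ H := by
    rw [← c1, ← hbc]
    · exact mul_mem (mul_mem hb hu) (inv_mem hb)
    · rw [c1, embSp_up]
      exact E_comm (by simp) (by simp) (by simp) (by simp) (by simp) (by simp) _ _
  have gen : ∀ i : Fin 2, embSp i (up (1 : F)) ∈ H → embSp i (dn (-1 : F)) ∈ H →
      ∀ g : SL(2, F), embSp i g ∈ H := fun i h1 h2 g => by
    have : H.comap (embSp i) = ⊤ := sl_top _ (fun t => by
      obtain ⟨k, rfl⟩ := hprime t
      rw [show (k : F) = k • (1 : F) by rw [nsmul_eq_mul, mul_one], ← up_nsmul]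
      simp only [Subgroup.mem_comap, map_pow]
      exact pow_mem h1 k) h2
    exact (this.ge (Subgroup.mem_top g) :)
  have hφ0 : ∀ g : SL(2, F), embSp 0 g ∈ H := gen 0 hu0 (by
    rw [← hwd, map_mul, map_mul, map_inv]; exact mul_mem (mul_mem hw hu0) (inv_mem hw))
  have hd1 : embSp 1 (dn (-1 : F)) ∈ H := by
    rw [← c0, ← hbc]
    · exact mul_mem (mul_mem hb (hφ0 _)) (inv_mem hb)
    · rw [c0, embSp_dn]
      exact E_comm (by simp) (by simp) (by simp) (by simp) (by simp) (by simp) _ _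
  have hφ1 : ∀ g : SL(2, F), embSp 1 g ∈ H := gen 1 hu hd1
  have hXadd : ∀ s t, X s * X t = X (s + t) := fun s t => E_add (by simp) s t
  set S : F → Matrix.symplecticGroup (Fin 2) F := fun t => E (Sum.inl 0) (Sum.inl 1) t with hS
  set W : Matrix.symplecticGroup (Fin 2) F := embSp 1 wS with hW
  have hWS : ∀ t, W * S t * W⁻¹ = X (-t) := fun t => W_a (by decide) t
  have hy : X 1 * S (-1) ∈ H := by
    have e : W * X (-1) * W⁻¹ = S (-1) := by
      rw [← hWS, show W * (W * S 1 * W⁻¹) * W⁻¹ = (W * W) * S 1 * (W * W)⁻¹ by group]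
      simp only [hW, hS, ← map_mul, wS_sq_eq]
      rw [dg_E' (show (0 : Fin 2) ≠ 1 by decide), mul_one, Units.val_neg, Units.val_one]
    have hXi : (X 1)⁻¹ = X (-1) := E_inv (by simp) 1
    rw [← e, ← hXi, show X 1 * (W * (X 1)⁻¹ * W⁻¹) =
      (X 1 * T) * (T⁻¹ * W * T) * (X 1 * T)⁻¹ * W⁻¹ by group]
    refine mul_mem (mul_mem (mul_mem hb ?_) (inv_mem hb)) (inv_mem (hφ1 _))
    rw [hW, ← c0 wS]
    have e2 : T⁻¹ * (T * embSp 0 (wS : SL(2, F)) * T⁻¹) * T = embSp 0 wS := by group
    rw [e2]; exact hφ0 _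
  let M : SpData (Fin 2) F (Matrix.symplecticGroup (Fin 2) F) 0 1 :=
    SpData.ofInjective permSp (embSp 0) S (MonoidHom.id _) Function.injective_id (by decide)
      (fun _ => rfl) (fun _ => rfl) (fun _ => rfl)
  have e5 := M.c5 1 (-1)
  change ⁅T * embSp 0 (dn 1) * T⁻¹, S (-1)⁆ =
    (T * embSp 0 wS * T⁻¹) * S _ * (T * embSp 0 wS * T⁻¹)⁻¹ * embSp 0 (up _) at e5
  rw [c0, c0, ← hW, hWS, commutatorElement_def] at e5
  have hX : X 1 ∈ H := by
    have hd : embSp 1 (dn (1 : F)) ∈ H := hφ1 _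
    have hcd : Commute (embSp 1 (dn (1 : F))) (X 1) := by
      rw [embSp_dn]
      exact E_comm (by simp) (by simp) (by simp) (by simp) (by simp) (by simp) _ _
    have h := mul_mem (mul_mem (mul_mem hd hy) (inv_mem hd)) (inv_mem hy)
    rw [show embSp 1 (dn (1 : F)) * (X 1 * S (-1)) * (embSp 1 (dn (1 : F)))⁻¹ * (X 1 * S (-1))⁻¹ =
        (embSp 1 (dn (1 : F)) * X 1 * (embSp 1 (dn (1 : F)))⁻¹) *
          (embSp 1 (dn (1 : F)) * S (-1) * (embSp 1 (dn (1 : F)))⁻¹ * (S (-1))⁻¹) * (X 1)⁻¹ by group,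
      hcd.eq, mul_inv_cancel_right, e5] at h
    have hcu : Commute (X 1) (embSp 0 (up ((-1 : F) * -1 * 1))) := by
      rw [embSp_up]
      exact E_comm (by simp) (by simp) (by simp) (by simp) (by simp) (by simp) _ _
    rw [← mul_assoc, mul_assoc _ (embSp 0 (up ((-1 : F) * -1 * 1))), hcu.inv_left.symm.eq,
      ← mul_assoc, hXadd, show (1 : F) + -(-(1 * -1)) = 0 by ring] at h
    rw [show X 0 = 1 from (mul_eq_left.1 (by rw [hXadd, add_zero] : X 0 * X 0 = X 0)), one_mul] at h
    have h' := mul_mem h (inv_mem (hφ0 (up ((-1 : F) * -1 * 1))))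
    rw [mul_assoc, mul_inv_cancel, mul_one] at h' <;> first
      | exact inv_mem_iff.1 h'
      | skip
  have hS1 : S (-1) ∈ H := by
    have := mul_mem (inv_mem hX) hy
    rwa [← mul_assoc, inv_mul_cancel, one_mul] at this
  refine top_of (c := swap (0 : Fin 2) 1) (Perm.isCycle_swap (by decide))
    (by decide) 0 H hφ0 ?_ ?_
  · have := mul_mem (inv_mem hX) hb
    rwa [← mul_assoc, inv_mul_cancel, one_mul] at this
  · intro t
    obtain ⟨k, hk⟩ := hprime (-t)
    rw [swap_apply_left, show t = k • (-1 : F) by rw [nsmul_eq_mul, hk]; ring, ← E_pow (by simp) (by simp)]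
    exact pow_mem hS1 k

theorem natCast_surj [Finite F] {q : ℕ} [Fact q.Prime] [CharP F q] (h : Nat.card F = q) (t : F) :
    ∃ k : ℕ, (k : F) = t := by
  have := Fintype.ofFinite F
  have hb : Function.Bijective (ZMod.castHom (dvd_refl q) F) := by
    rw [Fintype.bijective_iff_injective_and_card]
    exact ⟨(ZMod.castHom (dvd_refl q) F).injective, by rw [ZMod.card, ← h, Nat.card_eq_fintype_card]⟩
  obtain ⟨z, rfl⟩ := hb.2 t
  exact ⟨z.val, by rw [← map_natCast (ZMod.castHom (dvd_refl q) F), ZMod.natCast_zmod_val]⟩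

/-- Two generators. -/
theorem two_gen [Fintype F] (m : ℕ) (hm : 2 ≤ m) (h22 : ¬ (m = 2 ∧ Fintype.card F = 2)) :
    ∃ a b : Matrix.symplecticGroup (Fin m) F, Subgroup.closure {a, b} = ⊤ := by
  classical
  obtain ⟨m, rfl⟩ : ∃ k, m = k + 2 := ⟨m - 2, by omega⟩
  have hc : (finRotate (m + 2)).IsCycle := isCycle_finRotate
  have hs : (finRotate (m + 2)).support = ⊤ := by rw [support_finRotate]; rfl
  by_cases h4 : 4 ≤ Fintype.card F
  · obtain ⟨ω, hω⟩ := IsCyclic.exists_monoid_generator (α := Fˣ)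
    have hω' : ∀ x : Fˣ, ∃ i : ℕ, ω ^ i = x := fun x => Submonoid.mem_powers_iff _ _ |>.1 (hω x)
    refine two_gen_big hc hs 0 ω hω' fun e => ?_
    have h1 : orderOf ω = Fintype.card F - 1 := by
      rw [orderOf_eq_card_of_forall_mem_zpowers fun c => by
        obtain ⟨i, rfl⟩ := hω' c
        exact Subgroup.npow_mem_zpowers ω i, Nat.card_units, Nat.card_eq_fintype_card]
    have := Nat.le_of_dvd (by norm_num) (orderOf_dvd_of_pow_eq_one (n := 2) (x := ω)
      (Units.ext (by rw [Units.val_pow_eq_pow_val, pow_two, Units.val_one, e])))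
    omega
  have h23 : Fintype.card F = 2 ∨ Fintype.card F = 3 := by
    have := Fintype.one_lt_card (α := F); omega
  rcases h23 with hq | hq
  · have := charP_of_card_eq_prime (hp := ⟨Nat.prime_two⟩) hq
    have : Fact (Nat.Prime 2) := ⟨Nat.prime_two⟩
    obtain ⟨k, rfl⟩ : ∃ k, m = k + 1 := ⟨m - 1, by omega⟩
    have h2 : (2 : F) = 0 := CharTwo.two_eq_zero
    have hn : (-1 : F) = 1 := by linear_combination -h2
    have hnat := natCast_surj (q := 2) (F := F) (by rw [Nat.card_eq_fintype_card, hq])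
    have hall : ∀ t : F, t = 0 ∨ t = 1 := fun t => by
      obtain ⟨z, rfl⟩ := hnat t
      rcases Nat.even_or_odd' z with ⟨j, rfl | rfl⟩ <;> simp [h2]
    have e3 : ((up (1 : F) * wS : SL(2, F))) ^ 3 = 1 := by
      refine Subtype.ext ?_
      rw [pow_succ, pow_two, sl_coe_mul, sl_coe_mul, sl_coe_mul]
      ext i j; fin_cases i <;> fin_cases j <;> simp [Matrix.mul_apply, Fin.sum_univ_two, hn]
      all_goals linear_combination (norm := ring_nf) h2
    refine two_gen_prime hc hs 0 ?_ ?_ hnat (r := 3) (s := 2) (by exact_mod_cast h2) (by decide)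
      _ e3 fun H a b c => top_two h2 hall 0 ?_ H a b c
    all_goals simp [finRotate_apply, Fin.ext_iff, Fin.val_add, Nat.mod_eq_of_lt]
  · have := charP_of_card_eq_prime (hp := ⟨Nat.prime_three⟩) hq
    have : Fact (Nat.Prime 3) := ⟨Nat.prime_three⟩
    have h3 : (3 : F) = 0 := by exact_mod_cast CharP.cast_eq_zero F 3
    have hnat := natCast_surj (q := 3) (F := F) (by rw [Nat.card_eq_fintype_card, hq])
    rcases Nat.eq_zero_or_pos m with rfl | hm0
    · exact two_gen_four h3 hnat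
    obtain ⟨k, rfl⟩ : ∃ k, m = k + 1 := ⟨m - 1, by omega⟩
    refine two_gen_prime hc hs 0 ?_ ?_ hnat (r := 4) (s := 3) (by exact_mod_cast h3) (by decide)
      (wS : SL(2, F)) ?_ fun H a b c => top_three h3 hnat 0 ?_ H a b c
    · simp [finRotate_apply, Fin.ext_iff, Fin.val_add, Nat.mod_eq_of_lt]
    · simp [finRotate_apply, Fin.ext_iff, Fin.val_add, Nat.mod_eq_of_lt]
    · rw [show (4 : ℕ) = 2 * 2 from rfl, pow_mul, pow_two wS, wS_sq_eq, pow_two, dg_mul,
        neg_mul_neg, one_mul, dg_one]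
    · simp [finRotate_apply, Fin.ext_iff, Fin.val_add, Nat.mod_eq_of_lt]

end CfsgLib.Pres.SpTwo
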