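import Cfsg.Agent.S2530

/-!
The symmetric group is presented by the transpositions through one point.
-/

set_option autoImplicit false

namespace CfsgLib.Pres.Star

open Equiv

variable {X : Type*} [Group X]

/-- Relations of the transpositions through one point. -/
structure StarRel {α : Type*} (z : α → X) : Prop where
  sq : ∀ a, z a * z a = 1
  braid : ∀ {a b}, a ≠ b → (z a * z b) ^ 3 = 1
  comm : ∀ {a b c}, a ≠ b → a ≠ c → b ≠ c → (z a * z b * z a * z c) ^ 2 = 1

variable {α : Type*} {z : α → X}

theorem StarRel.inv (h : StarRel z) (a : α) : (z a)⁻¹ = z a := inv_eq_of_mul_eq_one_left (h.sq a)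

theorem StarRel.can (h : StarRel z) (a : α) (x : X) : z a * (z a * x) = x := by
  rw [← mul_assoc, h.sq, one_mul]

theorem StarRel.flip (h : StarRel z) {a b : α} (hab : a ≠ b) :
    z a * z b * z a = z b * z a * z b := by
  have := h.braid hab
  rw [pow_succ, pow_two] at this
  calc z a * z b * z a = (z a * z b * (z a * z b) * (z a * z b)) * (z b * z a * z b) := by
        simp only [mul_assoc, h.can, h.sq, mul_one]
    _ = z b * z a * z b := by rw [this, one_mul]

theorem StarRel.commute (h : StarRel z) {a b c : α} (hab : a ≠ b) (hac : a ≠ c) (hbc : b ≠ c) :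
    Commute (z a * z b * z a) (z c) := by
  have := h.comm hab hac hbc
  rw [pow_two] at this
  calc z a * z b * z a * z c
      = (z a * z b * z a * z c * (z a * z b * z a * z c)) * (z c * (z a * z b * z a)) := by
        simp only [mul_assoc, h.can, h.sq, mul_one]
    _ = z c * (z a * z b * z a) := by rw [this, one_mul]

theorem sq_of_commute {x y : X} (hx : x * x = 1) (hy : y * y = 1) (hc : Commute x y) :
    (x * y) ^ 2 = 1 := by rw [hc.mul_pow, pow_two, pow_two, hx, hy, one_mul]

/-- The images of the adjacent transpositions. -/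
def adj {n : ℕ} (z : Fin n → X) (i : Fin n) : X :=
  if h : (i : ℕ) = 0 then z i
  else z ⟨i - 1, by omega⟩ * z i * z ⟨i - 1, by omega⟩

variable {n : ℕ} {z : Fin n → X}

theorem adj_sq (h : StarRel z) (i : Fin n) : adj z i * adj z i = 1 := by
  unfold adj
  split_ifs
  · exact h.sq _
  · simp only [mul_assoc, h.can, h.sq]

theorem adj_braid (h : StarRel z) {i j : Fin n} (hij : (i : ℕ) + 1 = j) :
    (adj z i * adj z j) ^ 3 = 1 := by
  obtain ⟨b, hb⟩ : ∃ b : Fin n, (⟨(j : ℕ) - 1, by omega⟩ : Fin n) = b := ⟨_, rfl⟩
  obtain rfl : b = i := by subst hb; exact Fin.ext (by simp; omega)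
  have hbj : b ≠ j := fun e => by rw [e] at hij; omega
  unfold adj
  rw [dif_neg (show ¬ (j : ℕ) = 0 by omega), hb]
  split_ifs with hb0
  · rw [← mul_assoc, ← mul_assoc, h.sq, one_mul]
    exact h.braid hbj.symm
  · set a : Fin n := ⟨(b : ℕ) - 1, by omega⟩
    have hab : a ≠ b := fun e => by have := congrArg Fin.val e; simp [a] at this; omega
    have haj : a ≠ j := fun e => by have := congrArg Fin.val e; simp [a] at this; omega
    have e : z a * z b * z a * (z b * z j * z b) = z b * (z a * z j) * (z b)⁻¹ := by
      rw [h.flip hab, h.inv]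
      simp only [mul_assoc, h.can]
    rw [e, conj_pow, h.braid haj, mul_one, mul_inv_cancel]

theorem adj_commute (h : StarRel z) {i j : Fin n} (hij : (i : ℕ) + 1 < j) :
    Commute (adj z i) (adj z j) := by
  have hj : ¬ (j : ℕ) = 0 := by omega
  set c : Fin n := ⟨(j : ℕ) - 1, by omega⟩ with hcdef
  have hcj : c ≠ j := fun e => by have := congrArg Fin.val e; simp [c] at this; omega
  have hic : i ≠ c := fun e => by have := congrArg Fin.val e; simp [c] at this; omega
  have hij' : i ≠ j := fun e => by rw [e] at hij; omega
  rw [show adj z j = z c * z j * z c by rw [adj, dif_neg hj]]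
  unfold adj
  split_ifs with hi0
  · exact (h.commute hcj hic.symm hij'.symm).symm
  · set a : Fin n := ⟨(i : ℕ) - 1, by omega⟩
    have hai : a ≠ i := fun e => by have := congrArg Fin.val e; simp [a] at this; omega
    have hac : a ≠ c := fun e => by have := congrArg Fin.val e; simp [a, c] at this; omega
    have haj : a ≠ j := fun e => by have := congrArg Fin.val e; simp [a] at this; omega
    exact ((h.commute hai hac hic).mul_right (h.commute hai haj hij')).mul_right
      (h.commute hai hac hic)

theorem adj_order (h : StarRel z) (i j : Fin n) :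
    (adj z i * adj z j) ^ CoxeterMatrix.A n i j = 1 := by
  change (adj z i * adj z j) ^ (if i = j then 1 else
    if (j : ℕ) + 1 = i ∨ (i : ℕ) + 1 = j then 3 else 2) = 1
  split_ifs with e e'
  · subst e; rw [pow_one, adj_sq h]
  · rcases e' with e' | e'
    · have := adj_braid h e'
      rw [← inv_eq_one, ← inv_pow, mul_inv_rev, inv_eq_of_mul_eq_one_left (adj_sq h i),
        inv_eq_of_mul_eq_one_left (adj_sq h j)] at this
      exact this
    · exact adj_braid h e'
  · refine sq_of_commute (adj_sq h i) (adj_sq h j) ?_
    rcases Nat.lt_or_gt_of_ne (show (i : ℕ) ≠ j from fun e' => e (Fin.ext e')) with hlt | hgt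
    · exact adj_commute h (by omega)
    · exact (adj_commute h (by omega)).symm

theorem exists_hom_fin (h : StarRel z) :
    ∃ φ : Perm (Fin (n + 1)) →* X, ∀ i : Fin n, φ (swap 0 i.succ) = z i := by
  obtain ⟨cs, hcs⟩ := Cfsg.Agent.S2530.result n
  set φ := cs.lift ⟨adj z, adj_order h⟩
  have hφ : ∀ i : Fin n, φ (swap i.castSucc i.succ) = adj z i := fun i => by
    rw [← hcs]; exact cs.lift_apply_simple _ i
  refine ⟨φ, fun ⟨i, hi⟩ => ?_⟩
  induction i with
  | zero =>
    have := hφ ⟨0, hi⟩
    rwa [adj, dif_pos rfl] at this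
  | succ k ih =>
    have ih := ih (by omega)
    set a : Fin n := ⟨k, by omega⟩
    set b : Fin n := ⟨k + 1, hi⟩
    have hab : a ≠ b := fun e => by have := congrArg Fin.val e; simp [a, b] at this
    have hba : b.castSucc = a.succ := Fin.ext (by simp [a, b])
    have e : swap (0 : Fin (n + 1)) b.succ =
        swap b.castSucc b.succ * swap 0 a.succ * swap b.castSucc b.succ := by
      have := swap_apply_apply (swap b.castSucc b.succ) 0 a.succ
      rw [swap_inv, ← hba, swap_apply_left, swap_apply_of_ne_of_ne] at this
      · rw [← hba]; exact this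
      · exact fun e => by have := congrArg Fin.val e; simp [b] at this
      · exact fun e => by have := congrArg Fin.val e; simp [b] at this
    rw [e, map_mul, map_mul, hφ, ih, show adj z b = z a * z b * z a by
      rw [adj, dif_neg (by simp [b])]; rfl]
    simp only [mul_assoc, h.can, h.sq, mul_one]
    rw [← mul_assoc, ← mul_assoc, ← mul_assoc, mul_assoc (z a), mul_assoc (z a),
      ← h.flip hab, ← mul_assoc, ← mul_assoc, h.sq, one_mul, mul_assoc, h.sq, mul_one]

/-- The universal property. -/
theorem exists_hom {α : Type*} [Fintype α] [DecidableEq α] {z : α → X} (h : StarRel z) :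
    ∃ φ : Perm (Option α) →* X, ∀ a : α, φ (swap none (some a)) = z a := by
  set n := Fintype.card α
  set e := Fintype.equivFin α
  obtain ⟨φ, hφ⟩ := exists_hom_fin (z := fun i => z (e.symm i))
    ⟨fun i => h.sq _, fun hab => h.braid (e.symm.injective.ne hab),
      fun hab hac hbc => h.comm (e.symm.injective.ne hab) (e.symm.injective.ne hac)
        (e.symm.injective.ne hbc)⟩
  let E : Option α ≃ Fin (n + 1) := (Equiv.optionCongr e).trans (finSuccEquiv n).symm
  refine ⟨φ.comp E.permCongrHom.toMonoidHom, fun a => ?_⟩
  have : E.permCongrHom (swap none (some a)) = swap (0 : Fin (n + 1)) (e a).succ := by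
    show E.permCongr (swap none (some a)) = _
    rw [Equiv.permCongr_def, Equiv.symm_trans_swap_trans]
    simp [E]
  show φ (E.permCongrHom (swap none (some a))) = z a
  rw [this, hφ, e.symm_apply_apply]

end CfsgLib.Pres.Star
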