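import Cfsg.Agent.Lib.Pres.OnGens
import Cfsg.Agent.Lib.Pres.Basic
import Cfsg.Agent.Lib.Pres.Star

/-!
A presentation with fifteen relations of the symmetric group on `p + 2` letters, `p` an odd prime.
The transpositions through one letter are indexed by the projective line over `ZMod p`.
-/

set_option autoImplicit false

namespace CfsgLib.Pres.SymStar

open Equiv

variable {p : ℕ} [Fact p.Prime]

/-- The projective line. -/
abbrev Pt (p : ℕ) := Option (ZMod p)

/-- Translation by one. -/
def pu (p : ℕ) : Perm (Pt p) := optionCongr (Equiv.addRight 1)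

/-- A dilatation. -/
def ph {p : ℕ} [Fact p.Prime] (k : (ZMod p)ˣ) : Perm (Pt p) := optionCongr (Units.mulLeft k)

/-- The inversion as a map. -/
def winv (p : ℕ) [Fact p.Prime] : Pt p → Pt p
  | none => some 0
  | some a => if a = 0 then none else some (-a⁻¹)

/-- The inversion. -/
def pw (p : ℕ) [Fact p.Prime] : Perm (Pt p) :=
  Function.Involutive.toPerm (winv p) fun x => by
    rcases x with _ | a
    · simp [winv]
    · by_cases ha : a = 0
      · simp [winv, ha]
      · simp [winv, ha, inv_neg]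

theorem pw_none : pw p none = some 0 := rfl

theorem pw_zero : pw p (some 0) = none := by
  show winv p (some 0) = none
  simp [winv]

theorem pw_some {a : ZMod p} (ha : a ≠ 0) : pw p (some a) = some (-a⁻¹) := by
  show winv p (some a) = _
  simp [winv, ha]

theorem pw_sq : pw p * pw p = 1 := Equiv.ext fun x => (pw p).left_inv x

/-- Inverse of the inversion. -/
theorem pw_inv : (pw p)⁻¹ = pw p := inv_eq_of_mul_eq_one_left pw_sq

/-- A permutation of the points, fixing the extra letter. -/
def op : Perm (Pt p) →* Perm (Option (Pt p)) where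
  toFun π := optionCongr π
  map_one' := by simp
  map_mul' π ρ := by
    ext (_ | x) <;> simp

theorem op_some (π : Perm (Pt p)) (a : Pt p) : op π (some a) = some (π a) := rfl

theorem op_none (π : Perm (Pt p)) : op π none = none := rfl

/-- The star transpositions. -/
def st (a : Pt p) : Perm (Option (Pt p)) := swap none (some a)

theorem op_st (π : Perm (Pt p)) (a : Pt p) : op π * st a * (op π)⁻¹ = st (π a) := by
  rw [st, st, ← swap_apply_apply, op_none, op_some]

theorem closure_st : Subgroup.closure (Set.range (st (p := p))) = ⊤ := by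
  rw [eq_top_iff, ← Perm.closure_isSwap, Subgroup.closure_le]
  have hm : ∀ a, st a ∈ Subgroup.closure (Set.range (st (p := p))) := fun a =>
    Subgroup.subset_closure ⟨a, rfl⟩
  rintro _ ⟨x, y, hxy, rfl⟩
  rcases x with _ | a <;> rcases y with _ | b
  · exact absurd rfl hxy
  · exact hm b
  · rw [swap_comm]; exact hm a
  · have hab : a ≠ b := fun e => hxy (by rw [e])
    have : swap (some a) (some b) = st a * st b * st a := by
      have := swap_apply_apply (st a) none (some b)
      rw [st, swap_apply_left, swap_apply_of_ne_of_ne (by simp)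
        (by simpa using hab.symm), swap_inv] at this
      exact this
    rw [this]
    exact mul_mem (mul_mem (hm a) (hm b)) (hm a)

theorem pow_three_swap {α : Type*} [DecidableEq α] {a b c : α} (hab : a ≠ b) (hbc : b ≠ c)
    (hac : a ≠ c) : (swap a b * swap b c) ^ 3 = 1 := by
  ext z
  simp only [pow_succ, pow_zero, one_mul, Perm.mul_apply, Perm.one_apply]
  by_cases za : z = a <;> by_cases zb : z = b <;> by_cases zc : z = c <;>
    simp [swap_apply_def, *] <;> grind

/-- The generators as words. -/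
abbrev U : FreeGroup (Fin 4) := FreeGroup.of 0
/-- The generators as words. -/
abbrev H : FreeGroup (Fin 4) := FreeGroup.of 1
/-- The generators as words. -/
abbrev W : FreeGroup (Fin 4) := FreeGroup.of 2
/-- The generators as words. -/
abbrev Z : FreeGroup (Fin 4) := FreeGroup.of 3

/-- The transpositions as words. -/
def zw : Pt p → FreeGroup (Fin 4)
  | none => Z
  | some a => U ^ a.val * (W * Z * W⁻¹) * (U ^ a.val)⁻¹

/-- The values of the generators. -/
def gens (k : (ZMod p)ˣ) : Fin 4 → Perm (Option (Pt p)) :=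
  ![op (pu p), op (ph k), op (pw p), st none]

theorem pu_pow (n : ℕ) : pu p ^ n = optionCongr (Equiv.addRight (n : ZMod p)) := by
  induction n with
  | zero => ext (_ | a) <;> simp
  | succ n ih =>
    rw [pow_succ, ih]
    refine Equiv.ext fun x => ?_
    rcases x with _ | a
    · simp [pu]
    · simp [pu]
      ring

theorem lift_gens_zw (k : (ZMod p)ˣ) (a : Pt p) : FreeGroup.lift (gens k) (zw a) = st a := by
  rcases a with _ | a
  · simp [zw, gens]
  · simp only [zw, map_mul, map_inv, map_pow, FreeGroup.lift_apply_of]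
    rw [show gens k 0 = op (pu p) from rfl, show gens k 2 = op (pw p) from rfl,
      show gens k 3 = st none from rfl, op_st, pw_none, ← map_pow, op_st, pu_pow]
    simp

theorem eq_pow_val {X : Type*} [Group X] {U' : X} (hU : U' ^ p = 1) (n : ℕ) :
    U' ^ n = U' ^ (n : ZMod p).val := by
  rw [ZMod.val_natCast, ← pow_mod_orderOf]
  conv_rhs => rw [← pow_mod_orderOf, Nat.mod_mod_of_dvd _ (orderOf_dvd_of_pow_eq_one hU)]

/-- The permutations of the points realised by conjugation. -/
def mvGroup {X : Type*} [Group X] (z : Pt p → X) : Subgroup (Perm (Pt p)) where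
  carrier := {π | ∃ y : X, ∀ a, y * z a * y⁻¹ = z (π a)}
  one_mem' := ⟨1, fun a => by simp⟩
  mul_mem' := by
    rintro π ρ ⟨y, hy⟩ ⟨y', hy'⟩
    refine ⟨y * y', fun a => ?_⟩
    rw [Perm.mul_apply, ← hy, ← hy']
    group
  inv_mem' := by
    rintro π ⟨y, hy⟩
    refine ⟨y⁻¹, fun a => ?_⟩
    have := hy (π⁻¹ a)
    rw [show π (π⁻¹ a) = a from π.apply_symm_apply a] at this
    rw [← this]
    group

theorem exists_gen : ∃ g : (ZMod p)ˣ, ∀ k : ZMod p, k ≠ 0 → ∃ i : ℕ, k = (g : ZMod p) ^ i := by
  obtain ⟨g, hg⟩ := IsCyclic.exists_generator (α := (ZMod p)ˣ)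
  refine ⟨g, fun k hk => ?_⟩
  obtain ⟨i, hi⟩ := (Submonoid.mem_powers_iff _ _).1
    (mem_powers_iff_mem_zpowers.2 (hg (Units.mk0 k hk)))
  exact ⟨i, by rw [← Units.val_pow_eq_pow_val, hi, Units.val_mk0]⟩

/-- The relation between the translations and the inversion. -/
theorem conj_translate (D : Perm (Pt p)) (c : ZMod p) (hc : c ≠ 0) {e : ZMod p} (he : -c⁻¹ = e)
    (hD : ∀ y : Pt p, D y = y.map fun b => (c * c)⁻¹ * b) :
    pw p * optionCongr (Equiv.addRight c) * (pw p)⁻¹ =
      optionCongr (Equiv.addRight e) * D * pw p * optionCongr (Equiv.addRight e) := by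
  subst he
  have tr : ∀ (d : ZMod p) (a : ZMod p),
      optionCongr (Equiv.addRight d) (some a : Pt p) = some (a + d) := fun _ _ => rfl
  have trn : ∀ d : ZMod p, optionCongr (Equiv.addRight d) (none : Pt p) = none := fun _ => rfl
  have dn : D none = none := hD none
  have ds : ∀ b, D (some b) = some ((c * c)⁻¹ * b) := fun b => hD (some b)
  refine Equiv.ext fun y => ?_
  simp only [pw_inv, Perm.mul_apply]
  rcases y with _ | a
  · rw [pw_none, tr, zero_add, pw_some hc, trn, pw_none, ds, mul_zero, tr, zero_add]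
  by_cases ha : a = 0
  · subst ha
    rw [pw_zero, trn, pw_none, tr, zero_add, pw_some (neg_ne_zero.2 (inv_ne_zero hc)), ds, tr]
    congr 1
    field_simp
    ring
  rw [pw_some ha, tr, tr]
  by_cases h1 : a + -c⁻¹ = 0
  · rw [h1, pw_zero, dn, trn, show -a⁻¹ + c = 0 by
      rw [show a = c⁻¹ by linear_combination h1, inv_inv]; ring, pw_zero]
  · have h2 : -a⁻¹ + c ≠ 0 := fun e => h1 (by field_simp at e ⊢; linear_combination e)
    rw [pw_some h2, pw_some h1, ds, tr]
    have hd : -1 + a * c ≠ 0 := fun e => h1 (by field_simp; linear_combination e)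
    congr 1
    field_simp
    grind

/-- Moving a triple to a standard one. -/
theorem exists_move {T : Subgroup (Perm (Pt p))} {g : (ZMod p)ˣ} (hu : pu p ∈ T)
    (hh : ph (g * g) ∈ T) (hw : pw p ∈ T)
    (hg : ∀ k : ZMod p, k ≠ 0 → ∃ i : ℕ, k = (g : ZMod p) ^ i)
    {a b c : Pt p} (hab : a ≠ b) (hac : a ≠ c) (hbc : b ≠ c) :
    ∃ π ∈ T, π none = a ∧ π (some 0) = b ∧ (π (some 1) = c ∨ π (some (g : ZMod p)) = c) := by
  suffices ∃ π ∈ T, π a = none ∧ π b = some 0 ∧
      (π c = some 1 ∨ π c = some (g : ZMod p)) by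
    obtain ⟨π, hπ, e1, e2, e3⟩ := this
    refine ⟨π⁻¹, inv_mem hπ, Perm.inv_eq_iff_eq.2 e1.symm, Perm.inv_eq_iff_eq.2 e2.symm, ?_⟩
    exact e3.imp (fun e => Perm.inv_eq_iff_eq.2 e.symm) fun e => Perm.inv_eq_iff_eq.2 e.symm
  have step1 : ∃ π ∈ T, π a = none := by
    rcases a with _ | i
    · exact ⟨1, one_mem _, rfl⟩
    · refine ⟨pw p * pu p ^ (-i).val, mul_mem hw (pow_mem hu _), ?_⟩
      rw [Perm.mul_apply, pu_pow]
      simp [pw_zero]
  obtain ⟨π₁, hπ₁, ha⟩ := step1
  obtain ⟨j, hj⟩ : ∃ j, π₁ b = some j := Option.ne_none_iff_exists'.1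
    (ha ▸ π₁.injective.ne hab.symm)
  set π₂ := pu p ^ (-j).val * π₁
  have ha2 : π₂ a = none := by simp [π₂, pu_pow, ha]
  have hb2 : π₂ b = some 0 := by simp [π₂, pu_pow, hj]
  obtain ⟨k, hk⟩ : ∃ k, π₂ c = some k := Option.ne_none_iff_exists'.1
    (ha2 ▸ π₂.injective.ne hac.symm)
  have hk0 : k ≠ 0 := fun e => π₂.injective.ne hbc.symm (by rw [hk, hb2, e])
  obtain ⟨i, hi⟩ := hg k hk0
  refine ⟨(ph (g * g))⁻¹ ^ (i / 2) * π₂, mul_mem (pow_mem (inv_mem hh) _) (mul_mem (pow_mem hu _) hπ₁),
    ?_, ?_, ?_⟩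
  all_goals
    have hpow : ∀ (n : ℕ) (x : Pt p), ((ph (g * g))⁻¹ ^ n) x =
        x.map fun y => ((g : ZMod p) ^ (2 * n))⁻¹ * y := by
      intro n
      induction n with
      | zero => intro x; cases x <;> simp
      | succ n ih =>
        intro x
        rw [pow_succ', Perm.mul_apply, ih]
        rcases x with _ | y
        · rfl
        · refine Perm.inv_eq_iff_eq.2 ?_
          simp only [Option.map_some, ph, optionCongr_apply, Units.mulLeft_apply, Units.val_mul]
          congr 1
          field_simp [g.ne_zero]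
          ring
    rw [Perm.mul_apply, hpow]
  · rw [ha2]; rfl
  · rw [hb2]; simp
  · rw [hk]
    simp only [Option.map_some, Option.some.injEq, hi]
    rcases Nat.mod_two_eq_zero_or_one i with e | e
    · left
      rw [show 2 * (i / 2) = i by omega, inv_mul_cancel₀ (pow_ne_zero _ g.ne_zero)]
    · right
      conv_lhs => rw [show i = 2 * (i / 2) + 1 by omega, pow_succ]
      rw [show 2 * ((2 * (i / 2) + 1) / 2) = 2 * (i / 2) by omega, ← mul_assoc,
        inv_mul_cancel₀ (pow_ne_zero _ g.ne_zero), one_mul]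

theorem conj_braid {X : Type*} [Group X] (y a b : X) :
    (y * a * y⁻¹ * (y * b * y⁻¹)) ^ 3 = y * (a * b) ^ 3 * y⁻¹ := by
  rw [← conj_pow]; group

theorem conj_comm {X : Type*} [Group X] (y a b c : X) :
    (y * a * y⁻¹ * (y * b * y⁻¹) * (y * a * y⁻¹) * (y * c * y⁻¹)) ^ 2 =
      y * (a * b * a * c) ^ 2 * y⁻¹ := by
  rw [← conj_pow]; group

set_option maxHeartbeats 1000000 in
/-- The symmetric group on `p + 2` letters. -/
theorem presData_perm (hp2 : p ≠ 2) : ∃ (f : Fin 4 → Perm (Option (Pt p))) (L : List (FreeGroup (Fin 4))),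
    L.length ≤ 15 ∧ PresData f L := by
  obtain ⟨g, hg⟩ := exists_gen (p := p)
  choose wd hwd using fun π : Perm (Option (Pt p)) => exists_word closure_st π
  let k := g * g
  let sub : FreeGroup (Pt p) →* FreeGroup (Fin 4) := FreeGroup.lift zw
  have hsub : ∀ u, FreeGroup.lift (gens k) (sub u) = FreeGroup.lift st u := fun u =>
    DFunLike.congr_fun (FreeGroup.ext_hom ((FreeGroup.lift (gens k)).comp sub) (FreeGroup.lift st)
      fun a => by simp [sub, lift_gens_zw]) u
  let L : List (FreeGroup (Fin 4)) :=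
    [U ^ p, H * U * H⁻¹ * (U ^ (k : ZMod p).val)⁻¹, W * H * W⁻¹ * H, W * W * Z * (W * W)⁻¹ * Z⁻¹,
      U * Z * U⁻¹ * Z⁻¹, H * Z * H⁻¹ * Z⁻¹,
      W * U * W⁻¹ * (U ^ (-1 : ZMod p).val * W * U ^ (-1 : ZMod p).val)⁻¹,
      W * U ^ (g : ZMod p).val * W⁻¹ *
        (U ^ (-(g : ZMod p)⁻¹).val * H⁻¹ * W * U ^ (-(g : ZMod p)⁻¹).val)⁻¹,
      Z * Z, (Z * zw (some (0 : ZMod p))) ^ 3,
      (Z * zw (some (0 : ZMod p)) * Z * zw (some (1 : ZMod p))) ^ 2,
      (Z * zw (some (0 : ZMod p)) * Z * zw (some (g : ZMod p))) ^ 2,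
      U * (sub (wd (op (pu p))))⁻¹, H * (sub (wd (op (ph k))))⁻¹, W * (sub (wd (op (pw p))))⁻¹]
  refine ⟨gens k, L, le_refl 15, ?_, ?_, fun X _ x hx _ => ?_⟩
  · have huc : ∀ n : ℕ, FreeGroup.lift (gens k) (U ^ n) = op (pu p ^ n) := fun n => by
      rw [map_pow, FreeGroup.lift_apply_of, map_pow]; rfl
    have hv : ∀ b : ZMod p, pu p ^ b.val = optionCongr (Equiv.addRight b) := fun b => by
      rw [pu_pow, ZMod.natCast_zmod_val]
    simp only [L, List.forall_mem_cons, List.not_mem_nil, IsEmpty.forall_iff, implies_true, and_true,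
      map_mul, map_inv, lift_gens_zw, hsub, hwd, huc, map_pow, FreeGroup.lift_apply_of,
      show gens k 0 = op (pu p) from rfl, show gens k 1 = op (ph k) from rfl,
      show gens k 2 = op (pw p) from rfl, show gens k 3 = st none from rfl]
    have hne : ∀ {c : ZMod p}, c ≠ 0 → (some c : Pt p) ≠ some 0 := fun hc e =>
      hc (Option.some.inj e)
    have hcomm : ∀ {a b c : Pt p}, a ≠ b → a ≠ c → b ≠ c →
        (st a * st b * st a * st c) ^ 2 = 1 := by
      intro a b c hab hac hbc
      have e : st a * st b * st a = swap (some a) (some b) := by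
        have := swap_apply_apply (st a) none (some b)
        rw [st, swap_apply_left, swap_apply_of_ne_of_ne (by simp) (by simpa using hab.symm),
          swap_inv] at this
        exact this.symm
      rw [e, st]
      have hd : Perm.Disjoint (swap (some a) (some b)) (swap none (some c)) := by
        rw [Perm.disjoint_iff_disjoint_support, Perm.support_swap (by simpa using hab),
          Perm.support_swap (by simp)]
        simp [hac.symm, hbc.symm]
      exact Star.sq_of_commute (swap_mul_self _ _) (swap_mul_self _ _) hd.commute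
    refine ⟨?_, ?_, ?_, ?_, ?_, ?_, ?_, ?_, ?_, ?_, ?_, ?_, ?_, ?_, ?_⟩
    · rw [← map_pow, show pu p ^ p = 1 by rw [pu_pow, ZMod.natCast_self]; ext (_ | a) <;> simp,
        map_one]
    · rw [mul_inv_eq_one, ← map_pow, hv, ← map_inv, ← map_mul, ← map_mul]
      congr 1
      rw [mul_inv_eq_iff_eq_mul]
      ext (_ | a) <;> simp [ph, pu, Perm.mul_apply, mul_add]
    · simp only [← map_mul op, ← map_inv op]
      rw [← map_one op]
      congr 1
      refine Equiv.ext fun y => ?_
      simp only [pw_inv, Perm.mul_apply, Perm.one_apply]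
      rcases y with _ | a
      · rw [show ph k (none : Pt p) = none from rfl, pw_none,
          show ph k (some (0 : ZMod p)) = some ((k : ZMod p) * 0) from rfl, mul_zero, pw_zero]
      · rw [show ph k (some a) = some ((k : ZMod p) * a) from rfl]
        by_cases ha : a = 0
        · subst ha
          rw [mul_zero, pw_zero, show ph k (none : Pt p) = none from rfl, pw_none]
        · rw [pw_some (mul_ne_zero k.ne_zero ha),
            show ∀ b, ph k (some b) = some ((k : ZMod p) * b) from fun _ => rfl,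
            pw_some (mul_ne_zero k.ne_zero (neg_ne_zero.2 (inv_ne_zero
              (mul_ne_zero k.ne_zero ha))))]
          congr 1
          field_simp
    · rw [← map_mul, pw_sq, map_one, inv_one, one_mul, mul_one, mul_inv_cancel]
    · rw [mul_inv_eq_one, op_st]; rfl
    · rw [mul_inv_eq_one, op_st]; rfl
    · rw [mul_inv_eq_one]
      simp only [← map_pow op, ← map_mul op, ← map_inv op]
      congr 1
      rw [hv, show pu p = optionCongr (Equiv.addRight (1 : ZMod p)) from rfl]
      have := conj_translate (p := p) 1 1 one_ne_zero (e := -1) (by rw [inv_one]) fun y => by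
        cases y <;> simp
      rwa [mul_one] at this
    · rw [mul_inv_eq_one]
      simp only [← map_pow op, ← map_mul op, ← map_inv op, hv]
      congr 1
      exact conj_translate _ _ g.ne_zero rfl fun y => by
        rw [Perm.inv_eq_iff_eq]
        rcases y with _ | b
        · rfl
        · show some b = some (((k : (ZMod p)ˣ) : ZMod p) * (((g : ZMod p) * g)⁻¹ * b))
          congr 1
          simp only [k, Units.val_mul]
          field_simp
    · exact swap_mul_self _ _
    · rw [st, st, swap_comm none (some (none : Pt p))]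
      exact pow_three_swap (by simp) (by simp) (by simp)
    · exact hcomm (by simp) (by simp) (hne one_ne_zero).symm
    · exact hcomm (by simp) (by simp) (hne g.ne_zero).symm
    · exact mul_inv_cancel _
    · exact mul_inv_cancel _
    · exact mul_inv_cancel _
  · refine eq_top_iff.2 (closure_st (p := p) ▸ (Subgroup.closure_le _).2 ?_)
    rintro _ ⟨a, rfl⟩
    rw [← lift_gens_zw k a, ← FreeGroup.range_lift_eq_closure]
    exact ⟨zw a, rfl⟩
  · set z : Pt p → X := fun a => FreeGroup.lift x (zw a)
    simp only [L, List.forall_mem_cons, List.not_mem_nil, IsEmpty.forall_iff, implies_true, and_true,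
      map_mul, map_inv, map_pow, FreeGroup.lift_apply_of] at hx
    obtain ⟨hUp, hHU, hWH, hW2, hUZ, hHZ, hn1, hng, hZ, hbr, hc1, hcg, hwu, hwh, hww⟩ := hx
    rw [mul_inv_eq_one] at hHU hW2 hUZ hHZ hn1 hng hwu hwh hww
    have Zc : ∀ {y : X}, y * x 3 * y⁻¹ = x 3 → ∀ n : ℕ, y ^ n * x 3 * (y ^ n)⁻¹ = x 3 :=
      fun {y} hy n => by
        induction n with
        | zero => simp
        | succ n ih =>
          calc y ^ (n + 1) * x 3 * (y ^ (n + 1))⁻¹ = y * (y ^ n * x 3 * (y ^ n)⁻¹) * y⁻¹ := by
                group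
            _ = x 3 := by rw [ih, hy]
    let Up : ZMod p → X := fun a => x 0 ^ a.val
    have hUadd : ∀ a b, Up a * Up b = Up (a + b) := fun a b => by
      simp only [Up]
      rw [← pow_add, eq_pow_val hUp, Nat.cast_add, ZMod.natCast_zmod_val, ZMod.natCast_zmod_val]
    have hUnat : ∀ n : ℕ, x 0 ^ n = Up n := fun n => eq_pow_val hUp n
    have hzN : z none = x 3 := by simp [z, zw]
    have hzS : ∀ a : ZMod p, z (some a) = Up a * (x 2 * x 3 * (x 2)⁻¹) * (Up a)⁻¹ := fun a => by
      simp [z, zw, Up]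
    have hHUp : ∀ a, x 1 * Up a * (x 1)⁻¹ = Up ((k : ZMod p) * a) := fun a => by
      simp only [Up]
      rw [← conj_pow, hHU, ← pow_mul, hUnat, Nat.cast_mul, ZMod.natCast_zmod_val,
        ZMod.natCast_zmod_val]
    have hWH' : x 2 * x 1 * (x 2)⁻¹ = (x 1)⁻¹ := eq_inv_of_mul_eq_one_left hWH
    have hH0 : x 1 * (x 2 * x 3 * (x 2)⁻¹) * (x 1)⁻¹ = x 2 * x 3 * (x 2)⁻¹ := by
      have h1 : (x 1)⁻¹ * x 3 * ((x 1)⁻¹)⁻¹ = x 3 := by
        conv_lhs => rw [← hHZ]
        group
      calc _ = (x 1 * x 2) * x 3 * (x 1 * x 2)⁻¹ := by group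
        _ = (x 2 * (x 1)⁻¹) * x 3 * (x 2 * (x 1)⁻¹)⁻¹ := by
          rw [show x 1 * x 2 = x 2 * (x 1)⁻¹ by
            calc x 1 * x 2 = (x 2 * x 1 * (x 2)⁻¹)⁻¹ * x 2 := by rw [hWH', inv_inv]
              _ = x 2 * (x 1)⁻¹ := by group]
        _ = x 2 * ((x 1)⁻¹ * x 3 * ((x 1)⁻¹)⁻¹) * (x 2)⁻¹ := by group
        _ = _ := by rw [h1]
    have hmu : pu p ∈ mvGroup z := ⟨x 0, fun a => by
      rcases a with _ | a
      · rw [hzN, show pu p (none : Pt p) = none from rfl, hzN, hUZ]
      · rw [show pu p (some a) = some (a + 1) from rfl, hzS, hzS, add_comm a 1,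
          ← hUadd 1 a, show Up (1 : ZMod p) = x 0 by simp [Up, ZMod.val_one]]
        group⟩
    have hmh : ph k ∈ mvGroup z := ⟨x 1, fun a => by
      rcases a with _ | a
      · rw [hzN, show ph k (none : Pt p) = none from rfl, hzN, hHZ]
      · rw [show ph k (some a) = some ((k : ZMod p) * a) from rfl, hzS, hzS, ← hHUp]
        conv_rhs => rw [← hH0]
        group⟩
    have hmw : pw p ∈ mvGroup z := by
      refine ⟨x 2, ?_⟩
      have base : ∀ (c : ZMod p) (y : X), y * (x 2 * x 3 * (x 2)⁻¹) * y⁻¹ = x 2 * x 3 * (x 2)⁻¹ →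
          x 2 * Up c * (x 2)⁻¹ = Up (-c⁻¹) * y * x 2 * Up (-c⁻¹) →
          x 2 * z (some c) * (x 2)⁻¹ = z (some (-c⁻¹)) := by
        intro c y hy he
        rw [hzS, hzS]
        have hu : Up (-c⁻¹) * x 3 * (Up (-c⁻¹))⁻¹ = x 3 := Zc hUZ _
        calc _ = (x 2 * Up c * (x 2)⁻¹) * ((x 2 * x 2) * x 3 * (x 2 * x 2)⁻¹) *
              (x 2 * Up c * (x 2)⁻¹)⁻¹ := by group
          _ = Up (-c⁻¹) * (y * (x 2 * (Up (-c⁻¹) * x 3 * (Up (-c⁻¹))⁻¹) * (x 2)⁻¹) * y⁻¹) *
              (Up (-c⁻¹))⁻¹ := by rw [he, hW2]; group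
          _ = _ := by rw [hu, hy]
      have all : ∀ i : ℕ, x 2 * z (some ((g : ZMod p) ^ i)) * (x 2)⁻¹ =
          z (some (-((g : ZMod p) ^ i)⁻¹)) := by
        intro i
        induction i using Nat.twoStepInduction with
        | zero =>
          rw [pow_zero]
          refine base 1 1 (by simp) ?_
          rw [mul_one, inv_one]
          simpa [Up, ZMod.val_one] using hn1
        | one =>
          rw [pow_one]
          refine base _ (x 1)⁻¹ ?_ hng
          conv_lhs => rw [← hH0]
          group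
        | more i ih _ =>
          have e : (g : ZMod p) ^ (i + 2) = (k : ZMod p) * (g : ZMod p) ^ i := by
            simp [k]; ring
          obtain ⟨y, hy⟩ := hmh
          have h1 : z (some ((g : ZMod p) ^ (i + 2))) =
              x 1 * z (some ((g : ZMod p) ^ i)) * (x 1)⁻¹ := by
            rw [e, hzS, hzS, ← hHUp]
            conv_lhs => rw [← hH0]
            group
          have h2 : z (some (-((g : ZMod p) ^ i)⁻¹)) =
              x 1 * z (some (-((g : ZMod p) ^ (i + 2))⁻¹)) * (x 1)⁻¹ := by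
            rw [hzS, hzS, show -((g : ZMod p) ^ i)⁻¹ =
              (k : ZMod p) * -((g : ZMod p) ^ (i + 2))⁻¹ by
              rw [e]; field_simp, ← hHUp]
            conv_lhs => rw [← hH0]
            group
          rw [h1]
          calc _ = (x 2 * x 1 * (x 2)⁻¹) * (x 2 * z (some ((g : ZMod p) ^ i)) * (x 2)⁻¹) *
                (x 2 * x 1 * (x 2)⁻¹)⁻¹ := by group
            _ = _ := by rw [hWH', ih, h2]; group
      intro a
      rcases a with _ | a
      · rw [pw_none, hzN, hzS]
        simp [Up]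
      · by_cases ha : a = 0
        · subst ha
          rw [pw_zero, hzN, hzS]
          conv_rhs => rw [← hW2]
          simp [Up, mul_assoc]
        · obtain ⟨i, rfl⟩ := hg a ha
          rw [pw_some ha, all]
    have hz2 : z none * z none = 1 := by rw [hzN]; exact hZ
    have move : ∀ {a b c : Pt p}, a ≠ b → a ≠ c → b ≠ c → ∃ (y : X) (π : Perm (Pt p)),
        (∀ d, y * z d * y⁻¹ = z (π d)) ∧ π none = a ∧ π (some 0) = b ∧
          (π (some 1) = c ∨ π (some (g : ZMod p)) = c) := fun hab hac hbc => by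
      obtain ⟨π, ⟨y, hy⟩, h⟩ := exists_move hmu hmh hmw hg hab hac hbc
      exact ⟨y, π, hy, h⟩
    have hcard : ∀ a b : Pt p, ∃ c, a ≠ c ∧ b ≠ c := fun a b => by
      by_contra hno
      push Not at hno
      have := Finset.card_le_card (show (Finset.univ : Finset (Pt p)) ⊆ {a, b} from fun c _ => by
        by_cases hc : a = c
        · simp [hc]
        · simp [hno c hc])
      have := Finset.card_le_two (a := a) (b := b)
      rw [Finset.card_univ, Fintype.card_option, ZMod.card] at *
      have := (Fact.out : p.Prime).two_le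
      omega
    have hsr : Star.StarRel z := by
      refine ⟨fun a => ?_, fun {a b} hab => ?_, fun {a b c} hab hac hbc => ?_⟩
      · obtain ⟨b, hb, -⟩ := hcard a a
        obtain ⟨c, hc, hc'⟩ := hcard a b
        obtain ⟨y, π, hy, rfl, -, -⟩ := move hb hc hc'
        rw [← hy]
        calc _ = y * (z none * z none) * y⁻¹ := by group
          _ = 1 := by rw [hz2, mul_one, mul_inv_cancel]
      · obtain ⟨c, hc, hc'⟩ := hcard a b
        obtain ⟨y, π, hy, rfl, rfl, -⟩ := move hab hc hc'
        rw [← hy, ← hy, conj_braid]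
        rw [show (z none * z (some 0)) ^ 3 = 1 by rw [hzN]; exact hbr, mul_one, mul_inv_cancel]
      · obtain ⟨y, π, hy, rfl, rfl, h | h⟩ := move hab hac hbc <;> subst h <;>
          rw [← hy, ← hy, ← hy, conj_comm]
        · rw [show (z none * z (some 0) * z none * z (some 1)) ^ 2 = 1 by rw [hzN]; exact hc1,
            mul_one, mul_inv_cancel]
        · rw [show (z none * z (some 0) * z none * z (some (g : ZMod p))) ^ 2 = 1 by
            rw [hzN]; exact hcg, mul_one, mul_inv_cancel]
    obtain ⟨φ, hφ⟩ := Star.exists_hom hsr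
    have hφw : ∀ π, φ π = FreeGroup.lift x (sub (wd π)) := fun π => by
      conv_lhs => rw [← hwd π]
      exact DFunLike.congr_fun (FreeGroup.ext_hom (φ.comp (FreeGroup.lift st))
        ((FreeGroup.lift x).comp sub) fun a => by simp [sub, hφ, z, st]) (wd π)
    refine ⟨φ, fun i => ?_⟩
    fin_cases i
    · exact (hφw _).trans hwu.symm
    · exact (hφw _).trans hwh.symm
    · exact (hφw _).trans hww.symm
    · exact (hφ none).trans hzN

/-- The symmetric group has fifteen relations. -/
theorem hasPres_perm (hp2 : p ≠ 2) : HasPres (Perm (Option (Pt p))) 15 :=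
  let ⟨_, _, hL, h⟩ := presData_perm hp2
  h.hasPres hL

end CfsgLib.Pres.SymStar
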